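import Cfsg.Agent.Lib.RigidGraph.J3.Nodes
import Cfsg.Agent.Lib.RigidGraph.J3.Outer
import Cfsg.Agent.Lib.RigidGraph.J3.Copies
import Cfsg.Agent.Lib.RigidGraph.Chunked

/-! The copies agree. -/

set_option autoImplicit false
set_option maxRecDepth 100000
set_option Elab.async false

namespace Cfsg.Agent.RigidGraph.J3

theorem copy0_ok : copyOK 6156 (nodes.getD 0 (0, 0)).1 copy0 = true := by decide +kernel

theorem copy1_ok : copyOK 6156 (nodes.getD 1 (0, 0)).1 copy1 = true := by decide +kernel

theorem copyO_ok : copyOK 6156 outer.1 copyO = true := by decide +kernel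

theorem outer_perm : permOK 6156 outer = true := by decide +kernel

end Cfsg.Agent.RigidGraph.J3
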