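import Cfsg.Agent.Lib.RigidGraph.J3.Cert
import Cfsg.Agent.Lib.RigidGraph.Main

/-! The suborbits. -/

set_option autoImplicit false
set_option maxRecDepth 100000
set_option Elab.async false

namespace Cfsg.Agent.RigidGraph.J3

/-- generators of the stabiliser of the first point -/
theorem cover_ok : coverOK 6156 nodes 0 [152, 276] cover = true := by decide +kernel

end Cfsg.Agent.RigidGraph.J3
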