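import Cfsg.Agent.Lib.RigidGraph.J3.Orient
import Cfsg.Agent.Lib.RigidGraph.J3.Roots1
import Cfsg.Agent.Lib.RigidGraph.J3.Copies
import Cfsg.Agent.Lib.RigidGraph.Chunked

/-! Even action on ordered rows. -/

set_option autoImplicit false
set_option maxRecDepth 100000
set_option Elab.async false

namespace Cfsg.Agent.RigidGraph.J3

theorem even1_1_ok : rangeB (evenT 85 rowsO roots1 copy1) 2052 2052 = true := by decide +kernel

end Cfsg.Agent.RigidGraph.J3
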