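import Cfsg.Agent.Lib.RigidGraph.J3.RowsB
import Cfsg.Agent.Lib.RigidGraph.J3.RowsN
import Cfsg.Agent.Lib.RigidGraph.J3.Cert
import Cfsg.Agent.Lib.RigidGraph.Chunked
import Cfsg.Agent.Lib.RigidGraph.J3.Copies

/-! Rows of the graph, and their images. -/

set_option autoImplicit false
set_option maxRecDepth 100000
set_option Elab.async false

namespace Cfsg.Agent.RigidGraph.J3

theorem graph2_ok : rangeB (graphRow 6156 graph) 4104 2052 = true := by decide +kernel

theorem aut0_2_ok : rangeB (autT graph copy0) 4104 2052 = true := by decide +kernel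

theorem aut1_2_ok : rangeB (autT graph copy1) 4104 2052 = true := by decide +kernel

theorem autO_2_ok : rangeB (autT graph copyO) 4104 2052 = true := by decide +kernel

end Cfsg.Agent.RigidGraph.J3
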