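import Cfsg.Agent.Lib.RigidGraph.J3.Orient
import Cfsg.Agent.Lib.RigidGraph.J3.Outer
import Cfsg.Agent.Lib.RigidGraph.Chunked

/-! The ordered rows, and the odd witness. -/

set_option autoImplicit false
set_option maxRecDepth 100000
set_option Elab.async false

namespace Cfsg.Agent.RigidGraph.J3

theorem rows_ok : rowsDistinct 6156 85 rowsO = true := by decide +kernel

theorem odd_ok : oddOK 85 rowsO 0 outerRoot outer.1 = true := by decide +kernel

end Cfsg.Agent.RigidGraph.J3
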