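import Cfsg.Agent.Lib.RigidGraph.Defs

/-! Propagation of fixed points. -/

set_option autoImplicit false
set_option maxRecDepth 100000
set_option Elab.async false

namespace Cfsg.Agent.RigidGraph.J3

def steps0 : List (ℕ × List (ℕ × Bool)) := [(5316, [(0, true), (63, true)]),
  (6006, [(3, true), (4751, true)]),
  (2487, [(0, true), (6006, true)]),
  (4911, [(3, true), (5316, true)]),
  (2535, [(63, true), (6006, true)]),
  (5113, [(4751, true), (5316, true)]),
  (2806, [(0, true), (4911, true)]),
  (898, [(0, true), (5113, true)]),
  (1631, [(3, true), (2487, true)]),
  (4855, [(3, true), (2535, true)]),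
  (5337, [(63, true), (4911, true)]),
  (588, [(63, true), (5113, true)]),
  (642, [(4751, true), (2487, true)]),
  (1463, [(4751, true), (2535, true)]),
  (5569, [(0, true), (1631, true)]),
  (5286, [(0, true), (642, true)]),
  (3113, [(3, true), (2806, true)]),
  (4455, [(3, true), (5337, true)]),
  (1980, [(63, true), (4855, true)]),
  (205, [(63, true), (1463, true)]),
  (4717, [(4751, true), (898, true)]),
  (5062, [(4751, true), (588, true)]),
  (5447, [(5316, true), (2806, true)]),
  (2211, [(5316, true), (898, true)]),
  (1471, [(5316, true), (1631, true), (1463, true)]),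
  (5004, [(5316, true), (1631, true)]),
  (5035, [(5316, true), (4855, true), (642, true)]),
  (2532, [(5316, true), (4855, true)]),
  (798, [(5316, true), (5337, true)]),
  (4767, [(5316, true), (588, true)]),
  (614, [(5316, true), (642, true)]),
  (2046, [(5316, true), (1463, true)]),
  (733, [(6006, true), (2806, true), (588, true)]),
  (5965, [(6006, true), (2806, true)]),
  (5854, [(6006, true), (898, true), (5337, true)]),
  (5832, [(6006, true), (898, true)]),
  (3314, [(6006, true), (1631, true)]),
  (4990, [(6006, true), (4855, true)]),
  (992, [(6006, true), (5337, true)]),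
  (1364, [(6006, true), (588, true)]),
  (2804, [(6006, true), (642, true)]),
  (671, [(6006, true), (1463, true)]),
  (3884, [(2487, true), (4911, true), (588, true)]),
  (3796, [(2487, true), (4911, true)]),
  (4083, [(2487, true), (5113, true), (4855, true)]),
  (522, [(2487, true), (5113, true)]),
  (3537, [(2487, true), (2806, true), (1463, true)]),
  (158, [(2487, true), (2806, true)]),
  (5608, [(2487, true), (898, true), (4855, true)]),
  (4906, [(2487, true), (898, true)]),
  (99, [(4911, true), (2535, true), (898, true)]),
  (4074, [(4911, true), (2535, true)]),
  (171, [(4911, true), (898, true)]),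
  (958, [(4911, true), (1631, true), (588, true)]),
  (1242, [(4911, true), (1631, true)]),
  (1526, [(4911, true), (4855, true)]),
  (1399, [(2535, true), (5113, true), (2806, true)]),
  (343, [(2535, true), (5113, true)]),
  (2838, [(2535, true), (1631, true)]),
  (4423, [(2535, true), (5337, true), (642, true)]),
  (2873, [(2535, true), (5337, true)]),
  (4393, [(2535, true), (588, true)]),
  (5620, [(5113, true), (2806, true)]),
  (5671, [(5113, true), (5337, true)]),
  (5186, [(5113, true), (642, true)]),
  (4543, [(5113, true), (1463, true)]),
  (3875, [(0, true), (3113, true)]),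
  (2088, [(0, true), (1980, true), (671, true)]),
  (16, [(0, true), (1980, true)]),
  (1404, [(0, true), (205, true), (4990, true)]),
  (4410, [(0, true), (205, true)]),
  (4241, [(0, true), (4717, true)]),
  (5048, [(0, true), (5447, true)]),
  (2984, [(0, true), (2211, true)]),
  (1345, [(0, true), (1471, true)]),
  (4024, [(0, true), (5004, true)]),
  (1246, [(0, true), (5035, true)]),
  (1265, [(0, true), (2532, true)]),
  (327, [(0, true), (614, true)]),
  (4200, [(0, true), (2046, true)]),
  (762, [(0, true), (733, true)]),
  (4153, [(0, true), (5965, true)]),
  (440, [(0, true), (5854, true)]),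
  (1942, [(0, true), (5832, true)]),
  (3154, [(0, true), (3796, true)]),
  (4320, [(0, true), (4083, true)]),
  (899, [(0, true), (3537, true)]),
  (2766, [(0, true), (5608, true)]),
  (1639, [(0, true), (4074, true)]),
  (4573, [(0, true), (343, true)]),
  (3663, [(3, true), (5569, true)]),
  (216, [(3, true), (1980, true)]),
  (6022, [(3, true), (4717, true), (4767, true)]),
  (4795, [(3, true), (4717, true)]),
  (2886, [(3, true), (5062, true), (2211, true)]),
  (2884, [(3, true), (5062, true)]),
  (5374, [(3, true), (1471, true), (5832, true)]),
  (2215, [(3, true), (1471, true)]),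
  (1899, [(3, true), (5004, true)]),
  (251, [(3, true), (5035, true), (1364, true)]),
  (1627, [(3, true), (5035, true)]),
  (3998, [(3, true), (2532, true)]),
  (3197, [(3, true), (733, true)]),
  (3958, [(3, true), (5965, true), (4990, true)]),
  (5601, [(3, true), (5965, true)]),
  (4167, [(3, true), (5854, true)]),
  (4317, [(3, true), (3314, true)]),
  (1187, [(3, true), (992, true)]),
  (1637, [(3, true), (3884, true)]),
  (2986, [(3, true), (522, true)]),
  (4633, [(3, true), (5608, true)]),
  (3478, [(3, true), (99, true)]),
  (2661, [(3, true), (171, true)]),
  (665, [(3, true), (1399, true)]),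
  (6124, [(63, true), (5569, true), (2804, true)]),
  (2131, [(63, true), (5569, true)]),
  (4513, [(63, true), (5286, true), (3314, true)]),
  (1733, [(63, true), (5286, true)]),
  (3245, [(63, true), (4455, true)]),
  (1084, [(63, true), (5062, true)]),
  (3588, [(63, true), (1471, true)]),
  (558, [(63, true), (5004, true)]),
  (3013, [(63, true), (5035, true)]),
  (4251, [(63, true), (2532, true), (4767, true)]),
  (227, [(63, true), (2532, true)]),
  (28, [(63, true), (798, true)]),
  (2201, [(63, true), (614, true)]),
  (5190, [(63, true), (2046, true)]),
  (5792, [(63, true), (733, true)]),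
  (2707, [(63, true), (5854, true)]),
  (2033, [(63, true), (992, true)]),
  (37, [(63, true), (1364, true)]),
  (480, [(63, true), (3796, true)]),
  (1020, [(63, true), (4083, true)]),
  (2969, [(63, true), (4074, true)]),
  (4002, [(63, true), (958, true)]),
  (3934, [(63, true), (343, true)]),
  (4713, [(63, true), (2838, true)]),
  (2202, [(4751, true), (5286, true)]),
  (1961, [(4751, true), (3113, true), (798, true)]),
  (6057, [(4751, true), (3113, true)]),
  (1927, [(4751, true), (4455, true), (5447, true)]),
  (4192, [(4751, true), (4455, true)]),
  (1671, [(4751, true), (205, true)]),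
  (666, [(4751, true), (1471, true), (992, true)]),
  (3468, [(4751, true), (1471, true)]),
  (2847, [(4751, true), (5035, true), (5965, true)]),
  (5632, [(4751, true), (5035, true)]),
  (1487, [(4751, true), (614, true)]),
  (3451, [(4751, true), (2046, true)])]

def steps1 : List (ℕ × List (ℕ × Bool)) := [(4388, [(4751, true), (733, true)]),
  (103, [(4751, true), (5854, true)]),
  (1373, [(4751, true), (5832, true), (671, true)]),
  (521, [(4751, true), (5832, true)]),
  (2735, [(4751, true), (1364, true), (2804, true)]),
  (782, [(4751, true), (1364, true)]),
  (4108, [(4751, true), (3884, true)]),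
  (118, [(4751, true), (522, true)]),
  (930, [(4751, true), (3537, true)]),
  (3390, [(4751, true), (99, true)]),
  (1641, [(4751, true), (1399, true)]),
  (5395, [(4751, true), (4423, true)]),
  (1002, [(5316, true), (5569, true)]),
  (4195, [(5316, true), (5286, true)]),
  (5824, [(5316, true), (1980, true)]),
  (570, [(5316, true), (205, true)]),
  (974, [(5316, true), (733, true)]),
  (5786, [(5316, true), (5965, true)]),
  (5228, [(5316, true), (5854, true)]),
  (716, [(5316, true), (5832, true)]),
  (1884, [(5316, true), (3314, true), (1526, true)]),
  (391, [(5316, true), (3314, true)]),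
  (3042, [(5316, true), (4990, true), (1242, true)]),
  (1958, [(5316, true), (4990, true)]),
  (4558, [(5316, true), (992, true)]),
  (2060, [(5316, true), (1364, true)]),
  (4380, [(5316, true), (2804, true), (4543, true)]),
  (2723, [(5316, true), (2804, true)]),
  (4924, [(5316, true), (671, true), (5186, true)]),
  (4010, [(5316, true), (671, true)]),
  (4528, [(5316, true), (3884, true)]),
  (5522, [(5316, true), (3796, true)]),
  (649, [(5316, true), (4083, true)]),
  (2462, [(5316, true), (522, true)]),
  (4854, [(5316, true), (158, true)]),
  (2573, [(5316, true), (4906, true)]),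
  (2120, [(5316, true), (99, true)]),
  (1816, [(5316, true), (1526, true)]),
  (2240, [(6006, true), (3113, true)]),
  (4386, [(6006, true), (4455, true)]),
  (4664, [(6006, true), (4717, true)]),
  (1013, [(6006, true), (5062, true)]),
  (5303, [(6006, true), (5447, true), (4906, true)]),
  (2813, [(6006, true), (5447, true)]),
  (4691, [(6006, true), (2211, true), (158, true)]),
  (1016, [(6006, true), (2211, true)]),
  (1248, [(6006, true), (1471, true)]),
  (1550, [(6006, true), (5004, true)]),
  (36, [(6006, true), (5035, true)]),
  (1021, [(6006, true), (2532, true)]),
  (4242, [(6006, true), (798, true), (4393, true)]),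
  (4183, [(6006, true), (798, true)]),
  (3822, [(6006, true), (4767, true), (2873, true)]),
  (3164, [(6006, true), (4767, true)]),
  (2928, [(6006, true), (614, true)]),
  (5233, [(6006, true), (2046, true)]),
  (551, [(6006, true), (3884, true)]),
  (5543, [(6006, true), (3796, true)]),
  (3583, [(6006, true), (4083, true)]),
  (2423, [(6006, true), (522, true)]),
  (5427, [(6006, true), (158, true)]),
  (6052, [(6006, true), (4906, true)]),
  (1878, [(6006, true), (99, true)]),
  (1578, [(6006, true), (1242, true)]),
  (5226, [(2487, true), (5569, true)]),
  (3196, [(2487, true), (5286, true)]),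
  (4065, [(2487, true), (3113, true)]),
  (2825, [(2487, true), (4455, true), (5035, true)]),
  (1603, [(2487, true), (4455, true), (2873, true)]),
  (5055, [(2487, true), (4455, true)]),
  (5089, [(2487, true), (1980, true), (958, true)]),
  (932, [(2487, true), (1980, true)]),
  (4883, [(2487, true), (205, true), (5671, true)]),
  (903, [(2487, true), (205, true)]),
  (1503, [(2487, true), (4717, true)]),
  (3199, [(2487, true), (5062, true), (1471, true)]),
  (583, [(2487, true), (5062, true), (4393, true)]),
  (5964, [(2487, true), (5062, true)]),
  (1455, [(2487, true), (5447, true), (2211, true)]),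
  (3101, [(2487, true), (5447, true), (1364, true)]),
  (5950, [(2487, true), (5447, true)]),
  (3949, [(2487, true), (2211, true), (992, true)]),
  (1696, [(2487, true), (2211, true)]),
  (2681, [(2487, true), (1471, true)]),
  (485, [(2487, true), (5004, true)]),
  (587, [(2487, true), (5035, true)]),
  (5656, [(2487, true), (614, true)]),
  (3232, [(2487, true), (5965, true), (4074, true)]),
  (449, [(2487, true), (5965, true), (1526, true)]),
  (3388, [(2487, true), (5965, true)]),
  (6043, [(2487, true), (5832, true), (343, true)]),
  (2743, [(2487, true), (5832, true), (4543, true)]),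
  (3229, [(2487, true), (5832, true)]),
  (5473, [(2487, true), (4990, true)]),
  (2971, [(2487, true), (992, true)]),
  (3814, [(2487, true), (1364, true)]),
  (728, [(2487, true), (671, true)]),
  (960, [(2487, true), (171, true), (5620, true)]),
  (4941, [(2487, true), (171, true)]),
  (5752, [(2487, true), (1526, true)]),
  (13, [(2487, true), (2838, true)]),
  (3246, [(2487, true), (4423, true)]),
  (5514, [(2487, true), (2873, true)]),
  (3619, [(2487, true), (5620, true)]),
  (3514, [(4911, true), (5569, true), (4455, true)]),
  (1957, [(4911, true), (5569, true)]),
  (2059, [(4911, true), (5286, true), (5854, true)]),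
  (5138, [(4911, true), (5286, true), (5186, true)]),
  (4245, [(4911, true), (5286, true)]),
  (2437, [(4911, true), (3113, true)]),
  (726, [(4911, true), (1980, true)]),
  (1599, [(4911, true), (205, true), (733, true)]),
  (5181, [(4911, true), (205, true), (4543, true)]),
  (3968, [(4911, true), (205, true)]),
  (1628, [(4911, true), (4717, true), (3537, true)]),
  (668, [(4911, true), (4717, true)]),
  (3512, [(4911, true), (5062, true), (4423, true)]),
  (93, [(4911, true), (5062, true)]),
  (71, [(4911, true), (5447, true)]),
  (549, [(4911, true), (2211, true)]),
  (1616, [(4911, true), (5004, true), (522, true)]),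
  (2577, [(4911, true), (5004, true), (4906, true)]),
  (3335, [(4911, true), (5004, true)]),
  (1748, [(4911, true), (2532, true), (1399, true)]),
  (5195, [(4911, true), (2532, true), (4393, true)]),
  (4073, [(4911, true), (2532, true)]),
  (3351, [(4911, true), (798, true)]),
  (683, [(4911, true), (4767, true)]),
  (2567, [(4911, true), (614, true), (4990, true)]),
  (2602, [(4911, true), (614, true)]),
  (799, [(4911, true), (2046, true), (3314, true)]),
  (1129, [(4911, true), (2046, true)]),
  (2543, [(4911, true), (5965, true)]),
  (5769, [(4911, true), (3314, true), (4990, true)]),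
  (4462, [(4911, true), (3314, true)]),
  (3634, [(4911, true), (4990, true)]),
  (3206, [(4911, true), (992, true)]),
  (134, [(4911, true), (5608, true), (2838, true)]),
  (5888, [(4911, true), (5608, true)]),
  (5103, [(4911, true), (4906, true)]),
  (1618, [(4911, true), (2838, true)]),
  (1088, [(4911, true), (5620, true)]),
  (3173, [(4911, true), (5671, true)]),
  (3008, [(4911, true), (5186, true)]),
  (4580, [(2535, true), (5569, true), (171, true)]),
  (4177, [(2535, true), (5569, true)]),
  (5490, [(2535, true), (5286, true), (5620, true)]),
  (1386, [(2535, true), (5286, true)]),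
  (3352, [(2535, true), (3113, true), (1471, true)]),
  (5998, [(2535, true), (3113, true), (158, true)])]

def steps2 : List (ℕ × List (ℕ × Bool)) := [(957, [(2535, true), (3113, true)]),
  (789, [(2535, true), (4455, true), (205, true)]),
  (2888, [(2535, true), (4455, true)]),
  (233, [(2535, true), (1980, true)]),
  (5254, [(2535, true), (4717, true), (5035, true)]),
  (3643, [(2535, true), (4717, true), (4906, true)]),
  (784, [(2535, true), (4717, true)]),
  (697, [(2535, true), (5062, true)]),
  (5588, [(2535, true), (1471, true)]),
  (2915, [(2535, true), (5035, true)]),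
  (2483, [(2535, true), (2532, true)]),
  (378, [(2535, true), (798, true), (4767, true)]),
  (1579, [(2535, true), (798, true), (5832, true)]),
  (3062, [(2535, true), (798, true)]),
  (5137, [(2535, true), (4767, true), (5965, true)]),
  (1783, [(2535, true), (4767, true)]),
  (4279, [(2535, true), (2046, true)]),
  (3961, [(2535, true), (5965, true)]),
  (3541, [(2535, true), (5832, true)]),
  (1077, [(2535, true), (3314, true)]),
  (3758, [(2535, true), (992, true), (3796, true)]),
  (1057, [(2535, true), (992, true), (1242, true)]),
  (1812, [(2535, true), (992, true)]),
  (823, [(2535, true), (1364, true), (4083, true)]),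
  (2070, [(2535, true), (1364, true), (5186, true)]),
  (481, [(2535, true), (1364, true)]),
  (4217, [(2535, true), (2804, true)]),
  (2287, [(2535, true), (3537, true)]),
  (4771, [(2535, true), (158, true)]),
  (4716, [(2535, true), (5608, true)]),
  (5071, [(2535, true), (958, true), (5671, true)]),
  (4117, [(2535, true), (958, true)]),
  (5991, [(2535, true), (1242, true)]),
  (5945, [(2535, true), (5671, true)]),
  (2720, [(5113, true), (5569, true), (733, true)]),
  (536, [(5113, true), (5569, true), (1242, true)]),
  (1001, [(5113, true), (5569, true)]),
  (1426, [(5113, true), (5286, true), (5062, true)]),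
  (3133, [(5113, true), (5286, true)]),
  (1326, [(5113, true), (3113, true), (5608, true)]),
  (475, [(5113, true), (3113, true)]),
  (1162, [(5113, true), (4455, true), (2838, true)]),
  (1935, [(5113, true), (4455, true)]),
  (4371, [(5113, true), (1980, true), (5854, true)]),
  (4342, [(5113, true), (1980, true), (1526, true)]),
  (1815, [(5113, true), (1980, true)]),
  (4508, [(5113, true), (205, true), (4717, true)]),
  (232, [(5113, true), (205, true)]),
  (5314, [(5113, true), (5447, true)]),
  (1856, [(5113, true), (2211, true)]),
  (11, [(5113, true), (5004, true), (671, true)]),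
  (330, [(5113, true), (5004, true)]),
  (2450, [(5113, true), (2532, true), (2804, true)]),
  (5566, [(5113, true), (2532, true)]),
  (4066, [(5113, true), (798, true)]),
  (902, [(5113, true), (4767, true)]),
  (5534, [(5113, true), (614, true), (3884, true)]),
  (2858, [(5113, true), (614, true), (158, true)]),
  (996, [(5113, true), (614, true)]),
  (459, [(5113, true), (2046, true), (99, true)]),
  (1894, [(5113, true), (2046, true), (2873, true)]),
  (1916, [(5113, true), (2046, true)]),
  (1966, [(5113, true), (5832, true)]),
  (5452, [(5113, true), (1364, true)]),
  (1318, [(5113, true), (2804, true), (671, true)]),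
  (4164, [(5113, true), (2804, true)]),
  (2171, [(5113, true), (671, true)]),
  (3086, [(5113, true), (3537, true), (4423, true)]),
  (5716, [(5113, true), (3537, true)]),
  (779, [(5113, true), (158, true)]),
  (3920, [(5113, true), (171, true)]),
  (5935, [(5113, true), (958, true)]),
  (2904, [(5113, true), (1242, true)]),
  (5, [(5113, true), (4423, true)]),
  (1532, [(2806, true), (898, true), (4455, true)]),
  (224, [(2806, true), (898, true)]),
  (4333, [(2806, true), (1631, true), (4423, true)]),
  (6067, [(2806, true), (1631, true)]),
  (6112, [(2806, true), (4855, true), (5569, true)]),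
  (5785, [(2806, true), (4855, true), (4423, true)]),
  (2460, [(2806, true), (4855, true)]),
  (3284, [(2806, true), (642, true), (4717, true)]),
  (6037, [(2806, true), (642, true), (958, true)]),
  (4098, [(2806, true), (642, true)]),
  (1160, [(2806, true), (1463, true), (1242, true)]),
  (3483, [(2806, true), (1463, true)]),
  (1247, [(2806, true), (5569, true), (5832, true)]),
  (3359, [(2806, true), (5569, true)]),
  (1904, [(2806, true), (5286, true), (1364, true)]),
  (5615, [(2806, true), (5286, true)]),
  (4563, [(2806, true), (1980, true), (2211, true)]),
  (428, [(2806, true), (1980, true)]),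
  (5030, [(2806, true), (4717, true), (4074, true)]),
  (3327, [(2806, true), (4717, true)]),
  (6050, [(2806, true), (5062, true), (2838, true)]),
  (39, [(2806, true), (5062, true)]),
  (3751, [(2806, true), (2211, true)]),
  (3526, [(2806, true), (1471, true), (4990, true)]),
  (4187, [(2806, true), (1471, true)]),
  (869, [(2806, true), (5035, true), (588, false)]),
  (2609, [(2806, true), (2532, true), (4423, true)]),
  (889, [(2806, true), (2532, true)]),
  (116, [(2806, true), (2046, true), (171, true)]),
  (167, [(2806, true), (5832, true)]),
  (5079, [(2806, true), (992, true)]),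
  (2307, [(2806, true), (1364, true)]),
  (66, [(2806, true), (2804, true)]),
  (2946, [(2806, true), (3796, true), (2838, true)]),
  (1415, [(2806, true), (3796, true)]),
  (6035, [(2806, true), (4083, true)]),
  (3182, [(2806, true), (4074, true)]),
  (5772, [(2806, true), (171, true), (4393, true)]),
  (3757, [(2806, true), (171, true)]),
  (3575, [(2806, true), (958, true)]),
  (5892, [(2806, true), (1242, true)]),
  (4059, [(2806, true), (1526, true)]),
  (2849, [(2806, true), (343, true)]),
  (4223, [(2806, true), (2873, true)]),
  (3908, [(898, true), (1631, true), (3113, true)]),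
  (5734, [(898, true), (1631, true), (5671, true)]),
  (1739, [(898, true), (1631, true)]),
  (1019, [(898, true), (4855, true), (2873, true)]),
  (2061, [(898, true), (4855, true)]),
  (5634, [(898, true), (642, true), (958, true)]),
  (629, [(898, true), (642, true)]),
  (4635, [(898, true), (1463, true), (5286, true)]),
  (3259, [(898, true), (1463, true), (2838, true)]),
  (5494, [(898, true), (1463, true)]),
  (1541, [(898, true), (5569, true), (992, true)]),
  (4527, [(898, true), (5569, true)]),
  (1119, [(898, true), (5286, true), (5965, true)]),
  (1684, [(898, true), (5286, true)]),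
  (4150, [(898, true), (3113, true), (343, true)]),
  (1405, [(898, true), (3113, true)]),
  (1844, [(898, true), (4455, true), (1526, true)]),
  (5475, [(898, true), (4455, true)]),
  (4381, [(898, true), (205, true), (5447, true)]),
  (3540, [(898, true), (205, true)]),
  (5357, [(898, true), (5447, true)]),
  (4394, [(898, true), (1471, true), (5337, false)]),
  (3939, [(898, true), (5035, true), (671, true)]),
  (4340, [(898, true), (5035, true)]),
  (1305, [(898, true), (2532, true), (958, true)]),
  (4859, [(898, true), (2046, true), (2838, true)]),
  (3601, [(898, true), (2046, true)]),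
  (1397, [(898, true), (5965, true)]),
  (2973, [(898, true), (3314, true)]),
  (1346, [(898, true), (4990, true), (1364, true)]),
  (5409, [(898, true), (992, true)]),
  (4779, [(898, true), (3796, true)])]

def steps3 : List (ℕ × List (ℕ × Bool)) := [(2478, [(898, true), (4083, true), (4423, true)]),
  (4190, [(898, true), (4083, true)]),
  (1307, [(898, true), (4074, true)]),
  (4258, [(898, true), (343, true)]),
  (4126, [(898, true), (2873, true)]),
  (5720, [(898, true), (4393, true)]),
  (2282, [(898, true), (5620, true)]),
  (5637, [(898, true), (5671, true)]),
  (5006, [(898, true), (5186, true)]),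
  (5635, [(898, true), (4543, true)]),
  (1458, [(1631, true), (4855, true), (5286, true)]),
  (2264, [(1631, true), (4855, true)]),
  (5321, [(1631, true), (5337, true), (1980, true)]),
  (1000, [(1631, true), (5337, true), (3537, true)]),
  (1409, [(1631, true), (5337, true)]),
  (776, [(1631, true), (588, true), (158, true)]),
  (2805, [(1631, true), (588, true)]),
  (4413, [(1631, true), (3113, true), (2532, true)]),
  (4650, [(1631, true), (3113, true)]),
  (2708, [(1631, true), (4455, true), (2046, true)]),
  (1035, [(1631, true), (4455, true)]),
  (146, [(1631, true), (1980, true), (522, true)]),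
  (4284, [(1631, true), (1980, true)]),
  (1159, [(1631, true), (205, true), (4393, true)]),
  (114, [(1631, true), (205, true)]),
  (565, [(1631, true), (4717, true), (614, true)]),
  (1500, [(1631, true), (4717, true)]),
  (3299, [(1631, true), (2211, true), (733, true)]),
  (1718, [(1631, true), (2532, true)]),
  (2598, [(1631, true), (798, true), (4990, true)]),
  (919, [(1631, true), (798, true)]),
  (1660, [(1631, true), (4767, true), (614, true)]),
  (852, [(1631, true), (2046, true)]),
  (4481, [(1631, true), (733, true)]),
  (5482, [(1631, true), (5854, true), (1463, false)]),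
  (5459, [(1631, true), (5832, true), (5671, true)]),
  (940, [(1631, true), (5832, true)]),
  (4877, [(1631, true), (1364, true), (5608, true)]),
  (2233, [(1631, true), (3884, true), (5620, true)]),
  (1429, [(1631, true), (3884, true)]),
  (3420, [(1631, true), (522, true)]),
  (4405, [(1631, true), (3537, true)]),
  (474, [(1631, true), (158, true)]),
  (4026, [(1631, true), (5608, true), (4543, true)]),
  (3704, [(1631, true), (5608, true)]),
  (4227, [(1631, true), (4906, true)]),
  (3353, [(1631, true), (99, true)]),
  (2049, [(1631, true), (1399, true)]),
  (777, [(1631, true), (5186, true)]),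
  (1890, [(4855, true), (5337, true), (3537, true)]),
  (4537, [(4855, true), (5337, true)]),
  (1978, [(4855, true), (588, true), (4455, true)]),
  (108, [(4855, true), (588, true), (5620, true)]),
  (3957, [(4855, true), (588, true)]),
  (3753, [(4855, true), (5569, true), (1399, true)]),
  (2790, [(4855, true), (5569, true)]),
  (5823, [(4855, true), (5286, true), (4906, true)]),
  (5260, [(4855, true), (5286, true)]),
  (801, [(4855, true), (3113, true), (614, true)]),
  (1664, [(4855, true), (3113, true)]),
  (5765, [(4855, true), (4455, true), (5004, true)]),
  (3253, [(4855, true), (4455, true)]),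
  (2308, [(4855, true), (5062, true), (2046, true)]),
  (2499, [(4855, true), (5062, true)]),
  (4364, [(4855, true), (5447, true), (3314, true)]),
  (5087, [(4855, true), (5447, true)]),
  (4464, [(4855, true), (2211, true), (2046, true)]),
  (4328, [(4855, true), (5004, true)]),
  (507, [(4855, true), (4767, true), (5854, true)]),
  (2417, [(4855, true), (614, true)]),
  (6143, [(4855, true), (733, true), (642, false)]),
  (5883, [(4855, true), (5854, true)]),
  (3241, [(4855, true), (5832, true), (3537, true)]),
  (4315, [(4855, true), (1364, true), (5620, true)]),
  (3333, [(4855, true), (1364, true)]),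
  (3098, [(4855, true), (3884, true)]),
  (1385, [(4855, true), (522, true)]),
  (3811, [(4855, true), (99, true), (5671, true)]),
  (3409, [(4855, true), (99, true)]),
  (2616, [(4855, true), (1399, true)]),
  (4047, [(4855, true), (2838, true), (5186, true)]),
  (1137, [(4855, true), (2838, true)]),
  (5879, [(4855, true), (4423, true)]),
  (836, [(4855, true), (2873, true)]),
  (4812, [(4855, true), (4393, true)]),
  (1161, [(4855, true), (4543, true)]),
  (175, [(5337, true), (588, true), (3113, true)]),
  (4852, [(5337, true), (588, true)]),
  (2484, [(5337, true), (642, true), (4906, true)]),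
  (2517, [(5337, true), (642, true)]),
  (4531, [(5337, true), (1463, true), (5062, true)]),
  (3642, [(5337, true), (1463, true), (171, true)]),
  (1635, [(5337, true), (1463, true)]),
  (5106, [(5337, true), (5569, true), (4767, true)]),
  (5560, [(5337, true), (5569, true)]),
  (333, [(5337, true), (1980, true), (1364, true)]),
  (2017, [(5337, true), (1980, true)]),
  (1070, [(5337, true), (205, true), (5832, true)]),
  (772, [(5337, true), (205, true)]),
  (4437, [(5337, true), (4717, true), (5608, true)]),
  (2519, [(5337, true), (4717, true)]),
  (2857, [(5337, true), (5062, true), (3796, true)]),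
  (1829, [(5337, true), (5062, true)]),
  (4827, [(5337, true), (1471, true), (898, false)]),
  (633, [(5337, true), (5004, true), (3537, true)]),
  (2853, [(5337, true), (5004, true)]),
  (4610, [(5337, true), (5035, true), (3314, true)]),
  (2779, [(5337, true), (5035, true)]),
  (4699, [(5337, true), (4767, true)]),
  (2110, [(5337, true), (614, true), (958, true)]),
  (176, [(5337, true), (5965, true)]),
  (755, [(5337, true), (5832, true)]),
  (4951, [(5337, true), (1364, true)]),
  (3187, [(5337, true), (671, true)]),
  (1277, [(5337, true), (3796, true)]),
  (5236, [(5337, true), (4083, true)]),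
  (1360, [(5337, true), (158, true)]),
  (6109, [(5337, true), (5608, true)]),
  (550, [(5337, true), (4906, true)]),
  (2433, [(5337, true), (4074, true)]),
  (3555, [(5337, true), (171, true)]),
  (5076, [(5337, true), (958, true)]),
  (3079, [(5337, true), (1242, true)]),
  (211, [(5337, true), (1526, true)]),
  (1491, [(5337, true), (343, true)]),
  (4184, [(588, true), (642, true), (205, true)]),
  (1100, [(588, true), (642, true), (5608, true)]),
  (3109, [(588, true), (642, true)]),
  (3366, [(588, true), (1463, true), (5608, true)]),
  (319, [(588, true), (1463, true)]),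
  (3294, [(588, true), (5286, true), (798, true)]),
  (275, [(588, true), (5286, true)]),
  (3940, [(588, true), (3113, true), (3537, true)]),
  (5105, [(588, true), (3113, true)]),
  (3462, [(588, true), (4455, true), (4083, true)]),
  (237, [(588, true), (4455, true)]),
  (3793, [(588, true), (1980, true), (5965, true)]),
  (1521, [(588, true), (1980, true)]),
  (3926, [(588, true), (205, true), (992, true)]),
  (1005, [(588, true), (205, true)]),
  (544, [(588, true), (1471, true), (2804, true)]),
  (2921, [(588, true), (1471, true)]),
  (504, [(588, true), (5004, true), (171, true)]),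
  (296, [(588, true), (5035, true), (2806, false)]),
  (3320, [(588, true), (798, true)]),
  (5753, [(588, true), (614, true), (5608, true)]),
  (4450, [(588, true), (614, true)]),
  (3728, [(588, true), (5965, true)]),
  (1117, [(588, true), (5832, true)]),
  (4149, [(588, true), (4990, true)])]

def steps4 : List (ℕ × List (ℕ × Bool)) := [(725, [(588, true), (992, true)]),
  (1197, [(588, true), (3796, true)]),
  (999, [(588, true), (4083, true)]),
  (2525, [(588, true), (3537, true)]),
  (4141, [(588, true), (158, true)]),
  (2204, [(588, true), (4906, true)]),
  (4880, [(588, true), (4074, true)]),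
  (635, [(588, true), (343, true)]),
  (3771, [(588, true), (5620, true)]),
  (1962, [(588, true), (5671, true)]),
  (1169, [(588, true), (5186, true)]),
  (904, [(588, true), (4543, true)]),
  (1139, [(642, true), (1463, true), (5569, true)]),
  (791, [(642, true), (1463, true)]),
  (5685, [(642, true), (3113, true), (5004, true)]),
  (4478, [(642, true), (3113, true)]),
  (373, [(642, true), (1980, true), (171, true)]),
  (1626, [(642, true), (1980, true)]),
  (4467, [(642, true), (205, true), (3884, true)]),
  (3891, [(642, true), (205, true)]),
  (1490, [(642, true), (4717, true), (2046, true)]),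
  (1799, [(642, true), (4717, true)]),
  (1638, [(642, true), (5062, true), (2532, true)]),
  (3721, [(642, true), (5062, true)]),
  (4346, [(642, true), (5447, true), (5854, true)]),
  (3817, [(642, true), (5004, true)]),
  (5552, [(642, true), (2532, true)]),
  (2048, [(642, true), (4767, true), (671, true)]),
  (3274, [(642, true), (4767, true)]),
  (1897, [(642, true), (2046, true)]),
  (4501, [(642, true), (733, true), (4855, false)]),
  (5040, [(642, true), (5965, true), (958, true)]),
  (1179, [(642, true), (5965, true)]),
  (2323, [(642, true), (5854, true)]),
  (5267, [(642, true), (992, true), (3537, true)]),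
  (4744, [(642, true), (3884, true)]),
  (3035, [(642, true), (522, true), (171, true)]),
  (2444, [(642, true), (522, true)]),
  (4196, [(642, true), (3537, true), (1526, true)]),
  (4221, [(642, true), (3537, true)]),
  (4104, [(642, true), (158, true)]),
  (2843, [(642, true), (5608, true)]),
  (2416, [(642, true), (4906, true)]),
  (3651, [(642, true), (99, true)]),
  (5899, [(642, true), (1242, true)]),
  (4310, [(642, true), (1399, true)]),
  (2963, [(1463, true), (5569, true), (158, true)]),
  (2396, [(1463, true), (5569, true)]),
  (2812, [(1463, true), (5286, true), (99, true)]),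
  (2260, [(1463, true), (5286, true)]),
  (1081, [(1463, true), (4455, true), (2532, true)]),
  (4110, [(1463, true), (4455, true)]),
  (3001, [(1463, true), (4717, true), (5004, true)]),
  (2042, [(1463, true), (4717, true)]),
  (249, [(1463, true), (5062, true), (614, true)]),
  (1769, [(1463, true), (5062, true)]),
  (5598, [(1463, true), (5447, true), (2532, true)]),
  (3896, [(1463, true), (2211, true), (2804, true)]),
  (682, [(1463, true), (2211, true)]),
  (3402, [(1463, true), (5004, true)]),
  (1295, [(1463, true), (798, true), (733, true)]),
  (406, [(1463, true), (614, true)]),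
  (4211, [(1463, true), (733, true)]),
  (5799, [(1463, true), (5965, true), (5608, true)]),
  (5748, [(1463, true), (5854, true), (1631, false)]),
  (5681, [(1463, true), (992, true), (171, true)]),
  (4428, [(1463, true), (992, true)]),
  (906, [(1463, true), (3884, true)]),
  (2629, [(1463, true), (522, true)]),
  (571, [(1463, true), (99, true)]),
  (5999, [(1463, true), (958, true)]),
  (1316, [(1463, true), (1242, true)]),
  (5600, [(1463, true), (1526, true)]),
  (763, [(1463, true), (1399, true)]),
  (4979, [(1463, true), (2838, true)]),
  (769, [(1463, true), (4423, true)]),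
  (5677, [(1463, true), (2873, true)]),
  (6032, [(1463, true), (4393, true)]),
  (4250, [(5569, true), (4455, true)]),
  (1460, [(5569, true), (1980, true), (3796, true)]),
  (5605, [(5569, true), (205, true), (1471, true)]),
  (1882, [(5569, true), (4717, true)]),
  (5711, [(5569, true), (5062, true), (5004, true)]),
  (3650, [(5569, true), (5062, true)]),
  (2058, [(5569, true), (5447, true), (1364, true)]),
  (4616, [(5569, true), (5447, true)]),
  (4532, [(5569, true), (2211, true), (2838, true)]),
  (4360, [(5569, true), (2211, true)]),
  (5077, [(5569, true), (1471, true), (99, true)]),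
  (1929, [(5569, true), (1471, true)]),
  (568, [(5569, true), (5004, true)]),
  (4586, [(5569, true), (5035, true), (2873, true)]),
  (1600, [(5569, true), (5035, true)]),
  (1282, [(5569, true), (4767, true), (733, true)]),
  (714, [(5569, true), (4767, true)]),
  (1714, [(5569, true), (733, true)]),
  (2844, [(5569, true), (5854, true), (1526, true)]),
  (5456, [(5569, true), (5854, true)]),
  (2355, [(5569, true), (5832, true), (4543, true)]),
  (2850, [(5569, true), (5832, true)]),
  (1934, [(5569, true), (992, true)]),
  (2086, [(5569, true), (4083, true), (2804, false)]),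
  (2892, [(5569, true), (3537, true), (5186, true)]),
  (3944, [(5569, true), (158, true)]),
  (5686, [(5569, true), (5608, true)]),
  (786, [(5569, true), (99, true)]),
  (3218, [(5569, true), (4074, true)]),
  (4248, [(5569, true), (958, true)]),
  (5800, [(5569, true), (1242, true)]),
  (1286, [(5569, true), (2838, true)]),
  (1798, [(5569, true), (2873, true)]),
  (4400, [(5569, true), (4393, true)]),
  (75, [(5569, true), (5620, true)]),
  (2012, [(5286, true), (3113, true)]),
  (3061, [(5286, true), (4455, true), (614, true)]),
  (5526, [(5286, true), (4455, true)]),
  (2151, [(5286, true), (1980, true), (5035, true)]),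
  (1954, [(5286, true), (205, true), (4083, true)]),
  (676, [(5286, true), (5062, true)]),
  (4296, [(5286, true), (5447, true), (4423, true)]),
  (593, [(5286, true), (5447, true)]),
  (4114, [(5286, true), (2211, true), (992, true)]),
  (720, [(5286, true), (2211, true)]),
  (5149, [(5286, true), (1471, true), (4393, true)]),
  (3767, [(5286, true), (1471, true)]),
  (1936, [(5286, true), (5035, true), (1399, true)]),
  (4039, [(5286, true), (5035, true)]),
  (821, [(5286, true), (798, true), (5854, true)]),
  (2697, [(5286, true), (798, true)]),
  (3681, [(5286, true), (614, true)]),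
  (1332, [(5286, true), (733, true), (4543, true)]),
  (1234, [(5286, true), (733, true)]),
  (5205, [(5286, true), (5965, true), (1526, true)]),
  (4409, [(5286, true), (5965, true)]),
  (1569, [(5286, true), (5854, true)]),
  (4670, [(5286, true), (1364, true)]),
  (5043, [(5286, true), (3796, true), (3314, false)]),
  (4443, [(5286, true), (3537, true)]),
  (659, [(5286, true), (5608, true), (1242, true)]),
  (2694, [(5286, true), (4906, true)]),
  (2381, [(5286, true), (171, true), (1399, true)]),
  (3779, [(5286, true), (171, true)]),
  (1906, [(5286, true), (343, true)]),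
  (2508, [(5286, true), (4423, true)]),
  (53, [(5286, true), (2873, true)]),
  (1790, [(5286, true), (4393, true)]),
  (4335, [(5286, true), (5671, true)]),
  (3725, [(5286, true), (5186, true)]),
  (3829, [(3113, true), (1980, true)]),
  (2959, [(3113, true), (205, true), (2046, true)])]

def steps5 : List (ℕ × List (ℕ × Bool)) := [(1557, [(3113, true), (205, true)]),
  (5387, [(3113, true), (4717, true), (3884, true)]),
  (6092, [(3113, true), (5062, true), (733, true)]),
  (3600, [(3113, true), (1471, true), (671, true)]),
  (1925, [(3113, true), (1471, true)]),
  (3677, [(3113, true), (5035, true), (4906, true)]),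
  (3570, [(3113, true), (5035, true)]),
  (5486, [(3113, true), (2532, true), (4393, true)]),
  (2828, [(3113, true), (2532, true)]),
  (794, [(3113, true), (614, true)]),
  (350, [(3113, true), (2046, true)]),
  (505, [(3113, true), (733, true), (4083, true)]),
  (4929, [(3113, true), (733, true)]),
  (199, [(3113, true), (5965, true)]),
  (1240, [(3113, true), (5854, true), (5186, true)]),
  (2782, [(3113, true), (5854, true)]),
  (4006, [(3113, true), (3314, true)]),
  (4124, [(3113, true), (4990, true), (5620, true)]),
  (4711, [(3113, true), (4990, true)]),
  (2321, [(3113, true), (671, true)]),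
  (2280, [(3113, true), (4083, true)]),
  (2729, [(3113, true), (522, true)]),
  (5544, [(3113, true), (3537, true)]),
  (3834, [(3113, true), (158, true)]),
  (4382, [(3113, true), (99, true), (798, false)]),
  (721, [(3113, true), (171, true)]),
  (1390, [(3113, true), (958, true), (2873, true)]),
  (1078, [(3113, true), (1242, true)]),
  (6135, [(3113, true), (2838, true)]),
  (5298, [(3113, true), (5620, true)]),
  (541, [(3113, true), (5186, true)]),
  (3282, [(3113, true), (4543, true)]),
  (1574, [(4455, true), (205, true)]),
  (4112, [(4455, true), (4717, true), (5854, true)]),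
  (5915, [(4455, true), (5062, true), (99, true)]),
  (4533, [(4455, true), (1471, true), (4393, true)]),
  (4879, [(4455, true), (1471, true)]),
  (2413, [(4455, true), (5004, true), (4906, true)]),
  (2244, [(4455, true), (5004, true)]),
  (5017, [(4455, true), (5035, true), (2804, true)]),
  (6016, [(4455, true), (5035, true)]),
  (3244, [(4455, true), (614, true)]),
  (4621, [(4455, true), (2046, true)]),
  (218, [(4455, true), (733, true), (4543, true)]),
  (4656, [(4455, true), (733, true)]),
  (2693, [(4455, true), (5854, true), (343, true)]),
  (1477, [(4455, true), (5854, true)]),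
  (4937, [(4455, true), (3314, true), (5671, true)]),
  (4660, [(4455, true), (3314, true)]),
  (5825, [(4455, true), (4990, true)]),
  (4764, [(4455, true), (992, true)]),
  (888, [(4455, true), (2804, true)]),
  (4949, [(4455, true), (3884, true), (5447, false)]),
  (2065, [(4455, true), (158, true)]),
  (520, [(4455, true), (5608, true), (343, true)]),
  (1306, [(4455, true), (5608, true)]),
  (778, [(4455, true), (958, true)]),
  (4070, [(4455, true), (1526, true)]),
  (1928, [(4455, true), (1399, true)]),
  (3589, [(4455, true), (4423, true)]),
  (4588, [(4455, true), (2873, true)]),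
  (1120, [(4455, true), (5671, true)]),
  (4887, [(4455, true), (5186, true)]),
  (1742, [(4455, true), (4543, true)]),
  (2862, [(1980, true), (4717, true), (2532, true)]),
  (1317, [(1980, true), (4717, true)]),
  (1880, [(1980, true), (5062, true)]),
  (3446, [(1980, true), (2211, true), (5854, true)]),
  (1478, [(1980, true), (2211, true)]),
  (4885, [(1980, true), (1471, true), (158, true)]),
  (387, [(1980, true), (1471, true)]),
  (2913, [(1980, true), (5035, true), (3884, true)]),
  (5133, [(1980, true), (5035, true)]),
  (4468, [(1980, true), (2532, true)]),
  (3948, [(1980, true), (798, true), (5832, true)]),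
  (4910, [(1980, true), (798, true)]),
  (4658, [(1980, true), (4767, true), (5608, true)]),
  (2257, [(1980, true), (4767, true)]),
  (5861, [(1980, true), (733, true), (1242, true)]),
  (4255, [(1980, true), (733, true)]),
  (4927, [(1980, true), (5965, true)]),
  (2277, [(1980, true), (5854, true)]),
  (1046, [(1980, true), (1364, true), (5186, true)]),
  (4091, [(1980, true), (1364, true)]),
  (3374, [(1980, true), (3884, true)]),
  (5503, [(1980, true), (3796, true)]),
  (4535, [(1980, true), (158, true)]),
  (3032, [(1980, true), (5608, true)]),
  (1288, [(1980, true), (4906, true)]),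
  (3498, [(1980, true), (171, true)]),
  (3952, [(1980, true), (1526, true)]),
  (6132, [(1980, true), (343, true), (671, false)]),
  (1166, [(1980, true), (2838, true)]),
  (3851, [(1980, true), (4423, true), (4543, true)]),
  (5982, [(1980, true), (2873, true)]),
  (2188, [(1980, true), (5671, true)]),
  (3500, [(205, true), (4717, true)]),
  (1012, [(205, true), (5447, true), (733, true)]),
  (4722, [(205, true), (5447, true)]),
  (498, [(205, true), (1471, true), (522, true)]),
  (2591, [(205, true), (1471, true)]),
  (703, [(205, true), (5035, true), (4906, true)]),
  (4368, [(205, true), (5035, true)]),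
  (537, [(205, true), (798, true), (3537, true)]),
  (4863, [(205, true), (798, true)]),
  (2879, [(205, true), (4767, true), (5965, true)]),
  (2000, [(205, true), (4767, true)]),
  (4303, [(205, true), (2046, true)]),
  (3034, [(205, true), (733, true)]),
  (5611, [(205, true), (5854, true), (5186, true)]),
  (4895, [(205, true), (5854, true)]),
  (3256, [(205, true), (5832, true)]),
  (5216, [(205, true), (992, true), (1242, true)]),
  (4606, [(205, true), (992, true)]),
  (1549, [(205, true), (4083, true)]),
  (3118, [(205, true), (522, true)]),
  (48, [(205, true), (3537, true)]),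
  (173, [(205, true), (158, true)]),
  (2079, [(205, true), (4906, true)]),
  (5836, [(205, true), (4074, true), (4990, false)]),
  (2007, [(205, true), (958, true)]),
  (4619, [(205, true), (1526, true)]),
  (3765, [(205, true), (4423, true)]),
  (4285, [(205, true), (4393, true)]),
  (2472, [(205, true), (5620, true)]),
  (5957, [(205, true), (4543, true)]),
  (5921, [(4717, true), (1471, true), (158, true)]),
  (298, [(4717, true), (1471, true)]),
  (2322, [(4717, true), (5004, true)]),
  (3264, [(4717, true), (5035, true), (4990, true)]),
  (2926, [(4717, true), (5035, true)]),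
  (2553, [(4717, true), (2532, true)]),
  (1688, [(4717, true), (2046, true), (2873, true)]),
  (1652, [(4717, true), (2046, true)]),
  (3338, [(4717, true), (733, true), (1242, true)]),
  (5371, [(4717, true), (733, true)]),
  (3005, [(4717, true), (5854, true), (3796, true)]),
  (2197, [(4717, true), (5854, true)]),
  (1911, [(4717, true), (5832, true)]),
  (4792, [(4717, true), (4990, true)]),
  (1430, [(4717, true), (2804, true)]),
  (4976, [(4717, true), (671, true), (171, true)]),
  (462, [(4717, true), (671, true)]),
  (1932, [(4717, true), (3884, true)]),
  (6151, [(4717, true), (3796, true)]),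
  (22, [(4717, true), (5608, true)]),
  (3626, [(4717, true), (4906, true)]),
  (3686, [(4717, true), (171, true)]),
  (4857, [(4717, true), (1242, true)]),
  (4166, [(4717, true), (1526, true)])]

def steps6 : List (ℕ × List (ℕ × Bool)) := [(5659, [(4717, true), (1399, true), (4767, false)]),
  (3865, [(4717, true), (4423, true)]),
  (4766, [(4717, true), (4393, true)]),
  (3474, [(4717, true), (5620, true)]),
  (3125, [(4717, true), (5186, true)]),
  (1892, [(5062, true), (1471, true), (3314, true)]),
  (5488, [(5062, true), (1471, true)]),
  (518, [(5062, true), (5004, true)]),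
  (4222, [(5062, true), (5035, true), (2873, true)]),
  (1438, [(5062, true), (5035, true)]),
  (5989, [(5062, true), (2532, true)]),
  (738, [(5062, true), (614, true), (158, true)]),
  (4021, [(5062, true), (614, true)]),
  (4362, [(5062, true), (733, true), (4074, true)]),
  (1687, [(5062, true), (733, true)]),
  (4903, [(5062, true), (5854, true), (1526, true)]),
  (1210, [(5062, true), (5854, true)]),
  (4266, [(5062, true), (3314, true)]),
  (1276, [(5062, true), (1364, true)]),
  (402, [(5062, true), (2804, true), (958, true)]),
  (5139, [(5062, true), (2804, true)]),
  (1675, [(5062, true), (671, true)]),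
  (2262, [(5062, true), (522, true), (2211, false)]),
  (6086, [(5062, true), (3537, true), (4074, true)]),
  (212, [(5062, true), (3537, true)]),
  (4353, [(5062, true), (4906, true)]),
  (6097, [(5062, true), (99, true)]),
  (169, [(5062, true), (958, true)]),
  (1393, [(5062, true), (1242, true)]),
  (6020, [(5062, true), (1526, true)]),
  (2239, [(5062, true), (2838, true)]),
  (2509, [(5062, true), (4393, true)]),
  (5342, [(5062, true), (5671, true)]),
  (2909, [(5062, true), (4543, true)]),
  (3746, [(5447, true), (2211, true), (1526, true)]),
  (3731, [(5447, true), (2211, true)]),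
  (1456, [(5447, true), (1471, true)]),
  (5994, [(5447, true), (5035, true), (4767, true)]),
  (4444, [(5447, true), (5035, true)]),
  (2918, [(5447, true), (2532, true)]),
  (3870, [(5447, true), (4767, true)]),
  (1229, [(5447, true), (2046, true), (5854, true)]),
  (2965, [(5447, true), (2046, true)]),
  (5702, [(5447, true), (733, true)]),
  (1427, [(5447, true), (5832, true), (1399, true)]),
  (5652, [(5447, true), (5832, true)]),
  (4086, [(5447, true), (4990, true)]),
  (4072, [(5447, true), (2804, true)]),
  (204, [(5447, true), (3884, true), (4455, false)]),
  (5360, [(5447, true), (3796, true)]),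
  (460, [(5447, true), (522, true)]),
  (3901, [(5447, true), (3537, true)]),
  (758, [(5447, true), (158, true), (4074, true)]),
  (2434, [(5447, true), (158, true)]),
  (2299, [(5447, true), (5608, true), (5186, true)]),
  (4786, [(5447, true), (99, true)]),
  (3713, [(5447, true), (4074, true)]),
  (4578, [(5447, true), (1242, true)]),
  (5308, [(5447, true), (1526, true), (4423, true)]),
  (800, [(5447, true), (1526, true)]),
  (1887, [(5447, true), (4393, true)]),
  (4724, [(5447, true), (5620, true), (5186, true)]),
  (5631, [(5447, true), (5620, true)]),
  (929, [(2211, true), (1471, true), (798, true)]),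
  (2569, [(2211, true), (1471, true)]),
  (5521, [(2211, true), (5035, true)]),
  (3337, [(2211, true), (2532, true), (733, true)]),
  (3730, [(2211, true), (2532, true)]),
  (465, [(2211, true), (798, true)]),
  (295, [(2211, true), (2046, true)]),
  (4682, [(2211, true), (5965, true), (99, true)]),
  (1230, [(2211, true), (5965, true)]),
  (1823, [(2211, true), (5854, true)]),
  (3561, [(2211, true), (3314, true)]),
  (945, [(2211, true), (671, true)]),
  (1723, [(2211, true), (3884, true)]),
  (3085, [(2211, true), (4083, true)]),
  (3334, [(2211, true), (522, true), (5062, false)]),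
  (838, [(2211, true), (3537, true), (1242, true)]),
  (5355, [(2211, true), (5608, true)]),
  (2719, [(2211, true), (4906, true), (343, true)]),
  (5960, [(2211, true), (4906, true)]),
  (523, [(2211, true), (171, true), (1242, true)]),
  (4316, [(2211, true), (171, true)]),
  (5747, [(2211, true), (1399, true)]),
  (2385, [(2211, true), (343, true)]),
  (3533, [(2211, true), (2838, true), (4543, true)]),
  (2477, [(2211, true), (2873, true)]),
  (6111, [(2211, true), (5186, true)]),
  (4460, [(2211, true), (4543, true)]),
  (6094, [(1471, true), (5004, true), (1399, true)]),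
  (4099, [(1471, true), (5004, true)]),
  (3038, [(1471, true), (5035, true)]),
  (4089, [(1471, true), (2532, true), (4083, true)]),
  (4834, [(1471, true), (2532, true)]),
  (3211, [(1471, true), (798, true)]),
  (2144, [(1471, true), (4767, true)]),
  (5674, [(1471, true), (614, true), (4074, true)]),
  (991, [(1471, true), (614, true)]),
  (5842, [(1471, true), (2046, true), (3884, true)]),
  (1677, [(1471, true), (2046, true)]),
  (1261, [(1471, true), (5832, true), (4990, true)]),
  (2647, [(1471, true), (5832, true)]),
  (3788, [(1471, true), (3314, true)]),
  (255, [(1471, true), (992, true), (2804, true)]),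
  (4930, [(1471, true), (992, true)]),
  (2142, [(1471, true), (671, true)]),
  (4025, [(1471, true), (3884, true)]),
  (5167, [(1471, true), (3796, true)]),
  (4785, [(1471, true), (4083, true)]),
  (67, [(1471, true), (3537, true)]),
  (1683, [(1471, true), (5608, true), (4423, true)]),
  (2389, [(1471, true), (5608, true)]),
  (2561, [(1471, true), (99, true)]),
  (5223, [(1471, true), (4074, true)]),
  (363, [(1471, true), (171, true)]),
  (4740, [(1471, true), (1526, true), (343, true)]),
  (4882, [(1471, true), (1526, true)]),
  (2476, [(1471, true), (2838, true)]),
  (2261, [(1471, true), (4423, true)]),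
  (3632, [(1471, true), (5671, true)]),
  (654, [(1471, true), (5186, true)]),
  (3970, [(5004, true), (5035, true), (343, true)]),
  (4507, [(5004, true), (5035, true)]),
  (1596, [(5004, true), (2532, true)]),
  (1624, [(5004, true), (798, true)]),
  (6001, [(5004, true), (4767, true), (5854, true)]),
  (5762, [(5004, true), (4767, true)]),
  (4203, [(5004, true), (614, true), (3796, true)]),
  (4028, [(5004, true), (614, true)]),
  (1837, [(5004, true), (5854, true)]),
  (2251, [(5004, true), (4990, true), (4083, true)]),
  (3786, [(5004, true), (4990, true)]),
  (1140, [(5004, true), (3884, true)]),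
  (2279, [(5004, true), (3796, true)]),
  (3450, [(5004, true), (4083, true)]),
  (4474, [(5004, true), (522, true)]),
  (6089, [(5004, true), (3537, true)]),
  (2377, [(5004, true), (4906, true)]),
  (2994, [(5004, true), (4074, true)]),
  (4622, [(5004, true), (171, true), (958, true)]),
  (1272, [(5004, true), (171, true)]),
  (325, [(5004, true), (958, true)]),
  (3889, [(5004, true), (1242, true), (5671, true)]),
  (1914, [(5004, true), (1242, true)]),
  (1873, [(5004, true), (1526, true)]),
  (5479, [(5004, true), (343, true)]),
  (4745, [(5004, true), (2838, true)]),
  (2136, [(5004, true), (4423, true)]),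
  (360, [(5035, true), (2532, true), (522, true)])]

def steps7 : List (ℕ × List (ℕ × Bool)) := [(5508, [(5035, true), (2532, true)]),
  (890, [(5035, true), (798, true)]),
  (5730, [(5035, true), (4767, true)]),
  (2634, [(5035, true), (614, true), (99, true)]),
  (1011, [(5035, true), (614, true)]),
  (5023, [(5035, true), (2046, true), (3796, true)]),
  (4093, [(5035, true), (2046, true)]),
  (5348, [(5035, true), (5965, true), (671, true)]),
  (4805, [(5035, true), (5965, true)]),
  (1483, [(5035, true), (3314, true)]),
  (3527, [(5035, true), (4990, true)]),
  (3618, [(5035, true), (1364, true)]),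
  (4369, [(5035, true), (2804, true)]),
  (1389, [(5035, true), (3884, true)]),
  (961, [(5035, true), (3796, true)]),
  (719, [(5035, true), (4083, true)]),
  (1511, [(5035, true), (3537, true), (2838, true)]),
  (2718, [(5035, true), (3537, true)]),
  (4985, [(5035, true), (5608, true)]),
  (3280, [(5035, true), (99, true)]),
  (3378, [(5035, true), (4074, true)]),
  (115, [(5035, true), (958, true)]),
  (312, [(5035, true), (1242, true)]),
  (2998, [(5035, true), (343, true)]),
  (2253, [(5035, true), (2838, true)]),
  (4087, [(5035, true), (4423, true)]),
  (5037, [(5035, true), (5620, true)]),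
  (5400, [(5035, true), (4543, true)]),
  (5579, [(2532, true), (2046, true), (4074, true)]),
  (4330, [(2532, true), (2046, true)]),
  (692, [(2532, true), (733, true)]),
  (4338, [(2532, true), (3314, true), (343, true)]),
  (4439, [(2532, true), (3314, true)]),
  (40, [(2532, true), (3796, true), (1399, true)]),
  (4165, [(2532, true), (3796, true)]),
  (740, [(2532, true), (4083, true)]),
  (1453, [(2532, true), (522, true)]),
  (4980, [(2532, true), (3537, true)]),
  (5738, [(2532, true), (158, true), (4074, true)]),
  (3160, [(2532, true), (5608, true)]),
  (2448, [(2532, true), (99, true)]),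
  (1111, [(2532, true), (171, true)]),
  (630, [(2532, true), (958, true)]),
  (1044, [(2532, true), (1242, true)]),
  (4420, [(2532, true), (1526, true), (5620, true)]),
  (375, [(2532, true), (1526, true)]),
  (58, [(2532, true), (343, true)]),
  (2923, [(2532, true), (4423, true)]),
  (1563, [(2532, true), (4393, true)]),
  (2604, [(798, true), (4767, true), (1242, true)]),
  (2868, [(798, true), (4767, true)]),
  (5406, [(798, true), (614, true), (733, true)]),
  (5422, [(798, true), (614, true)]),
  (3036, [(798, true), (5854, true)]),
  (2665, [(798, true), (3314, true)]),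
  (2358, [(798, true), (1364, true), (522, true)]),
  (3610, [(798, true), (1364, true)]),
  (1845, [(798, true), (671, true)]),
  (3862, [(798, true), (3884, true)]),
  (5981, [(798, true), (3796, true), (2873, true)]),
  (1069, [(798, true), (3796, true)]),
  (5121, [(798, true), (3537, true), (1242, true)]),
  (5344, [(798, true), (4906, true)]),
  (2746, [(798, true), (99, true), (3113, false)]),
  (1486, [(798, true), (4074, true)]),
  (413, [(798, true), (1242, true)]),
  (5666, [(798, true), (1526, true)]),
  (4645, [(798, true), (1399, true)]),
  (4071, [(798, true), (2838, true), (4543, true)]),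
  (4632, [(798, true), (4423, true)]),
  (4554, [(798, true), (2873, true)]),
  (3340, [(798, true), (5671, true), (4543, true)]),
  (3766, [(798, true), (5671, true)]),
  (913, [(4767, true), (614, true)]),
  (4984, [(4767, true), (733, true)]),
  (3048, [(4767, true), (4990, true)]),
  (660, [(4767, true), (992, true), (3884, true)]),
  (2446, [(4767, true), (992, true)]),
  (3522, [(4767, true), (2804, true)]),
  (1534, [(4767, true), (4083, true), (4393, true)]),
  (4548, [(4767, true), (4083, true)]),
  (4844, [(4767, true), (522, true)]),
  (980, [(4767, true), (158, true)]),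
  (501, [(4767, true), (5608, true), (5186, true)]),
  (3639, [(4767, true), (99, true)]),
  (4721, [(4767, true), (958, true), (1526, true)]),
  (1425, [(4767, true), (958, true)]),
  (244, [(4767, true), (1526, true)]),
  (5709, [(4767, true), (1399, true), (4717, false)]),
  (1340, [(4767, true), (343, true)]),
  (2521, [(4767, true), (2838, true)]),
  (5158, [(4767, true), (4393, true)]),
  (3210, [(4767, true), (5186, true)]),
  (745, [(4767, true), (4543, true)]),
  (748, [(614, true), (733, true)]),
  (861, [(614, true), (671, true), (3796, true)]),
  (975, [(614, true), (671, true)]),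
  (1143, [(614, true), (3884, true)]),
  (1124, [(614, true), (3796, true)]),
  (4076, [(614, true), (4083, true)]),
  (3135, [(614, true), (522, true)]),
  (6039, [(614, true), (158, true)]),
  (3534, [(614, true), (5608, true)]),
  (6082, [(614, true), (99, true)]),
  (1376, [(614, true), (4074, true)]),
  (130, [(614, true), (958, true)]),
  (5363, [(614, true), (343, true)]),
  (6036, [(614, true), (2838, true)]),
  (6054, [(614, true), (4423, true)]),
  (5269, [(614, true), (5620, true)]),
  (6108, [(614, true), (5671, true)]),
  (1710, [(614, true), (5186, true)]),
  (5613, [(614, true), (4543, true)]),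
  (5556, [(2046, true), (5854, true)]),
  (4566, [(2046, true), (2804, true), (4074, true)]),
  (624, [(2046, true), (2804, true)]),
  (4958, [(2046, true), (3884, true)]),
  (3480, [(2046, true), (3796, true)]),
  (4257, [(2046, true), (4083, true), (99, true)]),
  (2238, [(2046, true), (4083, true)]),
  (1885, [(2046, true), (3537, true)]),
  (896, [(2046, true), (5608, true)]),
  (573, [(2046, true), (4906, true), (343, true)]),
  (1134, [(2046, true), (4074, true)]),
  (50, [(2046, true), (171, true)]),
  (3091, [(2046, true), (1526, true)]),
  (4445, [(2046, true), (1399, true)]),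
  (4634, [(2046, true), (2873, true)]),
  (5007, [(2046, true), (5620, true)]),
  (4866, [(2046, true), (5671, true)]),
  (3339, [(2046, true), (5186, true)]),
  (6119, [(2046, true), (4543, true)]),
  (5301, [(733, true), (5965, true), (343, true)]),
  (5844, [(733, true), (5965, true)]),
  (366, [(733, true), (5854, true)]),
  (332, [(733, true), (5832, true), (99, true)]),
  (1138, [(733, true), (5832, true)]),
  (238, [(733, true), (3314, true)]),
  (5696, [(733, true), (4990, true), (2804, true)]),
  (1533, [(733, true), (4990, true)]),
  (4306, [(733, true), (992, true), (522, true)]),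
  (3452, [(733, true), (992, true)]),
  (1501, [(733, true), (1364, true), (3796, true)]),
  (3408, [(733, true), (1364, true)]),
  (3129, [(733, true), (2804, true)]),
  (3326, [(733, true), (671, true)]),
  (4772, [(733, true), (3884, true)]),
  (3180, [(733, true), (3796, true)]),
  (1008, [(733, true), (4083, true)]),
  (1851, [(733, true), (522, true)])]

def steps8 : List (ℕ × List (ℕ × Bool)) := [(5793, [(733, true), (5608, true)]),
  (2581, [(733, true), (4906, true), (1399, true)]),
  (5255, [(733, true), (4906, true)]),
  (101, [(733, true), (99, true)]),
  (2502, [(733, true), (171, true), (5671, true)]),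
  (1762, [(733, true), (171, true)]),
  (1662, [(733, true), (958, true)]),
  (3572, [(733, true), (4423, true)]),
  (3167, [(733, true), (2873, true)]),
  (3755, [(733, true), (5620, true)]),
  (1794, [(733, true), (5671, true)]),
  (3905, [(5965, true), (5854, true), (1399, true)]),
  (1328, [(5965, true), (5854, true)]),
  (4452, [(5965, true), (5832, true)]),
  (1473, [(5965, true), (992, true), (3884, true)]),
  (5574, [(5965, true), (992, true)]),
  (2025, [(5965, true), (2804, true)]),
  (5415, [(5965, true), (671, true)]),
  (2736, [(5965, true), (3884, true)]),
  (4081, [(5965, true), (3796, true)]),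
  (3942, [(5965, true), (522, true), (4074, true)]),
  (5058, [(5965, true), (522, true)]),
  (5743, [(5965, true), (3537, true), (5608, true)]),
  (2725, [(5965, true), (3537, true)]),
  (5835, [(5965, true), (158, true), (4423, true)]),
  (3931, [(5965, true), (158, true)]),
  (1810, [(5965, true), (5608, true)]),
  (897, [(5965, true), (4906, true)]),
  (240, [(5965, true), (99, true)]),
  (528, [(5965, true), (958, true)]),
  (1149, [(5965, true), (1526, true)]),
  (331, [(5965, true), (1399, true)]),
  (4972, [(5965, true), (5620, true)]),
  (3365, [(5965, true), (5671, true)]),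
  (1759, [(5854, true), (5832, true), (4074, true)]),
  (139, [(5854, true), (5832, true)]),
  (605, [(5854, true), (3314, true), (671, true)]),
  (2908, [(5854, true), (3314, true)]),
  (1850, [(5854, true), (4990, true)]),
  (5819, [(5854, true), (992, true), (4083, true)]),
  (2744, [(5854, true), (992, true)]),
  (4438, [(5854, true), (1364, true), (3884, true)]),
  (4799, [(5854, true), (1364, true)]),
  (3095, [(5854, true), (2804, true)]),
  (5590, [(5854, true), (671, true)]),
  (1737, [(5854, true), (3884, true)]),
  (5891, [(5854, true), (3796, true)]),
  (3799, [(5854, true), (4083, true)]),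
  (2840, [(5854, true), (522, true)]),
  (338, [(5854, true), (3537, true)]),
  (4789, [(5854, true), (158, true), (99, true)]),
  (4907, [(5854, true), (158, true)]),
  (2682, [(5854, true), (171, true)]),
  (1354, [(5854, true), (958, true), (5620, true)]),
  (3868, [(5854, true), (958, true)]),
  (2213, [(5854, true), (1399, true)]),
  (5662, [(5854, true), (2838, true)]),
  (2209, [(5854, true), (4393, true)]),
  (215, [(5854, true), (5620, true)]),
  (2518, [(5854, true), (5671, true)]),
  (4919, [(5832, true), (3314, true)]),
  (5703, [(5832, true), (4990, true)]),
  (453, [(5832, true), (1364, true), (522, true)]),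
  (467, [(5832, true), (1364, true)]),
  (634, [(5832, true), (3884, true), (343, true)]),
  (339, [(5832, true), (3884, true)]),
  (5315, [(5832, true), (4083, true)]),
  (4605, [(5832, true), (522, true)]),
  (1028, [(5832, true), (3537, true), (5608, true)]),
  (3415, [(5832, true), (3537, true)]),
  (80, [(5832, true), (158, true)]),
  (3137, [(5832, true), (5608, true)]),
  (3489, [(5832, true), (4906, true), (2838, true)]),
  (1175, [(5832, true), (4906, true)]),
  (2990, [(5832, true), (99, true)]),
  (4391, [(5832, true), (171, true)]),
  (4045, [(5832, true), (958, true)]),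
  (2760, [(5832, true), (1399, true)]),
  (279, [(5832, true), (4393, true)]),
  (442, [(5832, true), (4543, true)]),
  (1018, [(3314, true), (4990, true), (4906, true)]),
  (154, [(3314, true), (4990, true)]),
  (2979, [(3314, true), (1364, true)]),
  (2036, [(3314, true), (671, true)]),
  (1776, [(3314, true), (3884, true)]),
  (5761, [(3314, true), (3796, true), (5286, false)]),
  (5295, [(3314, true), (4083, true)]),
  (4290, [(3314, true), (522, true), (1242, true)]),
  (2016, [(3314, true), (522, true)]),
  (3465, [(3314, true), (158, true)]),
  (756, [(3314, true), (4906, true), (5671, true)]),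
  (316, [(3314, true), (4906, true)]),
  (2300, [(3314, true), (4074, true)]),
  (817, [(3314, true), (171, true), (2873, true)]),
  (1697, [(3314, true), (958, true)]),
  (183, [(3314, true), (1242, true)]),
  (5462, [(3314, true), (2838, true), (2873, true)]),
  (1085, [(3314, true), (2838, true)]),
  (2492, [(3314, true), (4543, true)]),
  (264, [(4990, true), (1364, true)]),
  (2737, [(4990, true), (2804, true)]),
  (1859, [(4990, true), (3796, true)]),
  (1092, [(4990, true), (158, true), (5608, true)]),
  (5672, [(4990, true), (158, true)]),
  (3131, [(4990, true), (5608, true)]),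
  (3898, [(4990, true), (99, true)]),
  (4487, [(4990, true), (4074, true), (205, false)]),
  (503, [(4990, true), (171, true)]),
  (1644, [(4990, true), (1526, true), (1399, true)]),
  (3830, [(4990, true), (1526, true)]),
  (8, [(4990, true), (1399, true)]),
  (5219, [(4990, true), (343, true)]),
  (1300, [(4990, true), (2873, true)]),
  (4109, [(4990, true), (4393, true), (5620, true)]),
  (3696, [(4990, true), (4393, true)]),
  (5175, [(4990, true), (5186, true)]),
  (5972, [(992, true), (2804, true)]),
  (855, [(992, true), (671, true)]),
  (3567, [(992, true), (3884, true)]),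
  (368, [(992, true), (3796, true)]),
  (701, [(992, true), (4083, true)]),
  (6141, [(992, true), (522, true)]),
  (4843, [(992, true), (3537, true)]),
  (2751, [(992, true), (158, true)]),
  (3431, [(992, true), (99, true)]),
  (1413, [(992, true), (4074, true)]),
  (916, [(992, true), (1242, true)]),
  (2749, [(992, true), (1399, true)]),
  (4448, [(992, true), (2838, true)]),
  (4959, [(992, true), (4423, true)]),
  (2076, [(992, true), (2873, true)]),
  (1281, [(992, true), (4393, true)]),
  (4119, [(992, true), (5620, true)]),
  (3965, [(992, true), (5671, true)]),
  (4820, [(1364, true), (3884, true)]),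
  (3612, [(1364, true), (3796, true)]),
  (214, [(1364, true), (4083, true)]),
  (5746, [(1364, true), (522, true)]),
  (3255, [(1364, true), (5608, true)]),
  (4858, [(1364, true), (4906, true)]),
  (1325, [(1364, true), (99, true)]),
  (3992, [(1364, true), (171, true)]),
  (5166, [(1364, true), (958, true)]),
  (2163, [(1364, true), (1526, true), (1399, true)]),
  (3162, [(1364, true), (343, true)]),
  (1452, [(1364, true), (2838, true)]),
  (5439, [(1364, true), (4423, true)]),
  (4698, [(1364, true), (2873, true)]),
  (4755, [(1364, true), (4393, true)]),
  (4209, [(1364, true), (5186, true)])]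

def steps9 : List (ℕ × List (ℕ × Bool)) := [(3490, [(2804, true), (671, true), (158, true)]),
  (3433, [(2804, true), (671, true)]),
  (4946, [(2804, true), (3884, true), (5186, true)]),
  (5505, [(2804, true), (3884, true)]),
  (934, [(2804, true), (3796, true)]),
  (4810, [(2804, true), (4083, true), (5569, false)]),
  (3666, [(2804, true), (522, true)]),
  (3448, [(2804, true), (158, true), (958, true)]),
  (610, [(2804, true), (158, true)]),
  (2548, [(2804, true), (4906, true)]),
  (622, [(2804, true), (1526, true)]),
  (3510, [(2804, true), (343, true)]),
  (4975, [(2804, true), (4423, true), (4393, true)]),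
  (813, [(2804, true), (4423, true)]),
  (90, [(2804, true), (4393, true)]),
  (2139, [(2804, true), (5671, true)]),
  (239, [(2804, true), (5186, true)]),
  (5602, [(671, true), (4083, true)]),
  (2259, [(671, true), (3537, true), (4906, true)]),
  (4228, [(671, true), (3537, true)]),
  (5465, [(671, true), (4906, true)]),
  (5873, [(671, true), (99, true), (4543, true)]),
  (4327, [(671, true), (99, true)]),
  (1433, [(671, true), (4074, true)]),
  (3209, [(671, true), (171, true), (2873, true)]),
  (353, [(671, true), (1242, true)]),
  (2034, [(671, true), (1399, true)]),
  (2087, [(671, true), (343, true), (1980, false)]),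
  (3955, [(671, true), (2873, true)]),
  (432, [(671, true), (4393, true)]),
  (5501, [(671, true), (5620, true)]),
  (5699, [(671, true), (4543, true)]),
  (2867, [(3884, true), (3796, true), (4423, true)]),
  (2510, [(3884, true), (3796, true)]),
  (2846, [(3884, true), (4083, true), (4074, true)]),
  (5326, [(3884, true), (4083, true)]),
  (4246, [(3884, true), (158, true)]),
  (2362, [(3884, true), (99, true)]),
  (5046, [(3884, true), (4074, true)]),
  (414, [(3884, true), (171, true)]),
  (933, [(3884, true), (958, true)]),
  (5719, [(3884, true), (1242, true), (4423, true)]),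
  (942, [(3884, true), (1242, true)]),
  (802, [(3884, true), (1399, true)]),
  (2101, [(3884, true), (2873, true)]),
  (3879, [(3884, true), (5620, true)]),
  (5433, [(3796, true), (4083, true)]),
  (6110, [(3796, true), (522, true), (99, true)]),
  (2814, [(3796, true), (522, true)]),
  (4685, [(3796, true), (3537, true)]),
  (4526, [(3796, true), (158, true), (5671, true)]),
  (609, [(3796, true), (158, true)]),
  (1828, [(3796, true), (5608, true)]),
  (3291, [(3796, true), (99, true)]),
  (5440, [(3796, true), (1242, true)]),
  (4049, [(3796, true), (343, true)]),
  (4757, [(3796, true), (2838, true)]),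
  (5594, [(3796, true), (4393, true)]),
  (4469, [(4083, true), (522, true), (958, true)]),
  (2640, [(4083, true), (522, true)]),
  (5380, [(4083, true), (3537, true)]),
  (1869, [(4083, true), (5608, true)]),
  (2439, [(4083, true), (4906, true), (958, true)]),
  (5794, [(4083, true), (4906, true)]),
  (3520, [(4083, true), (4074, true)]),
  (149, [(4083, true), (1242, true)]),
  (3709, [(4083, true), (1399, true)]),
  (607, [(4083, true), (4423, true)]),
  (226, [(4083, true), (5186, true)]),
  (2537, [(522, true), (4906, true)]),
  (415, [(522, true), (99, true)]),
  (2745, [(522, true), (171, true)]),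
  (5247, [(522, true), (1526, true)]),
  (4055, [(522, true), (1399, true)]),
  (5151, [(522, true), (343, true)]),
  (5200, [(522, true), (2838, true)]),
  (2030, [(522, true), (5620, true)]),
  (6103, [(522, true), (5671, true)]),
  (5527, [(522, true), (5186, true)]),
  (5053, [(3537, true), (158, true)]),
  (4174, [(3537, true), (4906, true)]),
  (2082, [(3537, true), (99, true), (4074, true)]),
  (5944, [(3537, true), (99, true)]),
  (3990, [(3537, true), (171, true)]),
  (3382, [(3537, true), (1526, true)]),
  (4909, [(3537, true), (343, true)]),
  (1447, [(3537, true), (4423, true)]),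
  (3221, [(3537, true), (5671, true)]),
  (2467, [(3537, true), (5186, true)]),
  (192, [(3537, true), (4543, true)]),
  (4352, [(158, true), (5608, true)]),
  (3631, [(158, true), (4906, true), (171, true)]),
  (2925, [(158, true), (4906, true)]),
  (1785, [(158, true), (99, true)]),
  (5172, [(158, true), (1242, true), (4423, true)]),
  (3734, [(158, true), (1242, true), (5671, true)]),
  (491, [(158, true), (1526, true), (343, true)]),
  (3149, [(158, true), (1526, true)]),
  (5211, [(158, true), (2873, true)]),
  (1116, [(158, true), (5620, true)]),
  (3917, [(158, true), (5186, true)]),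
  (5768, [(5608, true), (4906, true)]),
  (4489, [(5608, true), (4074, true)]),
  (1868, [(5608, true), (958, true)]),
  (1212, [(5608, true), (1242, true)]),
  (6136, [(5608, true), (1526, true)]),
  (4770, [(5608, true), (1399, true), (343, true)]),
  (4945, [(5608, true), (1399, true)]),
  (1924, [(5608, true), (2838, true)]),
  (1972, [(5608, true), (4393, true)]),
  (5510, [(5608, true), (5620, true)]),
  (4308, [(4906, true), (4074, true)]),
  (1270, [(4906, true), (171, true)]),
  (3907, [(4906, true), (958, true)]),
  (3363, [(4906, true), (1242, true), (1399, true)]),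
  (2826, [(4906, true), (1242, true)]),
  (2464, [(4906, true), (2838, true)]),
  (2116, [(4906, true), (4393, true)]),
  (5804, [(4906, true), (4543, true)]),
  (702, [(99, true), (4074, true)]),
  (5728, [(99, true), (171, true)]),
  (3922, [(99, true), (958, true)]),
  (594, [(99, true), (1526, true)]),
  (4667, [(99, true), (343, true)]),
  (3295, [(99, true), (2873, true)]),
  (2546, [(99, true), (5671, true)]),
  (5912, [(4074, true), (1526, true)]),
  (5885, [(4074, true), (1399, true)]),
  (2611, [(4074, true), (343, true)]),
  (1222, [(4074, true), (2838, true)]),
  (3002, [(4074, true), (4423, true)]),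
  (693, [(4074, true), (2873, true), (5620, true)]),
  (4564, [(4074, true), (2873, true)]),
  (511, [(171, true), (1242, true)]),
  (4861, [(171, true), (1526, true)]),
  (2180, [(171, true), (1399, true)]),
  (1188, [(171, true), (343, true)]),
  (5500, [(171, true), (2838, true)]),
  (2419, [(171, true), (4393, true)]),
  (4734, [(171, true), (5620, true)]),
  (4198, [(958, true), (1242, true)]),
  (1976, [(958, true), (1526, true)]),
  (2149, [(958, true), (1399, true)]),
  (5343, [(958, true), (4423, true)]),
  (5273, [(958, true), (2873, true)]),
  (705, [(958, true), (4393, true)]),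
  (1422, [(958, true), (5671, true)]),
  (4175, [(1242, true), (1526, true)]),
  (4940, [(1242, true), (2838, true)]),
  (5282, [(1242, true), (2873, true)])]

def steps10 : List (ℕ × List (ℕ × Bool)) := [(3473, [(1242, true), (5186, true)]),
  (1174, [(1526, true), (2873, true), (5620, true)]),
  (3336, [(1526, true), (4393, true)]),
  (1912, [(1526, true), (4543, true)]),
  (5504, [(1399, true), (4393, true)]),
  (5266, [(1399, true), (5620, true)]),
  (490, [(1399, true), (5671, true)]),
  (3617, [(1399, true), (4543, true)]),
  (2989, [(343, true), (2838, true)]),
  (599, [(343, true), (4423, true)]),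
  (2425, [(343, true), (4393, true)]),
  (3076, [(343, true), (4543, true)]),
  (925, [(2838, true), (2873, true)]),
  (5300, [(2838, true), (4393, true)]),
  (1617, [(2838, true), (5671, true)]),
  (3350, [(4423, true), (2873, true)]),
  (4061, [(4423, true), (4393, true)]),
  (1548, [(4423, true), (5620, true)]),
  (4787, [(4423, true), (5186, true), (4543, true)]),
  (3213, [(4423, true), (5186, true)]),
  (5512, [(2873, true), (4393, true)]),
  (3424, [(2873, true), (5671, true)]),
  (687, [(2873, true), (4543, true)]),
  (3224, [(4393, true), (5186, true)]),
  (5424, [(5620, true), (5186, true)]),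
  (4636, [(5620, true), (4543, true)]),
  (2006, [(5671, true), (5186, true)]),
  (5916, [(5671, true), (4543, true)]),
  (1514, [(0, true), (4855, true), (5514, true)]),
  (4594, [(0, true), (4855, true)]),
  (2773, [(0, true), (4455, true), (4380, true)]),
  (3624, [(0, true), (4455, true)]),
  (775, [(0, true), (5062, true), (1884, true)]),
  (611, [(0, true), (5062, true)]),
  (5031, [(0, true), (992, true), (2986, true)]),
  (3438, [(0, true), (992, true)]),
  (1074, [(0, true), (1364, true), (3478, true)]),
  (5125, [(0, true), (1364, true)]),
  (2126, [(0, true), (3884, true), (3197, true)]),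
  (4908, [(0, true), (3884, true)]),
  (3635, [(0, true), (522, true), (2884, true)]),
  (3587, [(0, true), (522, true)]),
  (1717, [(0, true), (99, true), (4633, true)]),
  (5918, [(0, true), (99, true)]),
  (5545, [(0, true), (958, true), (4167, true)]),
  (4495, [(0, true), (958, true)]),
  (55, [(0, true), (1242, true), (4388, true)]),
  (1901, [(0, true), (1242, true)]),
  (3144, [(0, true), (1399, true), (216, true)]),
  (752, [(0, true), (1399, true)]),
  (997, [(0, true), (2838, true), (3998, true)]),
  (65, [(0, true), (2838, true)]),
  (2880, [(0, true), (4423, true), (3958, true)]),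
  (4463, [(0, true), (4423, true)]),
  (653, [(0, true), (2873, true), (4388, true)]),
  (2187, [(0, true), (2873, true)]),
  (1656, [(0, true), (4393, true), (4167, true)]),
  (4356, [(0, true), (4393, true)]),
  (5368, [(0, true), (5671, true), (665, true)]),
  (113, [(0, true), (5671, true)]),
  (157, [(0, true), (5186, true), (4167, true)]),
  (3190, [(0, true), (5186, true)]),
  (4710, [(0, true), (6022, true)]),
  (381, [(0, true), (4795, true)]),
  (3842, [(0, true), (2886, true)]),
  (2406, [(0, true), (5374, true)]),
  (1371, [(0, true), (2215, true)]),
  (2514, [(0, true), (251, true)]),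
  (2657, [(0, true), (1627, true), (3998, true)]),
  (796, [(0, true), (1627, true)]),
  (3864, [(0, true), (5601, true), (3934, true)]),
  (2445, [(0, true), (5601, true)]),
  (5820, [(0, true), (4317, true), (558, true)]),
  (2494, [(0, true), (4317, true)]),
  (2096, [(0, true), (3478, true), (2131, true)]),
  (5690, [(0, true), (3478, true)]),
  (1515, [(0, true), (2661, true), (1084, true)]),
  (4337, [(0, true), (2661, true)]),
  (3810, [(0, true), (6124, true)]),
  (5621, [(0, true), (4513, true)]),
  (1103, [(0, true), (1733, true)]),
  (5870, [(0, true), (3588, true), (3822, true)]),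
  (1590, [(0, true), (3588, true)]),
  (4051, [(0, true), (3013, true), (4242, true)]),
  (4345, [(0, true), (3013, true)]),
  (457, [(0, true), (2201, true)]),
  (1943, [(0, true), (5792, true)]),
  (470, [(0, true), (2707, true)]),
  (6005, [(0, true), (37, true)]),
  (5178, [(0, true), (666, true)]),
  (1173, [(0, true), (3468, true)]),
  (1255, [(0, true), (5632, true)]),
  (1809, [(0, true), (521, true)]),
  (984, [(0, true), (2735, true)]),
  (3718, [(0, true), (1641, true)]),
  (231, [(0, true), (1958, true), (3822, true)]),
  (4090, [(0, true), (1958, true)]),
  (3902, [(0, true), (4558, true), (5233, true)]),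
  (2490, [(0, true), (4558, true)]),
  (5933, [(0, true), (2060, true), (1021, true)]),
  (2792, [(0, true), (2060, true)]),
  (2896, [(0, true), (4010, true), (4242, true)]),
  (4731, [(0, true), (4010, true)]),
  (2516, [(0, true), (2240, true)]),
  (2600, [(0, true), (4664, true)]),
  (1440, [(0, true), (1550, true)]),
  (6093, [(0, true), (5543, true), (5964, true)]),
  (458, [(0, true), (5543, true)]),
  (5476, [(0, true), (3583, true), (5055, true)]),
  (5194, [(0, true), (3583, true)]),
  (1857, [(0, true), (1603, true)]),
  (5063, [(0, true), (583, true)]),
  (3268, [(0, true), (5950, true)]),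
  (272, [(0, true), (1696, true)]),
  (178, [(0, true), (5752, true)]),
  (6079, [(0, true)]),
  (4653, [(3, true), (898, true), (3199, true)]),
  (4686, [(3, true), (898, true)]),
  (1919, [(3, true), (5286, true), (5522, true)]),
  (5664, [(3, true), (5286, true)]),
  (5513, [(3, true), (205, true), (2573, true)]),
  (5828, [(3, true), (205, true)]),
  (2098, [(3, true), (614, true), (1639, true)]),
  (371, [(3, true), (614, true)]),
  (5378, [(3, true), (2046, true), (4320, true)]),
  (4286, [(3, true), (2046, true)]),
  (15, [(3, true), (3796, true), (1345, true)]),
  (3844, [(3, true), (3796, true)]),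
  (3750, [(3, true), (4083, true), (899, true)]),
  (3467, [(3, true), (4083, true)]),
  (3529, [(3, true), (3537, true), (1246, true)]),
  (1704, [(3, true), (3537, true)]),
  (5009, [(3, true), (158, true), (3588, true)]),
  (4291, [(3, true), (158, true)]),
  (435, [(3, true), (4074, true), (4410, true)]),
  (1009, [(3, true), (4074, true)]),
  (5414, [(3, true), (343, true), (4241, true)]),
  (5932, [(3, true), (343, true)]),
  (5577, [(3, true), (4423, true), (4573, true)]),
  (3895, [(3, true), (4423, true)]),
  (1221, [(3, true), (2873, true), (1246, true)]),
  (3716, [(3, true), (2873, true)]),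
  (2203, [(3, true), (5620, true), (1942, true)]),
  (4620, [(3, true), (5620, true)]),
  (5325, [(3, true), (5671, true), (2984, true)]),
  (1729, [(3, true), (5671, true)]),
  (2673, [(3, true), (5186, true), (3588, true)]),
  (3594, [(3, true), (5186, true)]),
  (5398, [(3, true), (4543, true), (1246, true)]),
  (2832, [(3, true), (4543, true)])]

def steps11 : List (ℕ × List (ℕ × Bool)) := [(3419, [(3, true), (2088, true)]),
  (2314, [(3, true), (16, true)]),
  (1527, [(3, true), (1404, true)]),
  (2524, [(3, true), (5048, true), (2847, true)]),
  (5132, [(3, true), (5048, true)]),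
  (112, [(3, true), (4024, true), (6124, true)]),
  (744, [(3, true), (4024, true)]),
  (1949, [(3, true), (1265, true)]),
  (4201, [(3, true), (4200, true)]),
  (3707, [(3, true), (762, true)]),
  (655, [(3, true), (440, true), (1942, true)]),
  (591, [(3, true), (440, true)]),
  (6107, [(3, true), (4320, true), (6057, true)]),
  (1633, [(3, true), (4320, true)]),
  (742, [(3, true), (2766, true), (2131, true)]),
  (3708, [(3, true), (2766, true)]),
  (4688, [(3, true), (4513, true)]),
  (35, [(3, true), (227, true)]),
  (32, [(3, true), (28, true), (666, true)]),
  (871, [(3, true), (28, true)]),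
  (2670, [(3, true), (2201, true)]),
  (572, [(3, true), (5792, true)]),
  (5364, [(3, true), (2707, true)]),
  (1987, [(3, true), (3934, true), (4192, true)]),
  (4088, [(3, true), (3934, true)]),
  (2777, [(3, true), (1961, true)]),
  (1669, [(3, true), (1927, true)]),
  (3084, [(3, true), (3468, true)]),
  (1377, [(3, true), (5632, true)]),
  (2134, [(3, true), (4388, true), (4924, true)]),
  (2808, [(3, true), (4388, true)]),
  (2620, [(3, true), (103, true), (4380, true)]),
  (3687, [(3, true), (103, true)]),
  (3003, [(3, true), (1002, true)]),
  (5732, [(3, true), (5824, true)]),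
  (3357, [(3, true), (5786, true)]),
  (5788, [(3, true), (716, true)]),
  (2270, [(3, true), (2060, true)]),
  (1648, [(3, true), (4380, true)]),
  (5929, [(3, true), (4924, true)]),
  (4402, [(3, true), (4528, true), (4941, true)]),
  (5159, [(3, true), (4528, true)]),
  (727, [(3, true), (2120, true), (5964, true)]),
  (291, [(3, true), (2120, true)]),
  (2991, [(3, true), (1016, true)]),
  (181, [(3, true), (3164, true)]),
  (4842, [(3, true), (2928, true)]),
  (2902, [(3, true), (5233, true)]),
  (4372, [(3, true), (3101, true)]),
  (2562, [(3, true), (3949, true)]),
  (2128, [(3, true), (485, true)]),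
  (2717, [(3, true), (3388, true)]),
  (620, [(3, true), (5514, true)]),
  (5177, [(3, true)]),
  (4137, [(63, true), (1631, true), (960, true)]),
  (5026, [(63, true), (1631, true)]),
  (5024, [(63, true), (3113, true), (4924, true)]),
  (3899, [(63, true), (3113, true)]),
  (4611, [(63, true), (4717, true), (3042, true)]),
  (3293, [(63, true), (4717, true)]),
  (441, [(63, true), (5965, true), (3875, true)]),
  (1264, [(63, true), (5965, true)]),
  (265, [(63, true), (5832, true), (4241, true)]),
  (3105, [(63, true), (5832, true)]),
  (3319, [(63, true), (3884, true), (4200, true)]),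
  (147, [(63, true), (3884, true)]),
  (5977, [(63, true), (522, true), (1265, true)]),
  (5174, [(63, true), (522, true)]),
  (3798, [(63, true), (3537, true), (4317, true)]),
  (1180, [(63, true), (3537, true)]),
  (3368, [(63, true), (158, true), (103, true)]),
  (1786, [(63, true), (158, true)]),
  (1822, [(63, true), (5608, true), (1899, true)]),
  (3720, [(63, true), (5608, true)]),
  (6152, [(63, true), (4906, true), (3197, true)]),
  (3398, [(63, true), (4906, true)]),
  (2529, [(63, true), (99, true), (899, true)]),
  (1661, [(63, true), (99, true)]),
  (2639, [(63, true), (171, true), (2984, true)]),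
  (6015, [(63, true), (171, true)]),
  (427, [(63, true), (1526, true), (103, true)]),
  (452, [(63, true), (1526, true)]),
  (1343, [(63, true), (1399, true), (2766, true)]),
  (4790, [(63, true), (1399, true)]),
  (524, [(63, true), (5620, true), (5048, true)]),
  (3077, [(63, true), (5620, true)]),
  (658, [(63, true), (4543, true), (3197, true)]),
  (1842, [(63, true), (4543, true)]),
  (3092, [(63, true), (3875, true)]),
  (2933, [(63, true), (2088, true)]),
  (3785, [(63, true), (16, true)]),
  (41, [(63, true), (1404, true)]),
  (5027, [(63, true), (4410, true)]),
  (3328, [(63, true), (4241, true)]),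
  (2702, [(63, true), (1345, true), (5303, true)]),
  (235, [(63, true), (1345, true)]),
  (1544, [(63, true), (1246, true), (4691, true)]),
  (6120, [(63, true), (1246, true)]),
  (1827, [(63, true), (1265, true)]),
  (7, [(63, true), (4200, true)]),
  (3502, [(63, true), (762, true)]),
  (2741, [(63, true), (4153, true)]),
  (56, [(63, true), (440, true)]),
  (4565, [(63, true), (1942, true)]),
  (2217, [(63, true), (3154, true)]),
  (2648, [(63, true), (4320, true)]),
  (4957, [(63, true), (5374, true)]),
  (315, [(63, true), (2215, true), (1899, true)]),
  (3270, [(63, true), (2215, true)]),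
  (5270, [(63, true), (251, true)]),
  (962, [(63, true), (1627, true)]),
  (5245, [(63, true), (3958, true)]),
  (4782, [(63, true), (1187, true)]),
  (835, [(63, true), (1637, true)]),
  (2482, [(63, true), (4633, true)]),
  (1738, [(63, true), (3468, true)]),
  (24, [(63, true), (2847, true)]),
  (1359, [(63, true), (5632, true)]),
  (5068, [(63, true), (1373, true)]),
  (4737, [(63, true), (782, true)]),
  (2302, [(63, true), (118, true)]),
  (2560, [(63, true), (5786, true), (2928, true)]),
  (4657, [(63, true), (5786, true)]),
  (4009, [(63, true), (716, true), (1550, true)]),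
  (4530, [(63, true), (716, true)]),
  (160, [(63, true), (391, true), (4691, true)]),
  (1336, [(63, true), (391, true)]),
  (5484, [(63, true), (2723, true), (5303, true)]),
  (910, [(63, true), (2723, true)]),
  (4272, [(63, true), (4386, true)]),
  (229, [(63, true), (1013, true)]),
  (5858, [(63, true), (1021, true)]),
  (4874, [(63, true), (5427, true), (3229, true)]),
  (1183, [(63, true), (5427, true)]),
  (3132, [(63, true), (6052, true), (3388, true)]),
  (4663, [(63, true), (6052, true)]),
  (19, [(63, true), (1455, true)]),
  (5470, [(63, true), (13, true)]),
  (5248, [(63, true), (3246, true)]),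
  (2335, [(63, true), (4073, true)]),
  (5612, [(63, true), (799, true)]),
  (1508, [(63, true)]),
  (1838, [(4751, true), (2806, true), (2825, true)]),
  (1217, [(4751, true), (2806, true)]),
  (616, [(4751, true), (5569, true), (649, true)]),
  (3362, [(4751, true), (5569, true)]),
  (4458, [(4751, true), (1980, true), (4854, true)]),
  (2459, [(4751, true), (1980, true)]),
  (2388, [(4751, true), (5004, true), (4573, true)]),
  (1099, [(4751, true), (5004, true)])]

def steps12 : List (ℕ × List (ℕ × Bool)) := [(5903, [(4751, true), (2532, true), (3154, true)]),
  (3170, [(4751, true), (2532, true)]),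
  (4991, [(4751, true), (3796, true), (2766, true)]),
  (3804, [(4751, true), (3796, true)]),
  (3127, [(4751, true), (4083, true), (4024, true)]),
  (4020, [(4751, true), (4083, true)]),
  (1363, [(4751, true), (5608, true), (1345, true)]),
  (1369, [(4751, true), (5608, true)]),
  (4964, [(4751, true), (4906, true), (3013, true)]),
  (3726, [(4751, true), (4906, true)]),
  (5855, [(4751, true), (4074, true), (3875, true)]),
  (3069, [(4751, true), (4074, true)]),
  (1203, [(4751, true), (171, true), (4153, true)]),
  (5081, [(4751, true), (171, true)]),
  (5310, [(4751, true), (958, true), (5048, true)]),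
  (2426, [(4751, true), (958, true)]),
  (736, [(4751, true), (1242, true), (3013, true)]),
  (1301, [(4751, true), (1242, true)]),
  (4363, [(4751, true), (1526, true), (1345, true)]),
  (2198, [(4751, true), (1526, true)]),
  (2475, [(4751, true), (343, true), (16, true)]),
  (4828, [(4751, true), (343, true)]),
  (2660, [(4751, true), (2838, true), (1639, true)]),
  (2468, [(4751, true), (2838, true)]),
  (2123, [(4751, true), (4393, true), (1345, true)]),
  (4956, [(4751, true), (4393, true)]),
  (4252, [(4751, true), (2088, true)]),
  (2646, [(4751, true), (1404, true)]),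
  (3114, [(4751, true), (4410, true)]),
  (1323, [(4751, true), (2984, true), (5374, true)]),
  (1387, [(4751, true), (2984, true)]),
  (812, [(4751, true), (1265, true)]),
  (3463, [(4751, true), (327, true), (3478, true)]),
  (4801, [(4751, true), (327, true)]),
  (1509, [(4751, true), (4200, true)]),
  (5499, [(4751, true), (762, true), (4153, true)]),
  (3604, [(4751, true), (762, true)]),
  (5067, [(4751, true), (440, true)]),
  (4459, [(4751, true), (3154, true), (4795, true)]),
  (334, [(4751, true), (3154, true)]),
  (1341, [(4751, true), (899, true), (216, true)]),
  (1965, [(4751, true), (899, true)]),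
  (5584, [(4751, true), (6022, true)]),
  (4238, [(4751, true), (2886, true)]),
  (1630, [(4751, true), (2884, true)]),
  (2056, [(4751, true), (2215, true)]),
  (6142, [(4751, true), (251, true)]),
  (219, [(4751, true), (1627, true)]),
  (713, [(4751, true), (3998, true)]),
  (3332, [(4751, true), (3197, true), (1884, true)]),
  (5710, [(4751, true), (3197, true)]),
  (3108, [(4751, true), (4167, true), (3042, true)]),
  (2731, [(4751, true), (4167, true)]),
  (2078, [(4751, true), (558, true)]),
  (4276, [(4751, true), (4251, true)]),
  (5974, [(4751, true), (5190, true)]),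
  (5277, [(4751, true), (5792, true)]),
  (5163, [(4751, true), (2707, true)]),
  (2258, [(4751, true), (2969, true)]),
  (4577, [(4751, true), (4195, true)]),
  (210, [(4751, true), (570, true)]),
  (5080, [(4751, true), (5786, true)]),
  (2586, [(4751, true), (716, true)]),
  (5653, [(4751, true), (1884, true)]),
  (886, [(4751, true), (3042, true)]),
  (4524, [(4751, true), (4558, true)]),
  (709, [(4751, true), (2462, true), (3619, true)]),
  (5995, [(4751, true), (2462, true)]),
  (1749, [(4751, true), (1816, true), (5055, true)]),
  (631, [(4751, true), (1816, true)]),
  (1497, [(4751, true), (2813, true)]),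
  (1368, [(4751, true), (1550, true)]),
  (344, [(4751, true), (1021, true)]),
  (5987, [(4751, true), (4183, true)]),
  (3972, [(4751, true), (3101, true)]),
  (3405, [(4751, true), (3949, true)]),
  (1004, [(4751, true), (5656, true)]),
  (5502, [(4751, true), (3229, true)]),
  (408, [(4751, true), (5514, true)]),
  (3147, [(4751, true)]),
  (5225, [(5316, true), (2487, true), (5769, true)]),
  (5430, [(5316, true), (2487, true)]),
  (685, [(5316, true), (171, true), (2215, true)]),
  (5436, [(5316, true), (171, true)]),
  (3596, [(5316, true), (958, true), (1627, true)]),
  (5667, [(5316, true), (958, true)]),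
  (38, [(5316, true), (5620, true), (251, true)]),
  (1543, [(5316, true), (5620, true)]),
  (595, [(5316, true), (5671, true), (5374, true)]),
  (2210, [(5316, true), (5671, true)]),
  (6026, [(5316, true), (3875, true), (4513, true)]),
  (4023, [(5316, true), (3875, true)]),
  (401, [(5316, true), (2088, true), (1084, true)]),
  (1419, [(5316, true), (2088, true)]),
  (4623, [(5316, true), (16, true), (4388, true)]),
  (1, [(5316, true), (16, true)]),
  (3602, [(5316, true), (1404, true), (3245, true)]),
  (2310, [(5316, true), (1404, true)]),
  (3599, [(5316, true), (4410, true), (4167, true)]),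
  (1865, [(5316, true), (4410, true)]),
  (2275, [(5316, true), (4241, true), (2661, true)]),
  (6101, [(5316, true), (4241, true)]),
  (6003, [(5316, true), (1345, true), (3478, true)]),
  (4587, [(5316, true), (1345, true)]),
  (4473, [(5316, true), (1246, true), (2707, true)]),
  (5869, [(5316, true), (1246, true)]),
  (5695, [(5316, true), (1265, true)]),
  (2592, [(5316, true), (4200, true)]),
  (6038, [(5316, true), (762, true), (440, true)]),
  (3735, [(5316, true), (762, true)]),
  (1705, [(5316, true), (4153, true), (3663, true)]),
  (901, [(5316, true), (4153, true)]),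
  (3560, [(5316, true), (440, true)]),
  (618, [(5316, true), (1942, true), (2202, true)]),
  (1424, [(5316, true), (1942, true)]),
  (1872, [(5316, true), (1639, true), (480, true)]),
  (303, [(5316, true), (1639, true)]),
  (1251, [(5316, true), (4573, true), (3478, true)]),
  (1284, [(5316, true), (4573, true)]),
  (6041, [(5316, true), (216, true)]),
  (1602, [(5316, true), (6022, true)]),
  (5141, [(5316, true), (4795, true)]),
  (2513, [(5316, true), (2884, true)]),
  (2851, [(5316, true), (2215, true)]),
  (4084, [(5316, true), (1899, true)]),
  (5215, [(5316, true), (1627, true)]),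
  (3300, [(5316, true), (3998, true)]),
  (4714, [(5316, true), (3197, true)]),
  (1330, [(5316, true), (3958, true)]),
  (941, [(5316, true), (4317, true)]),
  (4845, [(5316, true), (1187, true)]),
  (3904, [(5316, true), (1637, true)]),
  (5670, [(5316, true), (4633, true)]),
  (3360, [(5316, true), (6124, true)]),
  (1324, [(5316, true), (2131, true), (103, true)]),
  (5736, [(5316, true), (2131, true)]),
  (4033, [(5316, true), (4513, true)]),
  (5901, [(5316, true), (1733, true)]),
  (1891, [(5316, true), (3245, true)]),
  (3238, [(5316, true), (3588, true)]),
  (3306, [(5316, true), (558, true)]),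
  (1995, [(5316, true), (3013, true)]),
  (3654, [(5316, true), (2033, true)]),
  (1208, [(5316, true), (37, true), (1671, true)]),
  (4269, [(5316, true), (37, true)]),
  (5925, [(5316, true), (480, true)]),
  (3399, [(5316, true), (1487, true)]),
  (4396, [(5316, true), (3451, true)]),
  (1931, [(5316, true), (1373, true)]),
  (615, [(5316, true), (2735, true)])]

def steps13 : List (ℕ × List (ℕ × Bool)) := [(5483, [(5316, true), (551, true), (5656, true)]),
  (5745, [(5316, true), (551, true)]),
  (2031, [(5316, true), (2423, true), (485, true)]),
  (3386, [(5316, true), (2423, true)]),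
  (1128, [(5316, true), (2681, true)]),
  (318, [(5316, true), (587, true)]),
  (1665, [(5316, true), (5514, true)]),
  (5426, [(5316, true), (4771, true)]),
  (862, [(5316, true), (6037, true)]),
  (1538, [(5316, true)]),
  (261, [(6006, true), (4911, true), (1455, true)]),
  (6009, [(6006, true), (4911, true)]),
  (1293, [(6006, true), (3537, true), (440, true)]),
  (5346, [(6006, true), (3537, true)]),
  (450, [(6006, true), (5608, true), (762, true)]),
  (370, [(6006, true), (5608, true)]),
  (2297, [(6006, true), (2838, true), (5048, true)]),
  (2135, [(6006, true), (2838, true)]),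
  (5646, [(6006, true), (4423, true), (2984, true)]),
  (1038, [(6006, true), (4423, true)]),
  (3841, [(6006, true), (3875, true)]),
  (3964, [(6006, true), (2088, true)]),
  (2041, [(6006, true), (16, true)]),
  (1344, [(6006, true), (1404, true)]),
  (1800, [(6006, true), (4410, true)]),
  (3916, [(6006, true), (4241, true)]),
  (893, [(6006, true), (5048, true)]),
  (5565, [(6006, true), (2984, true)]),
  (5129, [(6006, true), (1345, true)]),
  (4899, [(6006, true), (4024, true)]),
  (2295, [(6006, true), (1246, true)]),
  (6072, [(6006, true), (327, true)]),
  (4161, [(6006, true), (762, true)]),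
  (5803, [(6006, true), (4153, true)]),
  (766, [(6006, true), (440, true)]),
  (1365, [(6006, true), (1942, true)]),
  (1258, [(6006, true), (3154, true), (1627, true)]),
  (3447, [(6006, true), (3154, true)]),
  (4697, [(6006, true), (4320, true), (3197, true)]),
  (4336, [(6006, true), (4320, true)]),
  (1513, [(6006, true), (899, true)]),
  (461, [(6006, true), (2766, true)]),
  (1362, [(6006, true), (3663, true), (4713, true)]),
  (2068, [(6006, true), (3663, true)]),
  (4669, [(6006, true), (216, true)]),
  (208, [(6006, true), (6022, true), (1671, true)]),
  (2177, [(6006, true), (6022, true)]),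
  (2327, [(6006, true), (4795, true), (3588, true)]),
  (3423, [(6006, true), (4795, true)]),
  (5227, [(6006, true), (2886, true), (2202, true)]),
  (1260, [(6006, true), (2886, true)]),
  (3440, [(6006, true), (2884, true)]),
  (2194, [(6006, true), (5374, true)]),
  (3638, [(6006, true), (2215, true)]),
  (4332, [(6006, true), (1899, true)]),
  (4856, [(6006, true), (3998, true), (3245, true)]),
  (4729, [(6006, true), (3998, true)]),
  (3243, [(6006, true), (3197, true)]),
  (4494, [(6006, true), (4167, true), (3934, true)]),
  (2432, [(6006, true), (4167, true)]),
  (2309, [(6006, true), (2986, true), (3934, true)]),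
  (2685, [(6006, true), (2986, true)]),
  (3134, [(6006, true), (665, true)]),
  (5392, [(6006, true), (6124, true)]),
  (2121, [(6006, true), (1084, true)]),
  (281, [(6006, true), (3013, true)]),
  (2703, [(6006, true), (4251, true)]),
  (300, [(6006, true), (28, true)]),
  (3422, [(6006, true), (2033, true)]),
  (3185, [(6006, true), (37, true)]),
  (1905, [(6006, true), (2969, true)]),
  (5376, [(6006, true), (4002, true)]),
  (2821, [(6006, true), (1961, true)]),
  (5320, [(6006, true), (6057, true)]),
  (5075, [(6006, true), (1927, true)]),
  (4032, [(6006, true), (4192, true)]),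
  (4644, [(6006, true), (1487, true)]),
  (868, [(6006, true), (3451, true)]),
  (4867, [(6006, true), (4388, true)]),
  (117, [(6006, true), (103, true)]),
  (4695, [(6006, true), (5522, true), (903, true)]),
  (2819, [(6006, true), (5522, true)]),
  (4261, [(6006, true), (649, true), (932, true)]),
  (5866, [(6006, true), (649, true)]),
  (4062, [(6006, true), (1455, true)]),
  (3997, [(6006, true), (3335, true)]),
  (3345, [(6006, true), (3008, true)]),
  (5893, [(6006, true), (2904, true)]),
  (2787, [(6006, true), (5785, true)]),
  (985, [(6006, true)]),
  (1294, [(2487, true), (5337, true), (4924, true)]),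
  (579, [(2487, true), (5337, true)]),
  (804, [(2487, true), (588, true), (3042, true)]),
  (4896, [(2487, true), (588, true)]),
  (1791, [(2487, true), (798, true), (2240, true)]),
  (1902, [(2487, true), (798, true)]),
  (3585, [(2487, true), (4767, true), (4664, true)]),
  (4944, [(2487, true), (4767, true)]),
  (4344, [(2487, true), (733, true), (4410, true)]),
  (5881, [(2487, true), (733, true)]),
  (3658, [(2487, true), (5854, true), (16, true)]),
  (3747, [(2487, true), (5854, true)]),
  (280, [(2487, true), (1242, true), (2707, true)]),
  (4486, [(2487, true), (1242, true)]),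
  (2107, [(2487, true), (5186, true), (216, true)]),
  (4503, [(2487, true), (5186, true)]),
  (2428, [(2487, true), (3875, true)]),
  (1870, [(2487, true), (2088, true)]),
  (644, [(2487, true), (16, true)]),
  (4609, [(2487, true), (1404, true)]),
  (5446, [(2487, true), (4410, true)]),
  (409, [(2487, true), (4241, true)]),
  (3477, [(2487, true), (5048, true)]),
  (2762, [(2487, true), (2984, true)]),
  (4355, [(2487, true), (4024, true)]),
  (1871, [(2487, true), (327, true)]),
  (5596, [(2487, true), (3154, true)]),
  (3523, [(2487, true), (4320, true)]),
  (3176, [(2487, true), (899, true)]),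
  (3200, [(2487, true), (2766, true)]),
  (6068, [(2487, true), (1639, true), (2661, true)]),
  (2653, [(2487, true), (1639, true)]),
  (4781, [(2487, true), (4573, true), (5395, true)]),
  (2440, [(2487, true), (4573, true)]),
  (1298, [(2487, true), (216, true)]),
  (73, [(2487, true), (6022, true)]),
  (2373, [(2487, true), (2886, true)]),
  (3342, [(2487, true), (2884, true)]),
  (4016, [(2487, true), (5374, true)]),
  (2504, [(2487, true), (2215, true)]),
  (5626, [(2487, true), (1899, true), (2707, true)]),
  (2852, [(2487, true), (1899, true)]),
  (2903, [(2487, true), (1627, true), (3958, true)]),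
  (3536, [(2487, true), (1627, true)]),
  (3840, [(2487, true), (3998, true)]),
  (1080, [(2487, true), (1637, true)]),
  (1141, [(2487, true), (2986, true)]),
  (3070, [(2487, true), (4633, true), (1733, true)]),
  (3873, [(2487, true), (4633, true)]),
  (5335, [(2487, true), (3478, true)]),
  (4199, [(2487, true), (665, true)]),
  (4156, [(2487, true), (6124, true)]),
  (5088, [(2487, true), (4513, true)]),
  (1967, [(2487, true), (558, true), (37, true)]),
  (2252, [(2487, true), (558, true)]),
  (2789, [(2487, true), (2201, true), (2033, true)]),
  (5032, [(2487, true), (2201, true)]),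
  (1303, [(2487, true), (5792, true)]),
  (3356, [(2487, true), (2969, true)]),
  (4839, [(2487, true), (3934, true)])]

def steps14 : List (ℕ × List (ℕ × Bool)) := [(1025, [(2487, true), (3468, true)]),
  (4293, [(2487, true), (5138, true)]),
  (2882, [(2487, true), (668, true)]),
  (2075, [(2487, true), (71, true)]),
  (5843, [(2487, true), (1129, true)]),
  (3717, [(2487, true)]),
  (74, [(4911, true), (642, true), (2462, true)]),
  (2470, [(4911, true), (642, true)]),
  (865, [(4911, true), (1463, true), (1816, true)]),
  (2827, [(4911, true), (1463, true)]),
  (3890, [(4911, true), (1471, true), (2884, true)]),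
  (1407, [(4911, true), (1471, true)]),
  (5721, [(4911, true), (5035, true), (4795, true)]),
  (1577, [(4911, true), (5035, true)]),
  (4031, [(4911, true), (2804, true), (1002, true)]),
  (4313, [(4911, true), (2804, true)]),
  (5008, [(4911, true), (671, true), (5824, true)]),
  (2084, [(4911, true), (671, true)]),
  (4106, [(4911, true), (158, true), (1084, true)]),
  (1818, [(4911, true), (158, true)]),
  (4783, [(4911, true), (2873, true), (4241, true)]),
  (2402, [(4911, true), (2873, true)]),
  (230, [(4911, true), (2088, true)]),
  (883, [(4911, true), (1404, true)]),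
  (5548, [(4911, true), (4410, true)]),
  (2182, [(4911, true), (4241, true)]),
  (2112, [(4911, true), (2984, true)]),
  (3369, [(4911, true), (1345, true), (216, true)]),
  (3083, [(4911, true), (1345, true)]),
  (429, [(4911, true), (1265, true), (4633, true)]),
  (6126, [(4911, true), (1265, true)]),
  (299, [(4911, true), (762, true)]),
  (4100, [(4911, true), (4153, true), (5632, true)]),
  (900, [(4911, true), (4153, true)]),
  (377, [(4911, true), (440, true)]),
  (6083, [(4911, true), (1942, true)]),
  (2054, [(4911, true), (3154, true)]),
  (6019, [(4911, true), (4320, true), (2884, true)]),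
  (4148, [(4911, true), (4320, true)]),
  (3230, [(4911, true), (899, true), (37, true)]),
  (1581, [(4911, true), (899, true)]),
  (2248, [(4911, true), (2766, true), (1637, true)]),
  (3914, [(4911, true), (2766, true)]),
  (1831, [(4911, true), (1639, true)]),
  (1327, [(4911, true), (4573, true)]),
  (5550, [(4911, true), (3663, true)]),
  (6114, [(4911, true), (6022, true)]),
  (2542, [(4911, true), (2886, true)]),
  (1133, [(4911, true), (3958, true)]),
  (3305, [(4911, true), (5601, true)]),
  (1147, [(4911, true), (4317, true)]),
  (121, [(4911, true), (1187, true)]),
  (2887, [(4911, true), (2986, true)]),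
  (5012, [(4911, true), (3478, true)]),
  (4224, [(4911, true), (2661, true)]),
  (4377, [(4911, true), (665, true), (4713, true)]),
  (3067, [(4911, true), (665, true)]),
  (5859, [(4911, true), (1084, true)]),
  (3742, [(4911, true), (4251, true)]),
  (3993, [(4911, true), (2033, true), (3468, true)]),
  (4641, [(4911, true), (2033, true)]),
  (3996, [(4911, true), (1961, true)]),
  (5014, [(4911, true), (1927, true)]),
  (5827, [(4911, true), (666, true), (1487, true)]),
  (3031, [(4911, true), (666, true)]),
  (2507, [(4911, true), (2847, true), (3451, true)]),
  (2698, [(4911, true), (2847, true)]),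
  (3057, [(4911, true), (1603, true)]),
  (988, [(4911, true), (932, true)]),
  (3566, [(4911, true), (3949, true)]),
  (1192, [(4911, true), (3814, true)]),
  (337, [(4911, true)]),
  (1594, [(2535, true), (2806, true), (4380, true)]),
  (2824, [(2535, true), (2806, true)]),
  (5331, [(2535, true), (898, true), (1884, true)]),
  (4321, [(2535, true), (898, true)]),
  (2608, [(2535, true), (5447, true), (4386, true)]),
  (2527, [(2535, true), (5447, true)]),
  (6147, [(2535, true), (2211, true), (1013, true)]),
  (1400, [(2535, true), (2211, true)]),
  (3404, [(2535, true), (733, true), (2131, true)]),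
  (2051, [(2535, true), (733, true)]),
  (1237, [(2535, true), (5854, true), (1733, true)]),
  (982, [(2535, true), (5854, true)]),
  (5511, [(2535, true), (1526, true), (762, true)]),
  (2771, [(2535, true), (1526, true)]),
  (4931, [(2535, true), (4543, true), (440, true)]),
  (5156, [(2535, true), (4543, true)]),
  (788, [(2535, true), (3875, true)]),
  (1118, [(2535, true), (2088, true)]),
  (4504, [(2535, true), (16, true)]),
  (4791, [(2535, true), (1404, true)]),
  (5862, [(2535, true), (4410, true)]),
  (2594, [(2535, true), (4241, true)]),
  (6085, [(2535, true), (5048, true), (2886, true)]),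
  (82, [(2535, true), (5048, true)]),
  (5208, [(2535, true), (2984, true), (1627, true)]),
  (364, [(2535, true), (2984, true)]),
  (5420, [(2535, true), (1345, true)]),
  (1308, [(2535, true), (4024, true), (4320, true)]),
  (1163, [(2535, true), (4024, true)]),
  (5498, [(2535, true), (1246, true)]),
  (2922, [(2535, true), (1265, true), (4153, true)]),
  (2313, [(2535, true), (1265, true), (1942, true)]),
  (3318, [(2535, true), (1265, true)]),
  (1680, [(2535, true), (327, true), (3154, true)]),
  (4017, [(2535, true), (327, true)]),
  (2057, [(2535, true), (4200, true), (4153, true)]),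
  (1428, [(2535, true), (4200, true), (1942, true)]),
  (2798, [(2535, true), (4200, true)]),
  (448, [(2535, true), (762, true)]),
  (1145, [(2535, true), (440, true)]),
  (5771, [(2535, true), (3154, true), (3663, true)]),
  (532, [(2535, true), (3154, true)]),
  (3019, [(2535, true), (4320, true), (3998, true)]),
  (1814, [(2535, true), (4320, true)]),
  (4475, [(2535, true), (6022, true)]),
  (346, [(2535, true), (4795, true)]),
  (3592, [(2535, true), (2215, true), (4317, true)]),
  (2625, [(2535, true), (2215, true)]),
  (4749, [(2535, true), (251, true)]),
  (83, [(2535, true), (2986, true)]),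
  (1610, [(2535, true), (4633, true)]),
  (3056, [(2535, true), (6124, true)]),
  (5948, [(2535, true), (4513, true)]),
  (4326, [(2535, true), (4251, true)]),
  (4471, [(2535, true), (227, true)]),
  (2788, [(2535, true), (28, true)]),
  (3569, [(2535, true), (5190, true)]),
  (5814, [(2535, true), (480, true)]),
  (879, [(2535, true), (1020, true), (930, true)]),
  (148, [(2535, true), (1020, true)]),
  (3660, [(2535, true), (5632, true)]),
  (4760, [(2535, true), (5752, true)]),
  (3315, [(2535, true), (5181, true)]),
  (2613, [(2535, true), (93, true)]),
  (3839, [(2535, true), (3351, true)]),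
  (3737, [(2535, true)]),
  (5597, [(5113, true), (1631, true), (4528, true)]),
  (5394, [(5113, true), (1631, true)]),
  (3770, [(5113, true), (4855, true), (2120, true)]),
  (3460, [(5113, true), (4855, true)]),
  (4188, [(5113, true), (1471, true), (6057, true)]),
  (846, [(5113, true), (1471, true)]),
  (847, [(5113, true), (5035, true), (4192, true)]),
  (4753, [(5113, true), (5035, true)]),
  (3714, [(5113, true), (3314, true), (4195, true)]),
  (6117, [(5113, true), (3314, true)]),
  (2883, [(5113, true), (4990, true), (570, true)]),
  (1979, [(5113, true), (4990, true)])]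

def steps15 : List (ℕ × List (ℕ × Bool)) := [(2565, [(5113, true), (4906, true), (2215, true)]),
  (4538, [(5113, true), (4906, true)]),
  (3590, [(5113, true), (4393, true), (3875, true)]),
  (2799, [(5113, true), (4393, true)]),
  (3375, [(5113, true), (3875, true)]),
  (1058, [(5113, true), (2088, true)]),
  (5936, [(5113, true), (16, true)]),
  (4483, [(5113, true), (1404, true)]),
  (1808, [(5113, true), (5048, true)]),
  (2227, [(5113, true), (1246, true), (5374, true)]),
  (1367, [(5113, true), (1246, true)]),
  (6096, [(5113, true), (4200, true), (5601, true)]),
  (1476, [(5113, true), (4200, true)]),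
  (1189, [(5113, true), (762, true)]),
  (4160, [(5113, true), (4153, true)]),
  (1496, [(5113, true), (440, true)]),
  (552, [(5113, true), (1942, true), (2215, true)]),
  (4837, [(5113, true), (1942, true)]),
  (5645, [(5113, true), (3154, true), (3663, true)]),
  (5973, [(5113, true), (3154, true)]),
  (2360, [(5113, true), (4320, true)]),
  (4515, [(5113, true), (899, true), (4167, true)]),
  (5886, [(5113, true), (899, true)]),
  (863, [(5113, true), (2766, true), (2884, true)]),
  (3967, [(5113, true), (2766, true)]),
  (2454, [(5113, true), (1639, true)]),
  (4116, [(5113, true), (4573, true)]),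
  (2341, [(5113, true), (6022, true)]),
  (4260, [(5113, true), (2886, true)]),
  (2023, [(5113, true), (5374, true), (3998, true)]),
  (5647, [(5113, true), (5374, true)]),
  (793, [(5113, true), (1899, true)]),
  (4832, [(5113, true), (251, true)]),
  (6064, [(5113, true), (1627, true)]),
  (1283, [(5113, true), (3197, true)]),
  (783, [(5113, true), (1187, true), (1637, true)]),
  (2021, [(5113, true), (1187, true)]),
  (4556, [(5113, true), (1637, true)]),
  (3628, [(5113, true), (3478, true)]),
  (142, [(5113, true), (28, true)]),
  (1130, [(5113, true), (4002, true)]),
  (3100, [(5113, true), (1961, true)]),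
  (4618, [(5113, true), (1927, true)]),
  (3807, [(5113, true), (1373, true)]),
  (2443, [(5113, true), (521, true)]),
  (3556, [(5113, true), (2735, true)]),
  (3090, [(5113, true), (782, true)]),
  (4677, [(5113, true), (4108, true)]),
  (2800, [(5113, true), (3390, true)]),
  (284, [(5113, true), (903, true)]),
  (3103, [(5113, true), (583, true)]),
  (3693, [(5113, true), (3101, true)]),
  (2976, [(5113, true), (2971, true)]),
  (5865, [(5113, true)]),
  (556, [(2806, true), (588, true), (1265, true)]),
  (1945, [(2806, true), (588, true)]),
  (4977, [(2806, true), (205, true), (2886, true)]),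
  (1355, [(2806, true), (205, true)]),
  (4376, [(2806, true), (4767, true), (2984, true)]),
  (4097, [(2806, true), (4767, true), (1246, true)]),
  (2964, [(2806, true), (4767, true)]),
  (5362, [(2806, true), (2046, true), (4713, true)]),
  (3605, [(2806, true), (2046, true)]),
  (5110, [(2806, true), (4990, true), (1942, true)]),
  (4626, [(2806, true), (4990, true)]),
  (669, [(2806, true), (671, true), (2033, true)]),
  (2605, [(2806, true), (671, true)]),
  (3932, [(2806, true), (3884, true), (327, true)]),
  (2108, [(2806, true), (3884, true)]),
  (3552, [(2806, true), (99, true), (5792, true)]),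
  (3124, [(2806, true), (99, true)]),
  (3921, [(2806, true), (4543, true), (2984, true)]),
  (5665, [(2806, true), (4543, true), (3998, true)]),
  (875, [(2806, true), (4543, true)]),
  (1524, [(2806, true), (2088, true)]),
  (5606, [(2806, true), (16, true), (37, true)]),
  (1320, [(2806, true), (16, true)]),
  (3800, [(2806, true), (4410, true)]),
  (5894, [(2806, true), (4241, true)]),
  (5481, [(2806, true), (1345, true)]),
  (4470, [(2806, true), (4024, true), (2969, true)]),
  (2786, [(2806, true), (4024, true)]),
  (4067, [(2806, true), (327, true)]),
  (234, [(2806, true), (4153, true)]),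
  (1537, [(2806, true), (440, true)]),
  (1582, [(2806, true), (4320, true)]),
  (4370, [(2806, true), (2766, true)]),
  (4693, [(2806, true), (4573, true)]),
  (5497, [(2806, true), (216, true)]),
  (4357, [(2806, true), (2884, true)]),
  (4304, [(2806, true), (5374, true)]),
  (5140, [(2806, true), (1899, true), (4513, true)]),
  (5147, [(2806, true), (1899, true)]),
  (5309, [(2806, true), (1627, true)]),
  (4417, [(2806, true), (3197, true)]),
  (4282, [(2806, true), (5601, true)]),
  (2650, [(2806, true), (1637, true)]),
  (1201, [(2806, true), (2986, true)]),
  (4046, [(2806, true), (665, true)]),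
  (84, [(2806, true), (3245, true)]),
  (1847, [(2806, true), (3013, true)]),
  (4897, [(2806, true), (227, true), (5228, true)]),
  (5561, [(2806, true), (227, true)]),
  (3130, [(2806, true), (2201, true)]),
  (626, [(2806, true), (5190, true), (1961, true)]),
  (5472, [(2806, true), (5190, true)]),
  (4348, [(2806, true), (37, true)]),
  (2073, [(2806, true), (480, true)]),
  (4831, [(2806, true), (4713, true)]),
  (3806, [(2806, true), (103, true)]),
  (1888, [(2806, true), (782, true)]),
  (1531, [(2806, true), (118, true)]),
  (5774, [(2806, true), (4195, true)]),
  (1921, [(2806, true), (1884, true)]),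
  (247, [(2806, true), (391, true)]),
  (69, [(2806, true)]),
  (1802, [(898, true), (5337, true), (4200, true)]),
  (2294, [(898, true), (5337, true)]),
  (2154, [(898, true), (1980, true), (4633, true)]),
  (2376, [(898, true), (1980, true)]),
  (2711, [(898, true), (2532, true), (5374, true)]),
  (3845, [(898, true), (2532, true)]),
  (1065, [(898, true), (798, true), (5048, true)]),
  (4111, [(898, true), (798, true), (1345, true)]),
  (3358, [(898, true), (798, true)]),
  (2397, [(898, true), (4990, true), (2215, true)]),
  (2486, [(898, true), (4990, true)]),
  (5353, [(898, true), (671, true), (4153, true)]),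
  (2522, [(898, true), (671, true)]),
  (2750, [(898, true), (522, true), (4024, true)]),
  (3781, [(898, true), (522, true)]),
  (907, [(898, true), (1526, true), (5048, true)]),
  (3616, [(898, true), (1526, true), (3451, true)]),
  (278, [(898, true), (1526, true)]),
  (5941, [(898, true), (1399, true), (1627, true)]),
  (512, [(898, true), (1399, true)]),
  (621, [(898, true), (3875, true)]),
  (3531, [(898, true), (16, true)]),
  (5507, [(898, true), (1404, true)]),
  (4476, [(898, true), (4410, true), (4167, true)]),
  (3355, [(898, true), (4410, true)]),
  (2293, [(898, true), (4024, true)]),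
  (4969, [(898, true), (1246, true)]),
  (2541, [(898, true), (327, true), (3197, true)]),
  (3168, [(898, true), (327, true)]),
  (3818, [(898, true), (762, true)]),
  (4430, [(898, true), (1942, true)]),
  (5443, [(898, true), (3154, true)]),
  (5307, [(898, true), (899, true)]),
  (5350, [(898, true), (1639, true)])]

def steps16 : List (ℕ × List (ℕ × Bool)) := [(4762, [(898, true), (6022, true)]),
  (4182, [(898, true), (2886, true)]),
  (4723, [(898, true), (5374, true)]),
  (2975, [(898, true), (1899, true)]),
  (152, [(898, true), (3998, true)]),
  (6075, [(898, true), (3197, true)]),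
  (2794, [(898, true), (1187, true)]),
  (3762, [(898, true), (1637, true)]),
  (143, [(898, true), (4633, true)]),
  (5073, [(898, true), (3478, true)]),
  (5407, [(898, true), (2661, true)]),
  (3915, [(898, true), (6124, true)]),
  (2410, [(898, true), (1733, true)]),
  (5657, [(898, true), (3588, true)]),
  (5341, [(898, true), (558, true)]),
  (1029, [(898, true), (28, true)]),
  (5694, [(898, true), (5190, true), (974, true)]),
  (5992, [(898, true), (5190, true)]),
  (1148, [(898, true), (480, true)]),
  (497, [(898, true), (4002, true)]),
  (6071, [(898, true), (3934, true)]),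
  (127, [(898, true), (3468, true)]),
  (2589, [(898, true), (2847, true)]),
  (3780, [(898, true), (521, true)]),
  (1178, [(898, true), (1002, true)]),
  (580, [(898, true), (4380, true)]),
  (2435, [(898, true), (2723, true)]),
  (4796, [(898, true)]),
  (1580, [(1631, true), (1463, true), (5374, true)]),
  (3991, [(1631, true), (1463, true)]),
  (4263, [(1631, true), (5062, true), (1404, true)]),
  (1539, [(1631, true), (5062, true)]),
  (201, [(1631, true), (2211, true), (4153, true)]),
  (1720, [(1631, true), (2211, true)]),
  (5311, [(1631, true), (4767, true), (2707, true)]),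
  (5744, [(1631, true), (4767, true)]),
  (2366, [(1631, true), (1364, true), (558, true)]),
  (3287, [(1631, true), (1364, true)]),
  (529, [(1631, true), (671, true), (2984, true)]),
  (4202, [(1631, true), (671, true), (3958, true)]),
  (4649, [(1631, true), (671, true)]),
  (4319, [(1631, true), (3796, true), (1187, true)]),
  (2953, [(1631, true), (3796, true)]),
  (5187, [(1631, true), (4083, true), (5792, true)]),
  (1722, [(1631, true), (4083, true)]),
  (2133, [(1631, true), (4393, true), (2984, true)]),
  (1334, [(1631, true), (4393, true), (1942, true)]),
  (2407, [(1631, true), (4393, true)]),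
  (1619, [(1631, true), (4410, true)]),
  (3007, [(1631, true), (4241, true)]),
  (4575, [(1631, true), (1345, true)]),
  (3924, [(1631, true), (4024, true)]),
  (4373, [(1631, true), (1246, true)]),
  (650, [(1631, true), (1265, true), (1899, true)]),
  (4385, [(1631, true), (1265, true)]),
  (4836, [(1631, true), (4200, true)]),
  (5986, [(1631, true), (4153, true), (1927, true)]),
  (242, [(1631, true), (4153, true)]),
  (3159, [(1631, true), (440, true), (3478, true)]),
  (3584, [(1631, true), (440, true)]),
  (2368, [(1631, true), (3154, true)]),
  (3372, [(1631, true), (1639, true)]),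
  (538, [(1631, true), (4573, true)]),
  (827, [(1631, true), (216, true)]),
  (2767, [(1631, true), (6022, true)]),
  (5279, [(1631, true), (4795, true), (3588, true)]),
  (606, [(1631, true), (4795, true)]),
  (1754, [(1631, true), (2884, true)]),
  (2699, [(1631, true), (3197, true)]),
  (1441, [(1631, true), (5601, true), (3013, true)]),
  (5098, [(1631, true), (5601, true)]),
  (5934, [(1631, true), (2661, true)]),
  (830, [(1631, true), (665, true)]),
  (5405, [(1631, true), (6124, true)]),
  (5078, [(1631, true), (4513, true)]),
  (4477, [(1631, true), (3013, true)]),
  (5555, [(1631, true), (5190, true), (37, true)]),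
  (476, [(1631, true), (5190, true)]),
  (12, [(1631, true), (2969, true)]),
  (4934, [(1631, true), (4002, true)]),
  (1670, [(1631, true), (3934, true)]),
  (1985, [(1631, true), (666, true)]),
  (5712, [(1631, true), (103, true)]),
  (506, [(1631, true), (521, true), (2723, true)]),
  (1824, [(1631, true), (521, true)]),
  (1773, [(1631, true), (5395, true)]),
  (4703, [(1631, true), (4195, true)]),
  (2818, [(1631, true), (5786, true)]),
  (3950, [(1631, true), (2060, true)]),
  (2704, [(1631, true)]),
  (5114, [(4855, true), (642, true), (251, true)]),
  (4042, [(4855, true), (642, true)]),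
  (1685, [(4855, true), (4717, true), (899, true)]),
  (439, [(4855, true), (4717, true)]),
  (2539, [(4855, true), (2211, true), (762, true)]),
  (2132, [(4855, true), (2211, true)]),
  (4733, [(4855, true), (4767, true), (1899, true)]),
  (256, [(4855, true), (4767, true)]),
  (4603, [(4855, true), (5832, true), (1265, true)]),
  (193, [(4855, true), (5832, true)]),
  (1186, [(4855, true), (2804, true), (2088, true)]),
  (2137, [(4855, true), (2804, true), (1246, true)]),
  (4454, [(4855, true), (2804, true)]),
  (2842, [(4855, true), (4906, true), (4317, true)]),
  (106, [(4855, true), (4906, true), (4251, true)]),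
  (4499, [(4855, true), (4906, true)]),
  (5780, [(4855, true), (4074, true), (5048, true)]),
  (2044, [(4855, true), (4074, true)]),
  (515, [(4855, true), (343, true), (440, true)]),
  (4696, [(4855, true), (343, true)]),
  (2727, [(4855, true), (2088, true)]),
  (3874, [(4855, true), (1404, true)]),
  (2286, [(4855, true), (5048, true)]),
  (5334, [(4855, true), (1345, true), (1187, true)]),
  (4989, [(4855, true), (1345, true)]),
  (2551, [(4855, true), (4024, true)]),
  (89, [(4855, true), (1246, true), (1942, true)]),
  (2129, [(4855, true), (1246, true)]),
  (5082, [(4855, true), (327, true), (1942, true)]),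
  (4205, [(4855, true), (327, true)]),
  (5206, [(4855, true), (4200, true)]),
  (5072, [(4855, true), (4153, true), (4795, true)]),
  (3736, [(4855, true), (4153, true)]),
  (3938, [(4855, true), (3154, true), (2884, true)]),
  (4542, [(4855, true), (3154, true)]),
  (2365, [(4855, true), (4320, true), (1187, true)]),
  (3050, [(4855, true), (4320, true)]),
  (5693, [(4855, true), (899, true)]),
  (3047, [(4855, true), (2766, true)]),
  (5263, [(4855, true), (3663, true)]),
  (5864, [(4855, true), (2886, true)]),
  (2189, [(4855, true), (2215, true)]),
  (3553, [(4855, true), (3998, true)]),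
  (267, [(4855, true), (5601, true)]),
  (2768, [(4855, true), (4633, true)]),
  (4819, [(4855, true), (558, true)]),
  (2223, [(4855, true), (3013, true)]),
  (3437, [(4855, true), (227, true)]),
  (4546, [(4855, true), (5792, true)]),
  (848, [(4855, true), (2033, true), (1961, true)]),
  (2622, [(4855, true), (2033, true)]),
  (1853, [(4855, true), (480, true)]),
  (4408, [(4855, true), (2969, true)]),
  (5207, [(4855, true), (2847, true)]),
  (2325, [(4855, true), (4388, true)]),
  (3754, [(4855, true), (782, true), (4010, true)]),
  (5339, [(4855, true), (782, true)]),
  (4294, [(4855, true), (930, true)]),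
  (5847, [(4855, true), (570, true)]),
  (314, [(4855, true), (716, true)])]

def steps17 : List (ℕ × List (ℕ × Bool)) := [(4231, [(4855, true), (4558, true)]),
  (4322, [(4855, true)]),
  (1443, [(5337, true), (5286, true), (6022, true)]),
  (2489, [(5337, true), (5286, true)]),
  (662, [(5337, true), (2211, true), (4410, true)]),
  (3929, [(5337, true), (2211, true), (4573, true)]),
  (57, [(5337, true), (2211, true)]),
  (3620, [(5337, true), (614, true), (2766, true)]),
  (2391, [(5337, true), (614, true)]),
  (4421, [(5337, true), (3314, true), (3998, true)]),
  (3826, [(5337, true), (3314, true)]),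
  (5815, [(5337, true), (2804, true), (4153, true)]),
  (3110, [(5337, true), (2804, true)]),
  (4848, [(5337, true), (3884, true), (440, true)]),
  (1023, [(5337, true), (3884, true)]),
  (636, [(5337, true), (99, true), (5190, true)]),
  (2668, [(5337, true), (99, true)]),
  (5480, [(5337, true), (5186, true), (2766, true)]),
  (2332, [(5337, true), (5186, true), (1899, true)]),
  (5198, [(5337, true), (5186, true)]),
  (487, [(5337, true), (3875, true)]),
  (5509, [(5337, true), (16, true), (327, true)]),
  (4479, [(5337, true), (16, true)]),
  (2649, [(5337, true), (1404, true), (3663, true)]),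
  (2382, [(5337, true), (1404, true)]),
  (6076, [(5337, true), (4410, true)]),
  (3064, [(5337, true), (4241, true)]),
  (5638, [(5337, true), (5048, true)]),
  (2817, [(5337, true), (2984, true)]),
  (1640, [(5337, true), (1345, true), (1084, true)]),
  (5725, [(5337, true), (1345, true)]),
  (2399, [(5337, true), (4024, true), (974, true)]),
  (712, [(5337, true), (4024, true)]),
  (5837, [(5337, true), (1246, true), (6124, true)]),
  (3661, [(5337, true), (1246, true)]),
  (4579, [(5337, true), (1265, true)]),
  (94, [(5337, true), (327, true), (1927, true)]),
  (3247, [(5337, true), (327, true)]),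
  (2024, [(5337, true), (4200, true)]),
  (1507, [(5337, true), (1942, true), (899, true)]),
  (972, [(5337, true), (1942, true)]),
  (4973, [(5337, true), (3154, true), (4320, true)]),
  (3088, [(5337, true), (3154, true)]),
  (463, [(5337, true), (4320, true)]),
  (4525, [(5337, true), (899, true)]),
  (4000, [(5337, true), (2766, true)]),
  (3434, [(5337, true), (1639, true)]),
  (1804, [(5337, true), (4573, true)]),
  (1727, [(5337, true), (2215, true)]),
  (3030, [(5337, true), (251, true), (2033, true)]),
  (4604, [(5337, true), (251, true)]),
  (1333, [(5337, true), (1187, true)]),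
  (3475, [(5337, true), (2131, true)]),
  (5781, [(5337, true), (227, true)]),
  (4041, [(5337, true), (4713, true)]),
  (5520, [(5337, true), (4388, true)]),
  (3174, [(5337, true), (521, true)]),
  (3099, [(5337, true), (1641, true)]),
  (5109, [(5337, true), (570, true)]),
  (473, [(5337, true), (3042, true)]),
  (2530, [(5337, true), (1958, true)]),
  (6115, [(5337, true)]),
  (3418, [(588, true), (5569, true), (4633, true)]),
  (3297, [(588, true), (5569, true)]),
  (4935, [(588, true), (5447, true), (16, true)]),
  (4157, [(588, true), (5447, true), (1639, true)]),
  (434, [(588, true), (5447, true)]),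
  (2398, [(588, true), (5004, true), (899, true)]),
  (29, [(588, true), (5004, true)]),
  (4440, [(588, true), (3314, true), (1942, true)]),
  (592, [(588, true), (3314, true)]),
  (5583, [(588, true), (2804, true), (2033, true)]),
  (3644, [(588, true), (2804, true)]),
  (61, [(588, true), (522, true), (762, true)]),
  (2891, [(588, true), (522, true)]),
  (4152, [(588, true), (1242, true), (899, true)]),
  (2035, [(588, true), (1242, true), (1487, true)]),
  (5633, [(588, true), (1242, true)]),
  (5045, [(588, true), (1399, true), (3958, true)]),
  (955, [(588, true), (1399, true)]),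
  (4389, [(588, true), (3875, true)]),
  (1091, [(588, true), (2088, true), (3998, true)]),
  (895, [(588, true), (2088, true)]),
  (5354, [(588, true), (16, true)]),
  (4629, [(588, true), (4410, true), (4024, true)]),
  (4159, [(588, true), (4410, true)]),
  (1108, [(588, true), (4241, true)]),
  (4299, [(588, true), (5048, true)]),
  (6123, [(588, true), (2984, true)]),
  (1348, [(588, true), (1345, true), (3998, true)]),
  (3857, [(588, true), (1345, true)]),
  (3519, [(588, true), (4024, true), (2886, true)]),
  (447, [(588, true), (4024, true)]),
  (5952, [(588, true), (1246, true), (3245, true)]),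
  (4053, [(588, true), (1246, true)]),
  (2709, [(588, true), (1265, true)]),
  (3719, [(588, true), (327, true), (5228, true)]),
  (5655, [(588, true), (327, true)]),
  (1436, [(588, true), (4200, true)]),
  (2074, [(588, true), (4153, true), (2766, true)]),
  (5370, [(588, true), (4153, true)]),
  (4492, [(588, true), (3154, true), (4320, true)]),
  (2488, [(588, true), (3154, true)]),
  (132, [(588, true), (4320, true)]),
  (3668, [(588, true), (899, true)]),
  (1048, [(588, true), (2766, true)]),
  (3759, [(588, true), (1639, true)]),
  (3492, [(588, true), (4573, true)]),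
  (4763, [(588, true), (3197, true)]),
  (213, [(588, true), (5601, true)]),
  (2225, [(588, true), (4167, true)]),
  (2092, [(588, true), (1637, true)]),
  (2601, [(588, true), (3478, true)]),
  (1781, [(588, true), (37, true)]),
  (4868, [(588, true), (4002, true)]),
  (5057, [(588, true), (666, true)]),
  (5381, [(588, true), (5632, true)]),
  (2305, [(588, true), (782, true)]),
  (4278, [(588, true), (5824, true)]),
  (3432, [(588, true), (4924, true)]),
  (4521, [(588, true), (4010, true)]),
  (2689, [(588, true)]),
  (3698, [(642, true), (4455, true), (2088, true)]),
  (482, [(642, true), (4455, true)]),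
  (6130, [(642, true), (5447, true), (1942, true)]),
  (921, [(642, true), (5447, true)]),
  (1595, [(642, true), (798, true), (1899, true)]),
  (6144, [(642, true), (798, true)]),
  (1893, [(642, true), (4990, true), (5048, true)]),
  (989, [(642, true), (4990, true), (2884, true)]),
  (5795, [(642, true), (4990, true)]),
  (2791, [(642, true), (992, true), (2661, true)]),
  (964, [(642, true), (992, true)]),
  (3608, [(642, true), (3796, true), (1627, true)]),
  (3024, [(642, true), (3796, true)]),
  (4466, [(642, true), (4083, true), (4251, true)]),
  (3633, [(642, true), (4083, true)]),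
  (3859, [(642, true), (2873, true), (5048, true)]),
  (4540, [(642, true), (2873, true), (4153, true)]),
  (3603, [(642, true), (2873, true)]),
  (563, [(642, true), (3875, true)]),
  (2269, [(642, true), (16, true)]),
  (4350, [(642, true), (1345, true)]),
  (200, [(642, true), (1246, true)]),
  (5540, [(642, true), (1265, true)]),
  (731, [(642, true), (327, true)]),
  (1876, [(642, true), (4200, true), (1487, true)]),
  (2174, [(642, true), (4200, true)]),
  (3052, [(642, true), (762, true), (2884, true)]),
  (2520, [(642, true), (762, true)])]

def steps18 : List (ℕ × List (ℕ × Bool)) := [(4516, [(642, true), (1942, true), (2886, true)]),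
  (1879, [(642, true), (1942, true)]),
  (677, [(642, true), (4320, true)]),
  (1570, [(642, true), (1639, true)]),
  (3347, [(642, true), (4573, true)]),
  (2463, [(642, true), (3663, true)]),
  (3999, [(642, true), (251, true)]),
  (5064, [(642, true), (3998, true), (4633, true)]),
  (4506, [(642, true), (3998, true)]),
  (3466, [(642, true), (3197, true), (1671, true)]),
  (4776, [(642, true), (3197, true)]),
  (1037, [(642, true), (5601, true), (391, true)]),
  (729, [(642, true), (5601, true)]),
  (1969, [(642, true), (4167, true), (37, true)]),
  (4901, [(642, true), (4167, true)]),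
  (1772, [(642, true), (4317, true)]),
  (5112, [(642, true), (1187, true), (4513, true)]),
  (1254, [(642, true), (1187, true)]),
  (135, [(642, true), (1637, true)]),
  (3082, [(642, true), (2986, true)]),
  (4019, [(642, true), (3478, true)]),
  (1457, [(642, true), (2661, true)]),
  (737, [(642, true), (3588, true)]),
  (5145, [(642, true), (3013, true)]),
  (1378, [(642, true), (227, true)]),
  (3406, [(642, true), (2969, true)]),
  (100, [(642, true), (3934, true)]),
  (424, [(642, true), (5395, true)]),
  (1223, [(642, true), (1002, true)]),
  (1707, [(642, true), (5786, true)]),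
  (1280, [(642, true), (1884, true)]),
  (2479, [(642, true)]),
  (3089, [(1463, true), (3113, true), (899, true)]),
  (159, [(1463, true), (3113, true)]),
  (1992, [(1463, true), (5447, true), (440, true)]),
  (3554, [(1463, true), (5447, true)]),
  (2696, [(1463, true), (798, true), (37, true)]),
  (5146, [(1463, true), (798, true)]),
  (4886, [(1463, true), (5965, true), (4200, true)]),
  (1711, [(1463, true), (5965, true)]),
  (3675, [(1463, true), (3314, true), (1404, true)]),
  (2424, [(1463, true), (3314, true), (1345, true)]),
  (4936, [(1463, true), (3314, true)]),
  (306, [(1463, true), (158, true), (4633, true)]),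
  (1049, [(1463, true), (158, true), (28, true)]),
  (1939, [(1463, true), (158, true)]),
  (4022, [(1463, true), (4074, true), (762, true)]),
  (2146, [(1463, true), (4074, true)]),
  (4449, [(1463, true), (343, true), (2984, true)]),
  (1835, [(1463, true), (343, true)]),
  (3680, [(1463, true), (2088, true)]),
  (2552, [(1463, true), (1404, true)]),
  (747, [(1463, true), (2984, true)]),
  (741, [(1463, true), (1345, true), (4153, true)]),
  (3026, [(1463, true), (1345, true)]),
  (349, [(1463, true), (4024, true), (4153, true)]),
  (5988, [(1463, true), (4024, true)]),
  (5902, [(1463, true), (1246, true), (1637, true)]),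
  (4434, [(1463, true), (1246, true)]),
  (6133, [(1463, true), (1265, true)]),
  (456, [(1463, true), (327, true)]),
  (3094, [(1463, true), (1942, true), (6022, true)]),
  (5688, [(1463, true), (1942, true)]),
  (4214, [(1463, true), (3154, true), (1899, true)]),
  (602, [(1463, true), (3154, true)]),
  (2500, [(1463, true), (4320, true), (1899, true)]),
  (2497, [(1463, true), (4320, true)]),
  (5065, [(1463, true), (899, true)]),
  (2150, [(1463, true), (2766, true)]),
  (4981, [(1463, true), (6022, true)]),
  (834, [(1463, true), (2884, true), (5601, true)]),
  (5884, [(1463, true), (2884, true)]),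
  (2626, [(1463, true), (5374, true)]),
  (3586, [(1463, true), (3197, true)]),
  (4244, [(1463, true), (4167, true), (2202, true)]),
  (1450, [(1463, true), (4167, true)]),
  (2895, [(1463, true), (4317, true)]),
  (2578, [(1463, true), (1187, true), (1958, true)]),
  (3703, [(1463, true), (1187, true)]),
  (5850, [(1463, true), (2986, true)]),
  (5778, [(1463, true), (4633, true)]),
  (5708, [(1463, true), (3478, true)]),
  (6058, [(1463, true), (2661, true)]),
  (2164, [(1463, true), (2201, true), (3451, true)]),
  (4639, [(1463, true), (2201, true)]),
  (3380, [(1463, true), (5190, true)]),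
  (5396, [(1463, true), (2707, true)]),
  (3303, [(1463, true), (930, true)]),
  (4675, [(1463, true), (5824, true)]),
  (623, [(1463, true), (5786, true)]),
  (4325, [(1463, true), (4558, true)]),
  (2040, [(1463, true)]),
  (4821, [(5569, true), (5286, true), (1345, true)]),
  (647, [(5569, true), (5286, true)]),
  (2593, [(5569, true), (1980, true), (2215, true)]),
  (5196, [(5569, true), (1980, true)]),
  (5284, [(5569, true), (205, true), (2825, true)]),
  (1889, [(5569, true), (205, true)]),
  (2572, [(5569, true), (5965, true), (3197, true)]),
  (6053, [(5569, true), (5965, true)]),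
  (3981, [(5569, true), (2804, true), (2766, true)]),
  (4274, [(5569, true), (2804, true)]),
  (6138, [(5569, true), (671, true), (3451, true)]),
  (612, [(5569, true), (671, true)]),
  (5572, [(5569, true), (3537, true), (3588, true)]),
  (2607, [(5569, true), (3537, true)]),
  (4075, [(5569, true), (4906, true), (1487, true)]),
  (6153, [(5569, true), (4906, true)]),
  (1715, [(5569, true), (1526, true), (4024, true)]),
  (2756, [(5569, true), (1526, true)]),
  (2678, [(5569, true), (343, true), (1345, true)]),
  (3691, [(5569, true), (343, true)]),
  (412, [(5569, true), (3875, true)]),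
  (1900, [(5569, true), (1404, true)]),
  (4765, [(5569, true), (4410, true)]),
  (5718, [(5569, true), (4241, true)]),
  (3120, [(5569, true), (5048, true)]),
  (841, [(5569, true), (1265, true)]),
  (3122, [(5569, true), (4153, true)]),
  (5437, [(5569, true), (3154, true)]),
  (1086, [(5569, true), (4320, true)]),
  (241, [(5569, true), (216, true)]),
  (2606, [(5569, true), (1899, true), (251, true)]),
  (5189, [(5569, true), (1899, true)]),
  (2208, [(5569, true), (1627, true)]),
  (679, [(5569, true), (4167, true)]),
  (5585, [(5569, true), (1637, true)]),
  (1712, [(5569, true), (2986, true)]),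
  (2156, [(5569, true), (4633, true)]),
  (3472, [(5569, true), (227, true)]),
  (5729, [(5569, true), (2033, true)]),
  (4127, [(5569, true), (1020, true)]),
  (1606, [(5569, true), (2969, true)]),
  (5241, [(5569, true), (1961, true)]),
  (1681, [(5569, true), (6057, true)]),
  (1047, [(5569, true), (4192, true), (4108, true)]),
  (5292, [(5569, true), (4192, true)]),
  (399, [(5569, true), (5395, true), (4010, true)]),
  (2093, [(5569, true), (5395, true)]),
  (4948, [(5569, true), (974, true)]),
  (4176, [(5569, true), (1884, true)]),
  (1493, [(5569, true), (2120, true)]),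
  (818, [(5569, true), (4664, true), (5427, true)]),
  (3354, [(5569, true), (4664, true)]),
  (4008, [(5569, true)]),
  (4793, [(5286, true), (1980, true), (4065, true)]),
  (4627, [(5286, true), (1980, true)]),
  (6104, [(5286, true), (205, true), (5374, true)]),
  (1545, [(5286, true), (205, true)]),
  (870, [(5286, true), (5832, true), (5601, true)])]

def steps19 : List (ℕ × List (ℕ × Bool)) := [(3461, [(5286, true), (5832, true)]),
  (2632, [(5286, true), (3314, true), (899, true)]),
  (2776, [(5286, true), (3314, true)]),
  (3469, [(5286, true), (4990, true), (3998, true)]),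
  (345, [(5286, true), (4990, true)]),
  (5330, [(5286, true), (158, true), (1899, true)]),
  (1196, [(5286, true), (158, true)]),
  (5240, [(5286, true), (5608, true), (3013, true)]),
  (96, [(5286, true), (5608, true)]),
  (4131, [(5286, true), (4074, true), (1246, true)]),
  (3348, [(5286, true), (4074, true)]),
  (2241, [(5286, true), (4543, true), (327, true)]),
  (5056, [(5286, true), (4543, true)]),
  (3292, [(5286, true), (3875, true)]),
  (1855, [(5286, true), (2088, true)]),
  (944, [(5286, true), (16, true)]),
  (707, [(5286, true), (4241, true)]),
  (2837, [(5286, true), (2984, true)]),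
  (1211, [(5286, true), (4200, true)]),
  (2461, [(5286, true), (1942, true)]),
  (4068, [(5286, true), (3154, true)]),
  (884, [(5286, true), (4320, true)]),
  (4595, [(5286, true), (216, true)]),
  (6099, [(5286, true), (6022, true)]),
  (30, [(5286, true), (4795, true)]),
  (1620, [(5286, true), (2884, true), (2986, true)]),
  (5682, [(5286, true), (2884, true)]),
  (5467, [(5286, true), (2661, true), (1958, true)]),
  (6081, [(5286, true), (2661, true)]),
  (1575, [(5286, true), (665, true)]),
  (5090, [(5286, true), (558, true)]),
  (3678, [(5286, true), (5190, true)]),
  (3325, [(5286, true), (2707, true)]),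
  (1861, [(5286, true), (37, true)]),
  (2214, [(5286, true), (480, true)]),
  (5553, [(5286, true), (1671, true)]),
  (2919, [(5286, true), (1487, true)]),
  (4262, [(5286, true), (4108, true)]),
  (4870, [(5286, true), (118, true)]),
  (4709, [(5286, true), (930, true)]),
  (5192, [(5286, true), (5228, true)]),
  (273, [(5286, true), (4380, true)]),
  (3598, [(5286, true), (1816, true)]),
  (3234, [(5286, true), (2240, true), (5427, true)]),
  (3361, [(5286, true), (2240, true)]),
  (2599, [(5286, true)]),
  (1170, [(3113, true), (4455, true), (5048, true)]),
  (3410, [(3113, true), (4455, true)]),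
  (3080, [(3113, true), (4717, true), (762, true)]),
  (5061, [(3113, true), (4717, true)]),
  (357, [(3113, true), (5062, true), (2059, true)]),
  (304, [(3113, true), (5062, true)]),
  (5389, [(3113, true), (5004, true), (1345, true)]),
  (5117, [(3113, true), (5004, true)]),
  (2679, [(3113, true), (798, true), (2661, true)]),
  (3911, [(3113, true), (798, true)]),
  (5044, [(3113, true), (4767, true), (37, true)]),
  (1523, [(3113, true), (4767, true)]),
  (5182, [(3113, true), (4906, true), (3998, true)]),
  (5530, [(3113, true), (4906, true)]),
  (585, [(3113, true), (958, true), (4388, true)]),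
  (1073, [(3113, true), (958, true)]),
  (328, [(3113, true), (1526, true), (2033, true)]),
  (5640, [(3113, true), (1526, true)]),
  (3956, [(3113, true), (1399, true), (1246, true)]),
  (5305, [(3113, true), (1399, true)]),
  (822, [(3113, true), (1404, true)]),
  (2429, [(3113, true), (4241, true), (3478, true)]),
  (2091, [(3113, true), (4241, true)]),
  (1608, [(3113, true), (1345, true)]),
  (5122, [(3113, true), (4024, true)]),
  (4001, [(3113, true), (1246, true)]),
  (1506, [(3113, true), (4200, true)]),
  (1760, [(3113, true), (4153, true)]),
  (918, [(3113, true), (440, true)]),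
  (3682, [(3113, true), (3154, true)]),
  (5759, [(3113, true), (899, true)]),
  (785, [(3113, true), (1639, true)]),
  (4732, [(3113, true), (3663, true)]),
  (1123, [(3113, true), (216, true)]),
  (5876, [(3113, true), (2884, true)]),
  (3776, [(3113, true), (5374, true)]),
  (4432, [(3113, true), (1637, true)]),
  (4987, [(3113, true), (6124, true)]),
  (1220, [(3113, true), (2131, true)]),
  (6077, [(3113, true), (1733, true), (480, true)]),
  (4706, [(3113, true), (1733, true)]),
  (31, [(3113, true), (1020, true)]),
  (262, [(3113, true), (4713, true), (3164, true)]),
  (5922, [(3113, true), (4713, true)]),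
  (3783, [(3113, true), (1487, true)]),
  (3044, [(3113, true), (521, true)]),
  (1352, [(3113, true), (3390, true)]),
  (5506, [(3113, true), (5824, true), (2462, true)]),
  (2841, [(3113, true), (5824, true)]),
  (494, [(3113, true), (974, true)]),
  (6131, [(3113, true), (716, true)]),
  (1691, [(3113, true), (1248, true)]),
  (1214, [(3113, true)]),
  (673, [(4455, true), (4717, true), (1957, true)]),
  (3269, [(4455, true), (4717, true)]),
  (751, [(4455, true), (5062, true), (1265, true)]),
  (2943, [(4455, true), (5062, true)]),
  (2570, [(4455, true), (5447, true), (4633, true)]),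
  (3251, [(4455, true), (5447, true)]),
  (931, [(4455, true), (2211, true), (1942, true)]),
  (478, [(4455, true), (2211, true)]),
  (2783, [(4455, true), (2532, true), (4024, true)]),
  (2938, [(4455, true), (2532, true)]),
  (2941, [(4455, true), (522, true), (3875, true)]),
  (1241, [(4455, true), (522, true)]),
  (1239, [(4455, true), (171, true), (103, true)]),
  (5867, [(4455, true), (171, true)]),
  (1846, [(4455, true), (1242, true), (4153, true)]),
  (1228, [(4455, true), (1242, true)]),
  (1977, [(4455, true), (4393, true), (4573, true)]),
  (3547, [(4455, true), (4393, true)]),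
  (3861, [(4455, true), (2088, true)]),
  (3580, [(4455, true), (16, true)]),
  (765, [(4455, true), (4410, true), (899, true)]),
  (5975, [(4455, true), (4410, true), (1639, true)]),
  (2303, [(4455, true), (4410, true)]),
  (5154, [(4455, true), (4241, true)]),
  (4207, [(4455, true), (1345, true), (4153, true)]),
  (2899, [(4455, true), (1345, true)]),
  (1421, [(4455, true), (440, true), (3154, true)]),
  (2372, [(4455, true), (440, true)]),
  (5558, [(4455, true), (2766, true), (1016, true)]),
  (5629, [(4455, true), (2766, true)]),
  (2001, [(4455, true), (4573, true)]),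
  (1083, [(4455, true), (6022, true)]),
  (1351, [(4455, true), (4795, true)]),
  (2864, [(4455, true), (3958, true)]),
  (1918, [(4455, true), (1637, true)]),
  (4534, [(4455, true), (1084, true)]),
  (5882, [(4455, true), (2201, true)]),
  (3808, [(4455, true), (5792, true)]),
  (1007, [(4455, true), (2033, true)]),
  (317, [(4455, true), (480, true)]),
  (348, [(4455, true), (2969, true)]),
  (2, [(4455, true), (4002, true)]),
  (471, [(4455, true), (3451, true)]),
  (3202, [(4455, true), (782, true)]),
  (6095, [(4455, true), (4108, true)]),
  (3530, [(4455, true), (1002, true), (649, true)]),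
  (3215, [(4455, true), (1002, true)]),
  (3427, [(4455, true), (5228, true)]),
  (5449, [(4455, true), (2060, true)]),
  (1474, [(4455, true), (36, true)]),
  (150, [(4455, true)])]

def steps20 : List (ℕ × List (ℕ × Bool)) := [(2949, [(1980, true), (205, true), (3958, true)]),
  (4277, [(1980, true), (205, true)]),
  (443, [(1980, true), (992, true), (1942, true)]),
  (5126, [(1980, true), (992, true)]),
  (3470, [(1980, true), (2804, true), (1487, true)]),
  (2333, [(1980, true), (2804, true)]),
  (3976, [(1980, true), (671, true), (4713, true)]),
  (1801, [(1980, true), (671, true)]),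
  (2019, [(1980, true), (4083, true), (2766, true)]),
  (3695, [(1980, true), (4083, true)]),
  (2564, [(1980, true), (1242, true), (327, true)]),
  (4803, [(1980, true), (1242, true)]),
  (5317, [(1980, true), (4423, true), (1246, true)]),
  (3973, [(1980, true), (4423, true)]),
  (1820, [(1980, true), (4393, true), (3451, true)]),
  (2474, [(1980, true), (4393, true)]),
  (1782, [(1980, true), (4024, true), (3663, true)]),
  (1621, [(1980, true), (4024, true)]),
  (790, [(1980, true), (4200, true)]),
  (5388, [(1980, true), (4153, true)]),
  (59, [(1980, true), (440, true)]),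
  (5643, [(1980, true), (3154, true)]),
  (2747, [(1980, true), (2766, true)]),
  (1459, [(1980, true), (4573, true), (1084, true)]),
  (1562, [(1980, true), (4573, true), (558, true)]),
  (2221, [(1980, true), (4573, true)]),
  (2726, [(1980, true), (3663, true)]),
  (3953, [(1980, true), (6022, true)]),
  (1520, [(1980, true), (3998, true)]),
  (3702, [(1980, true), (3197, true)]),
  (2860, [(1980, true), (4167, true)]),
  (2674, [(1980, true), (1187, true)]),
  (2219, [(1980, true), (3478, true)]),
  (2085, [(1980, true), (2661, true)]),
  (3487, [(1980, true), (665, true)]),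
  (5256, [(1980, true), (1733, true)]),
  (3979, [(1980, true), (3245, true)]),
  (5649, [(1980, true), (6057, true), (3390, true)]),
  (4488, [(1980, true), (6057, true)]),
  (4275, [(1980, true), (1927, true)]),
  (5563, [(1980, true), (4192, true)]),
  (4239, [(1980, true), (930, true), (2723, true)]),
  (3629, [(1980, true), (930, true)]),
  (2809, [(1980, true), (5228, true)]),
  (5955, [(1980, true), (3042, true)]),
  (923, [(1980, true), (4528, true)]),
  (608, [(1980, true), (1013, true), (5543, true)]),
  (4826, [(1980, true), (1013, true)]),
  (2311, [(1980, true)]),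
  (5391, [(205, true), (3314, true), (1899, true)]),
  (3516, [(205, true), (3314, true)]),
  (2722, [(205, true), (4990, true), (4002, true)]),
  (1666, [(205, true), (4990, true)]),
  (5347, [(205, true), (1364, true), (4153, true)]),
  (780, [(205, true), (1364, true)]),
  (4129, [(205, true), (3796, true), (899, true)]),
  (3657, [(205, true), (3796, true)]),
  (1920, [(205, true), (2838, true), (1345, true)]),
  (468, [(205, true), (2838, true)]),
  (5668, [(205, true), (2873, true), (3998, true)]),
  (2716, [(205, true), (2873, true)]),
  (3858, [(205, true), (5186, true), (4024, true)]),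
  (6078, [(205, true), (5186, true)]),
  (107, [(205, true), (1265, true)]),
  (1347, [(205, true), (327, true), (2969, true)]),
  (1952, [(205, true), (327, true)]),
  (3697, [(205, true), (762, true)]),
  (3832, [(205, true), (1942, true)]),
  (1153, [(205, true), (4320, true)]),
  (5152, [(205, true), (899, true)]),
  (5700, [(205, true), (1639, true), (2215, true)]),
  (1832, [(205, true), (1639, true), (4167, true)]),
  (3272, [(205, true), (1639, true)]),
  (1735, [(205, true), (3663, true)]),
  (3400, [(205, true), (4795, true), (2661, true)]),
  (970, [(205, true), (4795, true), (665, true)]),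
  (324, [(205, true), (4795, true)]),
  (5201, [(205, true), (2886, true)]),
  (885, [(205, true), (2884, true)]),
  (3074, [(205, true), (3998, true)]),
  (926, [(205, true), (4633, true), (391, true)]),
  (3166, [(205, true), (4633, true)]),
  (5713, [(205, true), (6124, true)]),
  (2830, [(205, true), (2131, true)]),
  (2755, [(205, true), (4251, true)]),
  (1510, [(205, true), (2202, true)]),
  (502, [(205, true), (3451, true)]),
  (816, [(205, true), (3390, true)]),
  (829, [(205, true), (1641, true)]),
  (3022, [(205, true), (5395, true)]),
  (3329, [(205, true), (974, true)]),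
  (4403, [(205, true), (4924, true)]),
  (3764, [(205, true), (2462, true)]),
  (1488, [(205, true), (4386, true), (551, true)]),
  (1779, [(205, true), (4386, true)]),
  (2115, [(205, true)]),
  (5919, [(4717, true), (5062, true), (2984, true)]),
  (2371, [(4717, true), (5062, true)]),
  (3248, [(4717, true), (798, true), (2033, true)]),
  (4689, [(4717, true), (798, true)]),
  (1126, [(4717, true), (4767, true), (5395, true)]),
  (2315, [(4717, true), (4767, true)]),
  (959, [(4717, true), (614, true), (1246, true)]),
  (2558, [(4717, true), (614, true)]),
  (1227, [(4717, true), (158, true), (1187, true)]),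
  (5790, [(4717, true), (158, true)]),
  (203, [(4717, true), (99, true), (1345, true)]),
  (5306, [(4717, true), (99, true)]),
  (2196, [(4717, true), (5671, true), (4167, true)]),
  (1667, [(4717, true), (5671, true)]),
  (124, [(4717, true), (4543, true), (37, true)]),
  (1944, [(4717, true), (4543, true)]),
  (1182, [(4717, true), (3875, true), (5601, true)]),
  (444, [(4717, true), (3875, true)]),
  (3792, [(4717, true), (2088, true)]),
  (217, [(4717, true), (1345, true)]),
  (5351, [(4717, true), (1246, true)]),
  (1867, [(4717, true), (1265, true)]),
  (2015, [(4717, true), (327, true)]),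
  (356, [(4717, true), (762, true)]),
  (5581, [(4717, true), (1942, true)]),
  (4582, [(4717, true), (4320, true)]),
  (4197, [(4717, true), (2766, true)]),
  (2291, [(4717, true), (4573, true)]),
  (4914, [(4717, true), (1899, true)]),
  (4963, [(4717, true), (5601, true)]),
  (5003, [(4717, true), (1637, true)]),
  (6031, [(4717, true), (2661, true)]),
  (3882, [(4717, true), (665, true), (3588, true)]),
  (3344, [(4717, true), (665, true), (2707, true)]),
  (5259, [(4717, true), (665, true)]),
  (1093, [(4717, true), (2131, true), (1020, true)]),
  (1243, [(4717, true), (2131, true)]),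
  (5297, [(4717, true), (4513, true)]),
  (1110, [(4717, true), (1733, true)]),
  (1686, [(4717, true), (3588, true)]),
  (1775, [(4717, true), (4002, true), (4183, true)]),
  (2271, [(4717, true), (4002, true)]),
  (2281, [(4717, true), (4192, true)]),
  (3379, [(4717, true), (570, true), (4528, true)]),
  (4993, [(4717, true), (570, true)]),
  (5019, [(4717, true), (5786, true)]),
  (1583, [(4717, true), (5228, true)]),
  (3784, [(4717, true), (36, true)]),
  (3429, [(4717, true)]),
  (5580, [(5062, true), (5447, true), (4153, true)]),
  (5904, [(5062, true), (5447, true)]),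
  (2761, [(5062, true), (2211, true), (930, true)]),
  (1778, [(5062, true), (2211, true)]),
  (1302, [(5062, true), (2046, true), (327, true)])]

def steps21 : List (ℕ × List (ℕ × Bool)) := [(4666, [(5062, true), (2046, true)]),
  (1444, [(5062, true), (3884, true), (3875, true)]),
  (2752, [(5062, true), (3884, true)]),
  (5898, [(5062, true), (2873, true), (1639, true)]),
  (2243, [(5062, true), (2873, true)]),
  (3330, [(5062, true), (5620, true), (3197, true)]),
  (3401, [(5062, true), (5620, true)]),
  (2796, [(5062, true), (5186, true), (1942, true)]),
  (2387, [(5062, true), (5186, true)]),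
  (3252, [(5062, true), (3875, true)]),
  (259, [(5062, true), (16, true), (2766, true)]),
  (4815, [(5062, true), (16, true), (4573, true)]),
  (700, [(5062, true), (16, true)]),
  (5104, [(5062, true), (1404, true)]),
  (5675, [(5062, true), (4410, true)]),
  (4661, [(5062, true), (1246, true), (1942, true)]),
  (5253, [(5062, true), (1246, true)]),
  (5402, [(5062, true), (762, true), (4320, true)]),
  (1022, [(5062, true), (762, true)]),
  (3317, [(5062, true), (899, true), (2813, true)]),
  (5442, [(5062, true), (899, true)]),
  (2533, [(5062, true), (1639, true)]),
  (250, [(5062, true), (5374, true)]),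
  (2349, [(5062, true), (2215, true)]),
  (1094, [(5062, true), (3998, true)]),
  (2089, [(5062, true), (1187, true), (3245, true)]),
  (4898, [(5062, true), (1187, true)]),
  (627, [(5062, true), (2986, true)]),
  (2038, [(5062, true), (6124, true)]),
  (3141, [(5062, true), (3245, true)]),
  (2364, [(5062, true), (3588, true)]),
  (431, [(5062, true), (37, true)]),
  (2141, [(5062, true), (1020, true)]),
  (386, [(5062, true), (3934, true)]),
  (405, [(5062, true), (4713, true)]),
  (4520, [(5062, true), (6057, true)]),
  (3454, [(5062, true), (4195, true), (4528, true)]),
  (2235, [(5062, true), (4195, true)]),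
  (3959, [(5062, true), (974, true)]),
  (2559, [(5062, true), (4558, true)]),
  (3671, [(5062, true), (1248, true)]),
  (1226, [(5062, true)]),
  (1311, [(5447, true), (5004, true), (251, true)]),
  (195, [(5447, true), (5004, true)]),
  (1446, [(5447, true), (798, true), (3875, true)]),
  (2763, [(5447, true), (798, true)]),
  (151, [(5447, true), (5965, true), (2707, true)]),
  (2420, [(5447, true), (5965, true)]),
  (4253, [(5447, true), (671, true), (3663, true)]),
  (4518, [(5447, true), (671, true)]),
  (1607, [(5447, true), (5608, true), (899, true)]),
  (2619, [(5447, true), (5608, true)]),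
  (3457, [(5447, true), (2838, true), (2088, true)]),
  (2009, [(5447, true), (2838, true)]),
  (6051, [(5447, true), (4423, true), (3154, true)]),
  (4754, [(5447, true), (4423, true)]),
  (5171, [(5447, true), (4543, true), (4573, true)]),
  (5212, [(5447, true), (4543, true)]),
  (1370, [(5447, true), (2088, true)]),
  (2874, [(5447, true), (1404, true), (899, true)]),
  (1492, [(5447, true), (1404, true)]),
  (5352, [(5447, true), (4410, true)]),
  (598, [(5447, true), (4241, true)]),
  (2148, [(5447, true), (1345, true), (4573, true)]),
  (1098, [(5447, true), (1345, true)]),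
  (4601, [(5447, true), (4200, true), (3958, true)]),
  (2495, [(5447, true), (4200, true)]),
  (1219, [(5447, true), (2766, true)]),
  (6025, [(5447, true), (3663, true)]),
  (1329, [(5447, true), (216, true)]),
  (4259, [(5447, true), (251, true)]),
  (1233, [(5447, true), (1627, true)]),
  (851, [(5447, true), (3197, true)]),
  (6044, [(5447, true), (4317, true)]),
  (3006, [(5447, true), (1187, true)]),
  (628, [(5447, true), (4633, true)]),
  (5961, [(5447, true), (665, true), (2201, true)]),
  (3407, [(5447, true), (665, true)]),
  (2296, [(5447, true), (6124, true), (5632, true)]),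
  (5559, [(5447, true), (6124, true)]),
  (1442, [(5447, true), (4513, true)]),
  (2835, [(5447, true), (2033, true)]),
  (1692, [(5447, true), (480, true)]),
  (3621, [(5447, true), (2969, true)]),
  (4178, [(5447, true), (4713, true)]),
  (1067, [(5447, true), (666, true)]),
  (5413, [(5447, true), (521, true)]),
  (1417, [(5447, true), (930, true)]),
  (696, [(5447, true)]),
  (3773, [(2211, true), (4767, true), (4241, true)]),
  (311, [(2211, true), (4767, true)]),
  (877, [(2211, true), (614, true), (4002, true)]),
  (3283, [(2211, true), (614, true)]),
  (2954, [(2211, true), (5832, true), (2215, true)]),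
  (4684, [(2211, true), (5832, true)]),
  (6125, [(2211, true), (4990, true), (1733, true)]),
  (5052, [(2211, true), (4990, true)]),
  (5036, [(2211, true), (3537, true), (2766, true)]),
  (4928, [(2211, true), (3537, true)]),
  (2442, [(2211, true), (1526, true), (1639, true)]),
  (2677, [(2211, true), (1526, true)]),
  (2970, [(2211, true), (2838, true), (4320, true)]),
  (5525, [(2211, true), (2838, true)]),
  (4206, [(2211, true), (4423, true), (1404, true)]),
  (1158, [(2211, true), (4423, true)]),
  (2617, [(2211, true), (3875, true)]),
  (2152, [(2211, true), (2088, true), (2766, true)]),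
  (1516, [(2211, true), (2088, true)]),
  (6024, [(2211, true), (16, true)]),
  (352, [(2211, true), (1404, true)]),
  (4123, [(2211, true), (1246, true), (1639, true)]),
  (5390, [(2211, true), (1246, true)]),
  (2898, [(2211, true), (1265, true), (5374, true)]),
  (3033, [(2211, true), (1265, true)]),
  (2236, [(2211, true), (899, true)]),
  (3310, [(2211, true), (5374, true)]),
  (3476, [(2211, true), (2215, true)]),
  (5993, [(2211, true), (251, true)]),
  (3665, [(2211, true), (1627, true), (5601, true)]),
  (2052, [(2211, true), (1627, true)]),
  (2222, [(2211, true), (3958, true)]),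
  (4665, [(2211, true), (5601, true)]),
  (5249, [(2211, true), (2986, true)]),
  (5782, [(2211, true), (4633, true)]),
  (4130, [(2211, true), (6124, true)]),
  (2557, [(2211, true), (2131, true)]),
  (5191, [(2211, true), (558, true)]),
  (2170, [(2211, true), (37, true)]),
  (853, [(2211, true), (1020, true)]),
  (207, [(2211, true), (4002, true)]),
  (2386, [(2211, true), (3934, true), (3468, true)]),
  (5705, [(2211, true), (3934, true)]),
  (110, [(2211, true), (666, true)]),
  (6100, [(2211, true), (4388, true)]),
  (3145, [(2211, true), (782, true)]),
  (3545, [(2211, true)]),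
  (4011, [(1471, true), (4906, true), (4513, true)]),
  (2119, [(1471, true), (4906, true)]),
  (483, [(1471, true), (958, true), (1637, true)]),
  (2337, [(1471, true), (958, true)]),
  (2418, [(1471, true), (2873, true), (2088, true)]),
  (3341, [(1471, true), (2873, true)]),
  (3049, [(1471, true), (5620, true), (762, true)]),
  (4712, [(1471, true), (5620, true)]),
  (2967, [(1471, true), (3875, true)]),
  (5365, [(1471, true), (16, true), (1942, true)]),
  (2635, [(1471, true), (16, true)]),
  (1472, [(1471, true), (4410, true)]),
  (1805, [(1471, true), (1246, true)]),
  (3479, [(1471, true), (327, true), (440, true)])]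

def steps22 : List (ℕ × List (ℕ × Bool)) := [(486, [(1471, true), (327, true)]),
  (1643, [(1471, true), (4153, true)]),
  (2881, [(1471, true), (440, true)]),
  (6014, [(1471, true), (899, true)]),
  (1657, [(1471, true), (4573, true)]),
  (3946, [(1471, true), (4795, true), (2707, true)]),
  (5895, [(1471, true), (4795, true)]),
  (3869, [(1471, true), (2884, true)]),
  (3546, [(1471, true), (251, true)]),
  (2713, [(1471, true), (1627, true)]),
  (4701, [(1471, true), (5601, true)]),
  (2831, [(1471, true), (4167, true)]),
  (3186, [(1471, true), (1187, true)]),
  (2528, [(1471, true), (1733, true), (2033, true)]),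
  (1257, [(1471, true), (1733, true)]),
  (1991, [(1471, true), (3013, true)]),
  (5096, [(1471, true), (37, true)]),
  (1101, [(1471, true), (480, true)]),
  (6148, [(1471, true), (6057, true)]),
  (1559, [(1471, true), (2847, true)]),
  (3669, [(1471, true), (5632, true)]),
  (2733, [(1471, true), (521, true)]),
  (390, [(1471, true), (4528, true)]),
  (5144, [(1471, true), (4941, true)]),
  (5401, [(1471, true), (5945, true)]),
  (2165, [(1471, true), (4563, true)]),
  (5340, [(1471, true)]),
  (2099, [(5004, true), (5832, true), (2202, true)]),
  (5111, [(5004, true), (5832, true)]),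
  (407, [(5004, true), (3314, true), (2707, true)]),
  (388, [(5004, true), (3314, true)]),
  (690, [(5004, true), (992, true), (3875, true)]),
  (3417, [(5004, true), (992, true)]),
  (4281, [(5004, true), (5608, true), (327, true)]),
  (1552, [(5004, true), (5608, true)]),
  (1761, [(5004, true), (2873, true), (1265, true)]),
  (2911, [(5004, true), (2873, true)]),
  (5496, [(5004, true), (4393, true), (762, true)]),
  (4390, [(5004, true), (4393, true), (3197, true)]),
  (4120, [(5004, true), (4393, true)]),
  (5586, [(5004, true), (5620, true), (4795, true)]),
  (3582, [(5004, true), (5620, true)]),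
  (4312, [(5004, true), (3875, true)]),
  (2226, [(5004, true), (2088, true)]),
  (14, [(5004, true), (16, true)]),
  (5209, [(5004, true), (1404, true)]),
  (3397, [(5004, true), (4410, true)]),
  (4329, [(5004, true), (1265, true), (1816, true)]),
  (978, [(5004, true), (1265, true)]),
  (6128, [(5004, true), (327, true)]),
  (5733, [(5004, true), (4200, true)]),
  (4523, [(5004, true), (440, true), (1627, true)]),
  (5701, [(5004, true), (440, true)]),
  (6046, [(5004, true), (3154, true)]),
  (4982, [(5004, true), (4320, true)]),
  (1668, [(5004, true), (2766, true)]),
  (4418, [(5004, true), (4573, true)]),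
  (1948, [(5004, true), (6022, true)]),
  (2877, [(5004, true), (2215, true)]),
  (2759, [(5004, true), (1627, true)]),
  (5654, [(5004, true), (3998, true)]),
  (5805, [(5004, true), (4317, true), (4251, true)]),
  (3194, [(5004, true), (4317, true)]),
  (1420, [(5004, true), (4633, true)]),
  (4889, [(5004, true), (6124, true)]),
  (5039, [(5004, true), (2131, true)]),
  (2683, [(5004, true), (3245, true), (2969, true)]),
  (20, [(5004, true), (3245, true)]),
  (732, [(5004, true), (3588, true)]),
  (5377, [(5004, true), (227, true)]),
  (389, [(5004, true), (4002, true)]),
  (3349, [(5004, true), (4713, true)]),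
  (2931, [(5004, true), (1671, true)]),
  (3986, [(5004, true), (5824, true)]),
  (3195, [(5004, true), (3042, true), (71, true)]),
  (1287, [(5004, true), (3042, true)]),
  (1164, [(5004, true), (649, true)]),
  (691, [(5004, true), (3949, true)]),
  (2458, [(5004, true)]),
  (2249, [(5035, true), (158, true), (3663, true)]),
  (2403, [(5035, true), (158, true)]),
  (3242, [(5035, true), (171, true), (440, true)]),
  (185, [(5035, true), (171, true)]),
  (4640, [(5035, true), (4393, true), (1404, true)]),
  (600, [(5035, true), (4393, true)]),
  (2207, [(5035, true), (5671, true), (2884, true)]),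
  (2614, [(5035, true), (5671, true)]),
  (5463, [(5035, true), (2088, true)]),
  (4482, [(5035, true), (16, true)]),
  (4700, [(5035, true), (4410, true), (4153, true)]),
  (6116, [(5035, true), (4410, true)]),
  (4672, [(5035, true), (1345, true)]),
  (1271, [(5035, true), (4024, true), (762, true)]),
  (1849, [(5035, true), (4024, true)]),
  (4900, [(5035, true), (762, true)]),
  (4264, [(5035, true), (1942, true)]),
  (1771, [(5035, true), (2766, true)]),
  (5160, [(5035, true), (1639, true)]),
  (5457, [(5035, true), (4795, true)]),
  (1096, [(5035, true), (2886, true)]),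
  (3941, [(5035, true), (2884, true), (3998, true)]),
  (4144, [(5035, true), (2884, true)]),
  (5235, [(5035, true), (5374, true)]),
  (1225, [(5035, true), (2215, true)]),
  (1136, [(5035, true), (3197, true)]),
  (3667, [(5035, true), (5601, true)]),
  (3012, [(5035, true), (1187, true)]),
  (3385, [(5035, true), (2131, true)]),
  (3203, [(5035, true), (5792, true)]),
  (1784, [(5035, true), (2033, true)]),
  (1482, [(5035, true), (1020, true)]),
  (1649, [(5035, true), (4192, true)]),
  (3189, [(5035, true), (666, true)]),
  (4273, [(5035, true), (3468, true)]),
  (1402, [(5035, true), (782, true)]),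
  (1536, [(5035, true), (2462, true)]),
  (6063, [(5035, true), (3619, true)]),
  (1312, [(5035, true), (1748, true)]),
  (589, [(5035, true), (3284, true)]),
  (4576, [(5035, true)]),
  (3843, [(2532, true), (798, true), (2766, true)]),
  (4552, [(2532, true), (798, true)]),
  (5990, [(2532, true), (5965, true), (4513, true)]),
  (329, [(2532, true), (5965, true)]),
  (1382, [(2532, true), (4990, true), (762, true)]),
  (2563, [(2532, true), (4990, true)]),
  (4155, [(2532, true), (1364, true), (1961, true)]),
  (5609, [(2532, true), (1364, true)]),
  (3464, [(2532, true), (3884, true), (4200, true)]),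
  (5170, [(2532, true), (3884, true)]),
  (340, [(2532, true), (158, true), (4795, true)]),
  (849, [(2532, true), (158, true)]),
  (864, [(2532, true), (4906, true), (4200, true)]),
  (5234, [(2532, true), (4906, true), (4167, true)]),
  (1121, [(2532, true), (4906, true)]),
  (4208, [(2532, true), (5671, true), (4410, true)]),
  (2901, [(2532, true), (5671, true)]),
  (4433, [(2532, true), (3875, true), (16, true)]),
  (4778, [(2532, true), (3875, true), (3154, true)]),
  (5863, [(2532, true), (3875, true)]),
  (3656, [(2532, true), (2088, true)]),
  (3613, [(2532, true), (1404, true)]),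
  (874, [(2532, true), (4241, true)]),
  (2721, [(2532, true), (2984, true), (1942, true)]),
  (5199, [(2532, true), (2984, true)]),
  (1593, [(2532, true), (4024, true)]),
  (3837, [(2532, true), (1246, true), (2986, true)]),
  (2999, [(2532, true), (1246, true), (6124, true)]),
  (2710, [(2532, true), (1246, true)]),
  (161, [(2532, true), (327, true)])]

def steps23 : List (ℕ × List (ℕ × Bool)) := [(3542, [(2532, true), (1942, true)]),
  (5816, [(2532, true), (899, true)]),
  (3456, [(2532, true), (2766, true)]),
  (4341, [(2532, true), (2886, true)]),
  (4212, [(2532, true), (2215, true), (5792, true)]),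
  (2951, [(2532, true), (2215, true)]),
  (1410, [(2532, true), (1899, true)]),
  (4056, [(2532, true), (1637, true)]),
  (2662, [(2532, true), (3478, true)]),
  (1206, [(2532, true), (2661, true)]),
  (695, [(2532, true), (3245, true)]),
  (2680, [(2532, true), (558, true), (2462, true)]),
  (1795, [(2532, true), (558, true)]),
  (372, [(2532, true), (5190, true)]),
  (1950, [(2532, true), (2969, true)]),
  (5706, [(2532, true), (3934, true)]),
  (6029, [(2532, true), (4713, true)]),
  (6121, [(2532, true), (2202, true)]),
  (845, [(2532, true), (1002, true)]),
  (5963, [(2532, true), (1884, true), (5226, true)]),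
  (4539, [(2532, true), (1884, true)]),
  (313, [(2532, true), (4854, true)]),
  (1646, [(2532, true), (93, true)]),
  (1034, [(2532, true)]),
  (1480, [(798, true), (992, true), (762, true)]),
  (4411, [(798, true), (992, true)]),
  (5614, [(798, true), (2804, true), (16, true)]),
  (684, [(798, true), (2804, true)]),
  (4351, [(798, true), (3537, true), (1265, true)]),
  (4809, [(798, true), (3537, true)]),
  (4999, [(798, true), (5608, true), (4320, true)]),
  (2740, [(798, true), (5608, true)]),
  (1238, [(798, true), (2838, true), (2886, true)]),
  (285, [(798, true), (2838, true)]),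
  (6008, [(798, true), (5186, true), (3478, true)]),
  (5123, [(798, true), (5186, true)]),
  (2621, [(798, true), (2088, true), (3468, true)]),
  (1384, [(798, true), (2088, true)]),
  (5889, [(798, true), (1404, true), (4024, true)]),
  (2256, [(798, true), (1404, true)]),
  (3685, [(798, true), (4410, true)]),
  (1026, [(798, true), (5048, true)]),
  (4938, [(798, true), (4200, true)]),
  (1062, [(798, true), (4153, true), (1187, true)]),
  (2173, [(798, true), (4153, true)]),
  (2378, [(798, true), (1942, true)]),
  (4416, [(798, true), (3154, true), (2215, true)]),
  (4419, [(798, true), (3154, true)]),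
  (5271, [(798, true), (2766, true)]),
  (3885, [(798, true), (1639, true)]),
  (1982, [(798, true), (4573, true)]),
  (3854, [(798, true), (216, true)]),
  (1955, [(798, true), (5374, true)]),
  (3838, [(798, true), (2215, true)]),
  (1445, [(798, true), (3998, true)]),
  (1629, [(798, true), (3197, true)]),
  (698, [(798, true), (3958, true)]),
  (6129, [(798, true), (5601, true)]),
  (3278, [(798, true), (4317, true)]),
  (1155, [(798, true), (2986, true)]),
  (2457, [(798, true), (6124, true)]),
  (860, [(798, true), (3013, true)]),
  (3694, [(798, true), (2201, true)]),
  (4849, [(798, true), (2847, true)]),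
  (243, [(798, true), (782, true)]),
  (5947, [(798, true), (5395, true)]),
  (857, [(798, true)]),
  (4561, [(4767, true), (2046, true), (899, true)]),
  (384, [(4767, true), (2046, true)]),
  (5086, [(4767, true), (3314, true), (3875, true)]),
  (5180, [(4767, true), (3314, true)]),
  (179, [(4767, true), (1364, true), (440, true)]),
  (2893, [(4767, true), (1364, true)]),
  (5636, [(4767, true), (3537, true), (3154, true)]),
  (225, [(4767, true), (3537, true)]),
  (2063, [(4767, true), (5608, true), (4200, true)]),
  (1152, [(4767, true), (5608, true)]),
  (1107, [(4767, true), (1242, true), (4317, true)]),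
  (4287, [(4767, true), (1242, true)]),
  (3595, [(4767, true), (4423, true), (4713, true)]),
  (3020, [(4767, true), (4423, true)]),
  (2361, [(4767, true), (2088, true), (327, true)]),
  (2055, [(4767, true), (2088, true)]),
  (138, [(4767, true), (16, true)]),
  (51, [(4767, true), (1404, true), (1627, true)]),
  (2655, [(4767, true), (1404, true)]),
  (1435, [(4767, true), (2984, true)]),
  (4996, [(4767, true), (1265, true)]),
  (5296, [(4767, true), (4153, true)]),
  (1981, [(4767, true), (1942, true), (3588, true)]),
  (88, [(4767, true), (1942, true)]),
  (5327, [(4767, true), (4320, true), (5632, true)]),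
  (4298, [(4767, true), (4320, true)]),
  (1746, [(4767, true), (899, true)]),
  (5906, [(4767, true), (1639, true)]),
  (5650, [(4767, true), (4573, true)]),
  (5549, [(4767, true), (5374, true)]),
  (3411, [(4767, true), (2215, true), (1187, true)]),
  (5397, [(4767, true), (2215, true)]),
  (5127, [(4767, true), (251, true), (558, true)]),
  (5742, [(4767, true), (251, true)]),
  (2230, [(4767, true), (3958, true), (4167, true)]),
  (533, [(4767, true), (3958, true)]),
  (5345, [(4767, true), (5601, true)]),
  (4847, [(4767, true), (4167, true)]),
  (2004, [(4767, true), (4317, true)]),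
  (3768, [(4767, true), (1187, true)]),
  (162, [(4767, true), (2661, true)]),
  (3699, [(4767, true), (2847, true)]),
  (5469, [(4767, true), (4388, true)]),
  (5840, [(4767, true), (521, true)]),
  (1504, [(4767, true)]),
  (2427, [(614, true), (5965, true), (3663, true)]),
  (4720, [(614, true), (5965, true)]),
  (3121, [(614, true), (1364, true), (2088, true)]),
  (2854, [(614, true), (1364, true)]),
  (743, [(614, true), (2804, true), (2215, true)]),
  (3425, [(614, true), (2804, true)]),
  (5749, [(614, true), (3537, true), (4024, true)]),
  (535, [(614, true), (3537, true)]),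
  (6070, [(614, true), (171, true), (2131, true)]),
  (1087, [(614, true), (171, true)]),
  (5976, [(614, true), (2873, true), (440, true)]),
  (1006, [(614, true), (2873, true), (665, true)]),
  (4625, [(614, true), (2873, true)]),
  (1204, [(614, true), (4393, true), (4200, true)]),
  (5517, [(614, true), (4393, true)]),
  (6010, [(614, true), (2088, true)]),
  (1395, [(614, true), (16, true)]),
  (2603, [(614, true), (1404, true)]),
  (3563, [(614, true), (4410, true)]),
  (128, [(614, true), (4241, true)]),
  (3630, [(614, true), (4024, true)]),
  (3543, [(614, true), (1265, true)]),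
  (1645, [(614, true), (4200, true), (2120, true)]),
  (1764, [(614, true), (4200, true)]),
  (1740, [(614, true), (762, true), (3468, true)]),
  (3881, [(614, true), (762, true)]),
  (578, [(614, true), (3154, true)]),
  (1218, [(614, true), (4320, true)]),
  (1695, [(614, true), (899, true)]),
  (950, [(614, true), (1639, true)]),
  (1381, [(614, true), (216, true)]),
  (656, [(614, true), (6022, true)]),
  (1788, [(614, true), (1899, true)]),
  (603, [(614, true), (3197, true)]),
  (5880, [(614, true), (1637, true)]),
  (2176, [(614, true), (2661, true)]),
  (2538, [(614, true), (4513, true)]),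
  (4168, [(614, true), (1733, true)])]

def steps24 : List (ℕ × List (ℕ × Bool)) := [(5644, [(614, true), (1084, true)]),
  (837, [(614, true), (227, true)]),
  (4833, [(614, true), (28, true)]),
  (3482, [(614, true), (5190, true)]),
  (2940, [(614, true), (4002, true)]),
  (1917, [(614, true), (4713, true)]),
  (4853, [(614, true), (1961, true)]),
  (3763, [(614, true), (3468, true)]),
  (5767, [(614, true), (570, true)]),
  (2083, [(614, true), (4924, true), (549, true)]),
  (3107, [(614, true), (4924, true)]),
  (2534, [(614, true), (5522, true)]),
  (5237, [(614, true), (3101, true)]),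
  (4309, [(614, true)]),
  (2072, [(2046, true), (5832, true), (6124, true)]),
  (2732, [(2046, true), (5832, true)]),
  (2447, [(2046, true), (992, true), (216, true)]),
  (2897, [(2046, true), (992, true)]),
  (2473, [(2046, true), (671, true), (440, true)]),
  (2870, [(2046, true), (671, true)]),
  (10, [(2046, true), (522, true), (1265, true)]),
  (3021, [(2046, true), (522, true)]),
  (1199, [(2046, true), (158, true), (1265, true)]),
  (3316, [(2046, true), (158, true), (6022, true)]),
  (266, [(2046, true), (158, true)]),
  (3777, [(2046, true), (4906, true), (2201, true)]),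
  (3836, [(2046, true), (4906, true)]),
  (60, [(2046, true), (958, true), (16, true)]),
  (4220, [(2046, true), (958, true)]),
  (5775, [(2046, true), (3875, true)]),
  (1898, [(2046, true), (2088, true)]),
  (5183, [(2046, true), (1404, true)]),
  (1922, [(2046, true), (4410, true)]),
  (5954, [(2046, true), (4241, true), (4320, true)]),
  (4726, [(2046, true), (4241, true)]),
  (1806, [(2046, true), (5048, true), (4153, true)]),
  (322, [(2046, true), (5048, true)]),
  (4818, [(2046, true), (1345, true), (4633, true)]),
  (723, [(2046, true), (1345, true), (6124, true)]),
  (1663, [(2046, true), (1345, true)]),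
  (4560, [(2046, true), (4024, true)]),
  (323, [(2046, true), (327, true)]),
  (2451, [(2046, true), (4153, true)]),
  (165, [(2046, true), (899, true)]),
  (5161, [(2046, true), (2766, true)]),
  (4704, [(2046, true), (3663, true)]),
  (5589, [(2046, true), (6022, true)]),
  (4806, [(2046, true), (2886, true)]),
  (6011, [(2046, true), (2884, true), (2215, true)]),
  (5877, [(2046, true), (2884, true)]),
  (2686, [(2046, true), (4167, true)]),
  (3412, [(2046, true), (1084, true)]),
  (717, [(2046, true), (2201, true), (4528, true)]),
  (2944, [(2046, true), (2201, true)]),
  (2641, [(2046, true), (2707, true), (5632, true)]),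
  (1651, [(2046, true), (2707, true)]),
  (4122, [(2046, true), (480, true)]),
  (1757, [(2046, true), (3934, true)]),
  (3225, [(2046, true), (1927, true)]),
  (1525, [(2046, true), (5632, true)]),
  (831, [(2046, true), (4195, true)]),
  (4015, [(2046, true), (4380, true), (3196, true)]),
  (1956, [(2046, true), (4380, true)]),
  (3557, [(2046, true), (2573, true)]),
  (4617, [(2046, true), (4245, true)]),
  (4044, [(2046, true)]),
  (604, [(733, true), (3537, true), (3154, true)]),
  (168, [(733, true), (3537, true)]),
  (421, [(733, true), (1526, true), (3245, true)]),
  (398, [(733, true), (1526, true)]),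
  (1551, [(733, true), (2838, true), (16, true)]),
  (3724, [(733, true), (2838, true)]),
  (5807, [(733, true), (5186, true), (4241, true)]),
  (915, [(733, true), (5186, true)]),
  (342, [(733, true), (2088, true)]),
  (5332, [(733, true), (16, true), (4153, true)]),
  (2431, [(733, true), (16, true), (5190, true)]),
  (5978, [(733, true), (16, true)]),
  (3371, [(733, true), (4410, true)]),
  (5210, [(733, true), (4024, true)]),
  (5726, [(733, true), (1246, true), (3154, true)]),
  (3384, [(733, true), (1246, true)]),
  (2859, [(733, true), (327, true)]),
  (2615, [(733, true), (4200, true)]),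
  (2996, [(733, true), (440, true)]),
  (4213, [(733, true), (2766, true)]),
  (131, [(733, true), (3663, true)]),
  (4992, [(733, true), (4795, true)]),
  (1135, [(733, true), (2884, true)]),
  (5274, [(733, true), (1899, true)]),
  (4191, [(733, true), (1627, true), (1187, true)]),
  (5448, [(733, true), (1627, true)]),
  (2802, [(733, true), (665, true)]),
  (2936, [(733, true), (2131, true)]),
  (3484, [(733, true), (1733, true)]),
  (1235, [(733, true), (558, true)]),
  (2775, [(733, true), (3013, true)]),
  (5322, [(733, true), (227, true)]),
  (3266, [(733, true), (2707, true)]),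
  (1439, [(733, true), (4192, true)]),
  (5853, [(733, true), (3451, true)]),
  (1274, [(733, true), (4108, true)]),
  (4690, [(733, true), (1002, true)]),
  (2143, [(733, true), (3232, true)]),
  (911, [(733, true), (823, true)]),
  (2331, [(733, true), (6112, true)]),
  (3493, [(733, true)]),
  (3741, [(5965, true), (3314, true), (4024, true)]),
  (5924, [(5965, true), (3314, true)]),
  (1690, [(5965, true), (4083, true), (1187, true)]),
  (3515, [(5965, true), (4083, true)]),
  (2815, [(5965, true), (2838, true), (16, true)]),
  (2274, [(5965, true), (2838, true)]),
  (5431, [(5965, true), (5186, true), (4410, true)]),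
  (23, [(5965, true), (5186, true)]),
  (3192, [(5965, true), (4543, true), (1345, true)]),
  (445, [(5965, true), (4543, true), (2215, true)]),
  (5758, [(5965, true), (4543, true)]),
  (1114, [(5965, true), (2088, true)]),
  (3060, [(5965, true), (4410, true)]),
  (4036, [(5965, true), (5048, true), (1942, true)]),
  (2983, [(5965, true), (5048, true), (1373, true)]),
  (5570, [(5965, true), (5048, true)]),
  (3877, [(5965, true), (762, true)]),
  (1547, [(5965, true), (440, true), (1627, true)]),
  (2584, [(5965, true), (440, true)]),
  (27, [(5965, true), (1942, true)]),
  (1567, [(5965, true), (3154, true)]),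
  (4043, [(5965, true), (4320, true)]),
  (3909, [(5965, true), (899, true)]),
  (4829, [(5965, true), (2766, true)]),
  (5754, [(5965, true), (3663, true)]),
  (3063, [(5965, true), (6022, true)]),
  (5763, [(5965, true), (4795, true)]),
  (5329, [(5965, true), (5374, true), (974, true)]),
  (1184, [(5965, true), (5374, true)]),
  (2192, [(5965, true), (1187, true)]),
  (4359, [(5965, true), (1637, true)]),
  (1672, [(5965, true), (3478, true)]),
  (3205, [(5965, true), (2661, true)]),
  (4850, [(5965, true), (1084, true)]),
  (4080, [(5965, true), (5190, true)]),
  (4932, [(5965, true), (4713, true)]),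
  (938, [(5965, true), (2202, true), (6057, true)]),
  (1414, [(5965, true), (2202, true)]),
  (2811, [(5965, true), (1961, true)]),
  (750, [(5965, true), (521, true)]),
  (336, [(5965, true), (930, true)]),
  (1793, [(5965, true), (5395, true)]),
  (2952, [(5965, true), (716, true)])]

def steps25 : List (ℕ × List (ℕ × Bool)) := [(4777, [(5965, true), (4664, true)]),
  (4865, [(5965, true), (4691, true), (587, true)]),
  (305, [(5965, true), (4691, true)]),
  (1106, [(5965, true), (932, true)]),
  (4014, [(5965, true)]),
  (2191, [(5854, true), (5608, true), (4320, true)]),
  (4872, [(5854, true), (5608, true)]),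
  (760, [(5854, true), (1242, true), (3875, true)]),
  (4679, [(5854, true), (1242, true)]),
  (1564, [(5854, true), (4423, true), (4410, true)]),
  (892, [(5854, true), (4423, true)]),
  (527, [(5854, true), (4543, true), (2886, true)]),
  (4395, [(5854, true), (4543, true)]),
  (1310, [(5854, true), (16, true)]),
  (832, [(5854, true), (1404, true)]),
  (4204, [(5854, true), (4410, true), (1942, true)]),
  (5041, [(5854, true), (4410, true), (2215, true)]),
  (3954, [(5854, true), (4410, true)]),
  (5251, [(5854, true), (1345, true), (4320, true)]),
  (3935, [(5854, true), (1345, true)]),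
  (5097, [(5854, true), (4024, true)]),
  (2659, [(5854, true), (1265, true)]),
  (5897, [(5854, true), (327, true)]),
  (1462, [(5854, true), (762, true)]),
  (746, [(5854, true), (899, true)]),
  (5313, [(5854, true), (216, true)]),
  (4461, [(5854, true), (2884, true), (1899, true)]),
  (1131, [(5854, true), (2884, true)]),
  (5379, [(5854, true), (2215, true)]),
  (4142, [(5854, true), (3998, true)]),
  (4172, [(5854, true), (3197, true)]),
  (6034, [(5854, true), (2986, true)]),
  (3787, [(5854, true), (2661, true)]),
  (3802, [(5854, true), (2131, true)]),
  (5232, [(5854, true), (1733, true)]),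
  (5066, [(5854, true), (2201, true)]),
  (4708, [(5854, true), (5190, true)]),
  (2118, [(5854, true), (5792, true)]),
  (417, [(5854, true), (6057, true)]),
  (3715, [(5854, true), (1487, true)]),
  (770, [(5854, true), (3390, true)]),
  (4642, [(5854, true), (4195, true)]),
  (2540, [(5854, true), (6043, true)]),
  (2097, [(5854, true), (1618, true)]),
  (4997, [(5854, true), (1160, true)]),
  (5931, [(5854, true)]),
  (3201, [(5832, true), (2804, true), (1265, true)]),
  (1604, [(5832, true), (2804, true)]),
  (1291, [(5832, true), (3796, true), (251, true)]),
  (3978, [(5832, true), (3796, true)]),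
  (492, [(5832, true), (1242, true), (16, true)]),
  (4431, [(5832, true), (1242, true)]),
  (4735, [(5832, true), (1526, true), (1246, true)]),
  (4825, [(5832, true), (1526, true), (251, true)]),
  (3503, [(5832, true), (1526, true)]),
  (767, [(5832, true), (4423, true), (4410, true)]),
  (4358, [(5832, true), (4423, true)]),
  (1528, [(5832, true), (16, true)]),
  (2758, [(5832, true), (1404, true)]),
  (5811, [(5832, true), (2984, true), (4153, true)]),
  (2184, [(5832, true), (2984, true), (3958, true)]),
  (5404, [(5832, true), (2984, true)]),
  (5131, [(5832, true), (762, true), (3468, true)]),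
  (4592, [(5832, true), (762, true)]),
  (688, [(5832, true), (4153, true)]),
  (5845, [(5832, true), (440, true)]),
  (1540, [(5832, true), (3154, true)]),
  (781, [(5832, true), (4320, true)]),
  (1852, [(5832, true), (899, true)]),
  (3827, [(5832, true), (2766, true)]),
  (5471, [(5832, true), (3663, true), (4795, true)]),
  (3156, [(5832, true), (3663, true), (1637, true)]),
  (282, [(5832, true), (3663, true)]),
  (4491, [(5832, true), (6022, true)]),
  (4971, [(5832, true), (3998, true)]),
  (2753, [(5832, true), (5601, true)]),
  (3700, [(5832, true), (4167, true), (4002, true)]),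
  (3936, [(5832, true), (4167, true)]),
  (6118, [(5832, true), (4633, true)]),
  (761, [(5832, true), (2661, true)]),
  (5294, [(5832, true), (6124, true)]),
  (33, [(5832, true), (1733, true), (2707, true)]),
  (1765, [(5832, true), (1733, true)]),
  (6033, [(5832, true), (3245, true)]),
  (5622, [(5832, true), (2202, true)]),
  (5985, [(5832, true), (2847, true), (974, true)]),
  (3772, [(5832, true), (2847, true)]),
  (2666, [(5832, true), (118, true)]),
  (5724, [(5832, true), (5786, true)]),
  (294, [(5832, true), (2240, true)]),
  (5460, [(5832, true), (5303, true), (2681, true)]),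
  (810, [(5832, true), (5303, true)]),
  (3140, [(5832, true), (903, true)]),
  (2885, [(5832, true)]),
  (3609, [(3314, true), (2804, true), (3663, true)]),
  (5599, [(3314, true), (2804, true)]),
  (4612, [(3314, true), (171, true), (2088, true)]),
  (1396, [(3314, true), (171, true)]),
  (4824, [(3314, true), (4393, true), (3154, true)]),
  (4774, [(3314, true), (4393, true)]),
  (678, [(3314, true), (5620, true), (16, true)]),
  (202, [(3314, true), (5620, true)]),
  (914, [(3314, true), (5671, true), (1265, true)]),
  (97, [(3314, true), (5671, true)]),
  (5384, [(3314, true), (3875, true)]),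
  (2370, [(3314, true), (4241, true)]),
  (5896, [(3314, true), (5048, true)]),
  (833, [(3314, true), (2984, true)]),
  (3016, [(3314, true), (1345, true), (4024, true)]),
  (4271, [(3314, true), (1345, true)]),
  (109, [(3314, true), (4024, true)]),
  (1896, [(3314, true), (1246, true)]),
  (6080, [(3314, true), (327, true)]),
  (436, [(3314, true), (4200, true)]),
  (2769, [(3314, true), (4153, true)]),
  (3262, [(3314, true), (899, true)]),
  (3606, [(3314, true), (2766, true)]),
  (3683, [(3314, true), (1639, true)]),
  (6134, [(3314, true), (4573, true), (5792, true)]),
  (3488, [(3314, true), (4573, true)]),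
  (3833, [(3314, true), (216, true)]),
  (5015, [(3314, true), (6022, true)]),
  (258, [(3314, true), (251, true)]),
  (2836, [(3314, true), (3197, true)]),
  (749, [(3314, true), (227, true)]),
  (4079, [(3314, true), (2201, true)]),
  (3486, [(3314, true), (2707, true)]),
  (2250, [(3314, true), (480, true)]),
  (4876, [(3314, true), (4002, true)]),
  (1903, [(3314, true), (1927, true)]),
  (1572, [(3314, true), (1487, true)]),
  (3237, [(3314, true), (4108, true)]),
  (1132, [(3314, true), (118, true)]),
  (5689, [(3314, true), (5395, true)]),
  (5797, [(3314, true)]),
  (4094, [(4990, true), (992, true), (227, true)]),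
  (197, [(4990, true), (992, true)]),
  (5168, [(4990, true), (671, true), (216, true)]),
  (5875, [(4990, true), (671, true)]),
  (4570, [(4990, true), (4906, true), (2984, true)]),
  (1674, [(4990, true), (4906, true)]),
  (5411, [(4990, true), (958, true), (2661, true)]),
  (1245, [(4990, true), (958, true)]),
  (4630, [(4990, true), (5620, true), (899, true)]),
  (326, [(4990, true), (5620, true)]),
  (21, [(4990, true), (5671, true), (2886, true)]),
  (2962, [(4990, true), (5671, true)]),
  (3847, [(4990, true), (5048, true), (1345, true)]),
  (4965, [(4990, true), (5048, true)]),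
  (3849, [(4990, true), (2984, true), (1639, true)])]

def steps26 : List (ℕ × List (ℕ × Bool)) := [(4128, [(4990, true), (2984, true), (6022, true)]),
  (2856, [(4990, true), (2984, true)]),
  (361, [(4990, true), (1345, true)]),
  (1464, [(4990, true), (4024, true), (440, true)]),
  (2555, [(4990, true), (4024, true)]),
  (4550, [(4990, true), (1265, true), (5374, true)]),
  (632, [(4990, true), (1265, true)]),
  (4446, [(4990, true), (327, true)]),
  (2283, [(4990, true), (4200, true)]),
  (2159, [(4990, true), (762, true)]),
  (5324, [(4990, true), (440, true)]),
  (6066, [(4990, true), (899, true)]),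
  (3791, [(4990, true), (1639, true)]),
  (4185, [(4990, true), (3663, true)]),
  (5813, [(4990, true), (6022, true)]),
  (1064, [(4990, true), (4167, true)]),
  (5658, [(4990, true), (1084, true)]),
  (699, [(4990, true), (3588, true), (3013, true)]),
  (4978, [(4990, true), (3588, true)]),
  (3445, [(4990, true), (2201, true)]),
  (2002, [(4990, true), (5190, true)]),
  (4589, [(4990, true), (1020, true)]),
  (4453, [(4990, true), (1961, true)]),
  (4878, [(4990, true), (3451, true)]),
  (5454, [(4990, true), (930, true)]),
  (3059, [(4990, true), (3390, true)]),
  (1079, [(4990, true), (1641, true)]),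
  (2421, [(4990, true)]),
  (5838, [(992, true), (5608, true), (2131, true)]),
  (1014, [(992, true), (5608, true)]),
  (6027, [(992, true), (958, true), (4200, true)]),
  (850, [(992, true), (958, true)]),
  (5222, [(992, true), (5186, true), (1404, true)]),
  (5927, [(992, true), (5186, true), (4573, true)]),
  (3078, [(992, true), (5186, true)]),
  (2574, [(992, true), (4543, true), (251, true)]),
  (819, [(992, true), (4543, true)]),
  (2894, [(992, true), (2088, true)]),
  (3912, [(992, true), (16, true), (440, true)]),
  (126, [(992, true), (16, true)]),
  (4280, [(992, true), (1404, true)]),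
  (4018, [(992, true), (4241, true)]),
  (4913, [(992, true), (5048, true), (4795, true)]),
  (3081, [(992, true), (5048, true)]),
  (5185, [(992, true), (1345, true)]),
  (5822, [(992, true), (327, true)]),
  (3897, [(992, true), (3154, true)]),
  (166, [(992, true), (2766, true)]),
  (2334, [(992, true), (216, true)]),
  (2469, [(992, true), (6022, true)]),
  (3729, [(992, true), (2886, true)]),
  (876, [(992, true), (5374, true)]),
  (3037, [(992, true), (2215, true), (5792, true)]),
  (977, [(992, true), (2215, true)]),
  (2471, [(992, true), (251, true), (974, true)]),
  (263, [(992, true), (251, true)]),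
  (455, [(992, true), (2986, true)]),
  (5328, [(992, true), (3478, true)]),
  (3627, [(992, true), (6124, true)]),
  (5587, [(992, true), (28, true), (521, true)]),
  (3564, [(992, true), (28, true)]),
  (3593, [(992, true), (5792, true)]),
  (1964, [(992, true), (1927, true)]),
  (1319, [(992, true), (4192, true)]),
  (5595, [(992, true), (1671, true)]),
  (1636, [(992, true), (782, true)]),
  (2103, [(992, true), (930, true)]),
  (2383, [(992, true), (5395, true)]),
  (4138, [(992, true), (2060, true)]),
  (119, [(992, true), (1013, true)]),
  (5856, [(992, true), (3822, true), (3101, true)]),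
  (1959, [(992, true), (3822, true)]),
  (164, [(992, true), (4883, true)]),
  (4267, [(992, true)]),
  (1726, [(1364, true), (671, true), (4633, true)]),
  (4163, [(1364, true), (671, true)]),
  (1250, [(1364, true), (3537, true), (4795, true)]),
  (2168, [(1364, true), (3537, true)]),
  (5128, [(1364, true), (4074, true), (1265, true)]),
  (446, [(1364, true), (4074, true)]),
  (2839, [(1364, true), (1242, true), (2088, true)]),
  (52, [(1364, true), (1242, true), (1639, true)]),
  (1940, [(1364, true), (1242, true)]),
  (2113, [(1364, true), (1526, true), (2131, true)]),
  (5020, [(1364, true), (1526, true)]),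
  (5074, [(1364, true), (3875, true)]),
  (5416, [(1364, true), (2088, true)]),
  (891, [(1364, true), (1404, true)]),
  (965, [(1364, true), (4410, true), (762, true)]),
  (2027, [(1364, true), (4410, true)]),
  (3919, [(1364, true), (2984, true), (4317, true)]),
  (155, [(1364, true), (2984, true)]),
  (1394, [(1364, true), (4024, true)]),
  (1993, [(1364, true), (1246, true)]),
  (509, [(1364, true), (4320, true)]),
  (3308, [(1364, true), (899, true)]),
  (2157, [(1364, true), (216, true), (2884, true)]),
  (3497, [(1364, true), (216, true)]),
  (5911, [(1364, true), (6022, true)]),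
  (2346, [(1364, true), (2886, true)]),
  (4511, [(1364, true), (3197, true), (480, true)]),
  (1558, [(1364, true), (3197, true)]),
  (3403, [(1364, true), (5601, true)]),
  (3748, [(1364, true), (4317, true)]),
  (1055, [(1364, true), (1187, true)]),
  (1743, [(1364, true), (4633, true)]),
  (4598, [(1364, true), (2661, true)]),
  (2695, [(1364, true), (4513, true)]),
  (4933, [(1364, true), (2707, true), (5632, true)]),
  (1263, [(1364, true), (2707, true)]),
  (2612, [(1364, true), (2969, true)]),
  (1361, [(1364, true), (3934, true)]),
  (4240, [(1364, true), (1671, true)]),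
  (2638, [(1364, true), (666, true), (974, true)]),
  (1568, [(1364, true), (666, true)]),
  (564, [(1364, true), (1641, true)]),
  (4912, [(1364, true), (4558, true)]),
  (1700, [(1364, true), (4386, true)]),
  (2272, [(1364, true), (4242, true), (3949, true)]),
  (2932, [(1364, true), (4242, true)]),
  (4823, [(1364, true), (5055, true)]),
  (5834, [(1364, true)]),
  (4769, [(2804, true), (171, true), (3875, true)]),
  (5529, [(2804, true), (171, true)]),
  (4040, [(2804, true), (958, true), (4200, true)]),
  (1314, [(2804, true), (958, true)]),
  (2094, [(2804, true), (2873, true), (4320, true)]),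
  (4146, [(2804, true), (2873, true)]),
  (1886, [(2804, true), (5620, true), (1404, true)]),
  (5817, [(2804, true), (5620, true)]),
  (2404, [(2804, true), (3875, true)]),
  (5542, [(2804, true), (4241, true)]),
  (3277, [(2804, true), (5048, true)]),
  (137, [(2804, true), (2984, true)]),
  (809, [(2804, true), (1345, true), (1246, true)]),
  (3436, [(2804, true), (1345, true)]),
  (3322, [(2804, true), (4024, true)]),
  (5287, [(2804, true), (1246, true)]),
  (3198, [(2804, true), (1265, true)]),
  (5278, [(2804, true), (327, true)]),
  (5968, [(2804, true), (1942, true)]),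
  (4383, [(2804, true), (899, true)]),
  (4800, [(2804, true), (2766, true)]),
  (1713, [(2804, true), (1639, true), (251, true)]),
  (6018, [(2804, true), (1639, true)]),
  (2781, [(2804, true), (4573, true)]),
  (5704, [(2804, true), (6022, true), (5792, true)]),
  (3738, [(2804, true), (6022, true)]),
  (5958, [(2804, true), (2886, true)]),
  (5619, [(2804, true), (1899, true)])]

def steps27 : List (ℕ × List (ℕ × Bool)) := [(639, [(2804, true), (4317, true)]),
  (4583, [(2804, true), (1637, true)]),
  (5176, [(2804, true), (2986, true)]),
  (2910, [(2804, true), (2661, true)]),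
  (5642, [(2804, true), (3588, true)]),
  (667, [(2804, true), (558, true)]),
  (1518, [(2804, true), (4251, true)]),
  (1102, [(2804, true), (28, true)]),
  (1702, [(2804, true), (5190, true)]),
  (422, [(2804, true), (4713, true)]),
  (3481, [(2804, true)]),
  (2807, [(671, true), (158, true), (5048, true)]),
  (554, [(671, true), (158, true)]),
  (2167, [(671, true), (171, true), (2766, true)]),
  (5444, [(671, true), (171, true)]),
  (1157, [(671, true), (958, true), (1637, true)]),
  (2320, [(671, true), (958, true)]),
  (290, [(671, true), (5671, true), (4513, true)]),
  (1571, [(671, true), (5671, true)]),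
  (4727, [(671, true), (5048, true), (4573, true)]),
  (3072, [(671, true), (5048, true), (2986, true)]),
  (825, [(671, true), (5048, true)]),
  (586, [(671, true), (2984, true), (1246, true)]),
  (4892, [(671, true), (2984, true)]),
  (3416, [(671, true), (4024, true)]),
  (694, [(671, true), (1246, true)]),
  (1321, [(671, true), (1265, true)]),
  (1699, [(671, true), (327, true), (762, true)]),
  (3820, [(671, true), (327, true)]),
  (6155, [(671, true), (4200, true), (4251, true)]),
  (5092, [(671, true), (4200, true)]),
  (2550, [(671, true), (762, true)]),
  (1566, [(671, true), (440, true)]),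
  (4323, [(671, true), (2766, true)]),
  (5025, [(671, true), (4573, true)]),
  (3381, [(671, true), (6022, true)]),
  (530, [(671, true), (4795, true)]),
  (4457, [(671, true), (5374, true)]),
  (548, [(671, true), (1899, true)]),
  (2865, [(671, true), (3998, true), (5190, true)]),
  (369, [(671, true), (3998, true)]),
  (4756, [(671, true), (3958, true)]),
  (1448, [(671, true), (4633, true)]),
  (2340, [(671, true), (3478, true), (3013, true)]),
  (519, [(671, true), (3478, true)]),
  (5116, [(671, true), (665, true)]),
  (2765, [(671, true), (3588, true)]),
  (2645, [(671, true), (558, true)]),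
  (557, [(671, true), (227, true)]),
  (3128, [(671, true)]),
  (935, [(3884, true), (4906, true), (3154, true)]),
  (5966, [(3884, true), (4906, true)]),
  (664, [(3884, true), (2088, true), (4320, true)]),
  (5908, [(3884, true), (2088, true)]),
  (2866, [(3884, true), (16, true)]),
  (3227, [(3884, true), (1404, true)]),
  (2688, [(3884, true), (5048, true)]),
  (3637, [(3884, true), (2984, true)]),
  (2011, [(3884, true), (1345, true)]),
  (2013, [(3884, true), (1246, true)]),
  (1383, [(3884, true), (327, true)]),
  (2580, [(3884, true), (440, true)]),
  (4154, [(3884, true), (1942, true), (4513, true)]),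
  (2298, [(3884, true), (1942, true)]),
  (3439, [(3884, true), (2766, true), (1020, true)]),
  (3111, [(3884, true), (2766, true)]),
  (1650, [(3884, true), (1639, true)]),
  (1216, [(3884, true), (216, true)]),
  (981, [(3884, true), (6022, true)]),
  (3789, [(3884, true), (2215, true)]),
  (3880, [(3884, true), (3998, true)]),
  (1615, [(3884, true), (4317, true), (4195, true)]),
  (206, [(3884, true), (4317, true)]),
  (1706, [(3884, true), (2986, true)]),
  (2045, [(3884, true), (1733, true)]),
  (5054, [(3884, true), (3588, true)]),
  (5951, [(3884, true), (5190, true)]),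
  (2394, [(3884, true), (2707, true)]),
  (3809, [(3884, true), (37, true)]),
  (1953, [(3884, true), (4713, true)]),
  (4219, [(3884, true), (666, true), (1641, true)]),
  (5818, [(3884, true), (666, true)]),
  (3727, [(3884, true), (3468, true)]),
  (1632, [(3884, true), (103, true)]),
  (4983, [(3884, true), (3390, true)]),
  (1591, [(3884, true), (1816, true)]),
  (4107, [(3884, true), (1550, true)]),
  (2288, [(3884, true), (4183, true)]),
  (5996, [(3884, true), (2928, true)]),
  (2345, [(3884, true)]),
  (396, [(3796, true), (1526, true), (1637, true)]),
  (1963, [(3796, true), (1526, true)]),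
  (4967, [(3796, true), (2088, true)]),
  (4007, [(3796, true), (1404, true)]),
  (1437, [(3796, true), (4241, true)]),
  (5571, [(3796, true), (5048, true), (5786, true)]),
  (5926, [(3796, true), (5048, true)]),
  (3053, [(3796, true), (1246, true)]),
  (4012, [(3796, true), (327, true)]),
  (4027, [(3796, true), (762, true)]),
  (513, [(3796, true), (4153, true), (251, true)]),
  (5130, [(3796, true), (4153, true)]),
  (912, [(3796, true), (1942, true)]),
  (5002, [(3796, true), (4320, true)]),
  (4484, [(3796, true), (1639, true)]),
  (4547, [(3796, true), (6022, true)]),
  (479, [(3796, true), (2886, true)]),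
  (2255, [(3796, true), (1899, true)]),
  (4169, [(3796, true), (1627, true)]),
  (1561, [(3796, true), (3998, true), (2707, true)]),
  (517, [(3796, true), (3998, true)]),
  (1392, [(3796, true), (1187, true)]),
  (2995, [(3796, true), (2661, true), (227, true)]),
  (826, [(3796, true), (2661, true)]),
  (5214, [(3796, true), (3013, true)]),
  (4822, [(3796, true), (4251, true)]),
  (4875, [(3796, true), (2201, true), (3934, true)]),
  (6012, [(3796, true), (2201, true)]),
  (5179, [(3796, true), (5792, true)]),
  (5085, [(3796, true), (1020, true), (4388, true)]),
  (68, [(3796, true), (1020, true)]),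
  (3756, [(3796, true), (4192, true)]),
  (5143, [(3796, true), (5632, true)]),
  (3188, [(3796, true), (3451, true)]),
  (3058, [(3796, true), (782, true)]),
  (5323, [(3796, true), (5786, true)]),
  (2216, [(3796, true), (4558, true)]),
  (680, [(3796, true), (2723, true)]),
  (2161, [(3796, true), (6052, true)]),
  (1926, [(3796, true)]),
  (451, [(4083, true), (4543, true), (251, true)]),
  (2008, [(4083, true), (4543, true)]),
  (3177, [(4083, true), (3875, true)]),
  (5148, [(4083, true), (2088, true)]),
  (5722, [(4083, true), (1404, true)]),
  (4871, [(4083, true), (2984, true), (716, true)]),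
  (351, [(4083, true), (2984, true)]),
  (1112, [(4083, true), (1345, true)]),
  (3688, [(4083, true), (4024, true)]),
  (979, [(4083, true), (4153, true)]),
  (4300, [(4083, true), (440, true)]),
  (4480, [(4083, true), (1942, true), (251, true)]),
  (3138, [(4083, true), (1942, true)]),
  (1834, [(4083, true), (3154, true)]),
  (3579, [(4083, true), (4573, true)]),
  (3824, [(4083, true), (3663, true)]),
  (5874, [(4083, true), (2886, true)]),
  (1031, [(4083, true), (2884, true)]),
  (122, [(4083, true), (2215, true), (782, true)]),
  (5193, [(4083, true), (2215, true)])]

def steps28 : List (ℕ × List (ℕ × Bool)) := [(1881, [(4083, true), (1899, true)]),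
  (4289, [(4083, true), (3998, true)]),
  (43, [(4083, true), (4167, true)]),
  (418, [(4083, true), (1187, true), (3451, true)]),
  (4624, [(4083, true), (1187, true)]),
  (873, [(4083, true), (2661, true)]),
  (1796, [(4083, true), (665, true)]),
  (811, [(4083, true), (3588, true)]),
  (5366, [(4083, true), (558, true), (2969, true)]),
  (3276, [(4083, true), (558, true)]),
  (2114, [(4083, true), (2707, true)]),
  (1634, [(4083, true), (480, true)]),
  (4517, [(4083, true), (3468, true)]),
  (5939, [(4083, true), (1487, true)]),
  (5243, [(4083, true), (5395, true)]),
  (3301, [(4083, true), (716, true)]),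
  (5624, [(4083, true), (391, true)]),
  (95, [(4083, true), (2060, true)]),
  (1232, [(4083, true), (5427, true)]),
  (1975, [(4083, true)]),
  (2190, [(522, true), (158, true), (4320, true)]),
  (2350, [(522, true), (158, true)]),
  (3984, [(522, true), (2088, true)]),
  (1819, [(522, true), (1404, true), (3154, true)]),
  (2734, [(522, true), (1404, true)]),
  (5691, [(522, true), (4410, true)]),
  (5038, [(522, true), (5048, true)]),
  (145, [(522, true), (2984, true)]),
  (5959, [(522, true), (1345, true)]),
  (3918, [(522, true), (4024, true)]),
  (1730, [(522, true), (1246, true)]),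
  (4519, [(522, true), (762, true)]),
  (5421, [(522, true), (4153, true), (2215, true)]),
  (5673, [(522, true), (4153, true)]),
  (153, [(522, true), (899, true), (5601, true)]),
  (514, [(522, true), (899, true)]),
  (724, [(522, true), (4573, true)]),
  (5049, [(522, true), (251, true), (3478, true)]),
  (1708, [(522, true), (251, true)]),
  (2348, [(522, true), (1627, true)]),
  (236, [(522, true), (3197, true)]),
  (5806, [(522, true), (3958, true)]),
  (1484, [(522, true), (665, true), (3013, true)]),
  (3937, [(522, true), (665, true)]),
  (2390, [(522, true), (2131, true)]),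
  (5535, [(522, true), (227, true)]),
  (582, [(522, true), (5792, true)]),
  (5221, [(522, true), (2033, true), (1671, true)]),
  (1315, [(522, true), (2033, true)]),
  (190, [(522, true), (480, true)]),
  (72, [(522, true), (1961, true)]),
  (3647, [(522, true), (5632, true)]),
  (1191, [(522, true), (3451, true)]),
  (4529, [(522, true), (2735, true), (1002, true)]),
  (2610, [(522, true), (2735, true)]),
  (657, [(522, true), (2120, true)]),
  (6049, [(522, true), (1550, true)]),
  (1449, [(522, true), (3164, true)]),
  (2869, [(522, true), (2928, true)]),
  (2778, [(522, true)]),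
  (358, [(3537, true), (2088, true)]),
  (6113, [(3537, true), (16, true)]),
  (3994, [(3537, true), (1404, true)]),
  (5983, [(3537, true), (4410, true), (4241, true)]),
  (1027, [(3537, true), (4410, true)]),
  (4085, [(3537, true), (4241, true)]),
  (4860, [(3537, true), (5048, true), (2707, true)]),
  (4707, [(3537, true), (5048, true)]),
  (3496, [(3537, true), (327, true)]),
  (3391, [(3537, true), (4200, true), (4192, true)]),
  (4302, [(3537, true), (4200, true)]),
  (5848, [(3537, true), (762, true), (5374, true)]),
  (1063, [(3537, true), (762, true)]),
  (4738, [(3537, true), (3154, true)]),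
  (1589, [(3537, true), (4573, true)]),
  (859, [(3537, true), (4795, true), (1637, true)]),
  (2878, [(3537, true), (4795, true)]),
  (5679, [(3537, true), (2215, true)]),
  (5218, [(3537, true), (1899, true)]),
  (1454, [(3537, true), (1627, true)]),
  (5272, [(3537, true), (3958, true)]),
  (2547, [(3537, true), (1187, true)]),
  (3710, [(3537, true), (1637, true)]),
  (5429, [(3537, true), (665, true)]),
  (2466, [(3537, true), (3245, true)]),
  (6, [(3537, true), (4251, true)]),
  (3499, [(3537, true), (227, true)]),
  (5258, [(3537, true), (5190, true)]),
  (1734, [(3537, true), (2033, true)]),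
  (3894, [(3537, true), (2202, true)]),
  (3988, [(3537, true), (521, true)]),
  (3178, [(3537, true), (5395, true)]),
  (3161, [(3537, true), (1002, true)]),
  (5979, [(3537, true), (4195, true)]),
  (2289, [(3537, true), (4528, true)]),
  (5312, [(3537, true), (2573, true)]),
  (3123, [(3537, true), (1816, true)]),
  (3551, [(3537, true)]),
  (2795, [(158, true), (1242, true), (3875, true)]),
  (3888, [(158, true), (1242, true)]),
  (5871, [(158, true), (4393, true), (2088, true)]),
  (4424, [(158, true), (4393, true), (1899, true)]),
  (5101, [(158, true), (4393, true)]),
  (3010, [(158, true), (3875, true)]),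
  (4052, [(158, true), (16, true)]),
  (5453, [(158, true), (4410, true)]),
  (177, [(158, true), (4241, true), (327, true)]),
  (1172, [(158, true), (4241, true)]),
  (3723, [(158, true), (2984, true)]),
  (2715, [(158, true), (1345, true)]),
  (927, [(158, true), (1246, true)]),
  (2554, [(158, true), (4200, true)]),
  (2062, [(158, true), (440, true)]),
  (1767, [(158, true), (4573, true)]),
  (1744, [(158, true), (5374, true)]),
  (590, [(158, true), (1627, true)]),
  (5231, [(158, true), (3998, true)]),
  (1297, [(158, true), (3197, true)]),
  (4838, [(158, true), (3958, true)]),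
  (5852, [(158, true), (4317, true)]),
  (1412, [(158, true), (1637, true)]),
  (1848, [(158, true), (3478, true)]),
  (2181, [(158, true), (2131, true)]),
  (1565, [(158, true), (227, true)]),
  (2496, [(158, true), (2707, true)]),
  (2797, [(158, true), (3934, true)]),
  (4647, [(158, true), (666, true)]),
  (1787, [(158, true), (5632, true)]),
  (1721, [(158, true)]),
  (5537, [(5608, true), (3875, true), (16, true)]),
  (2772, [(5608, true), (3875, true)]),
  (4295, [(5608, true), (2088, true)]),
  (4961, [(5608, true), (16, true)]),
  (2153, [(5608, true), (1404, true)]),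
  (2739, [(5608, true), (4410, true)]),
  (5831, [(5608, true), (2984, true), (5792, true)]),
  (3219, [(5608, true), (2984, true)]),
  (4314, [(5608, true), (4024, true)]),
  (3175, [(5608, true), (1265, true), (2884, true)]),
  (380, [(5608, true), (1265, true)]),
  (5773, [(5608, true), (440, true), (2847, true)]),
  (2684, [(5608, true), (440, true)]),
  (141, [(5608, true), (4320, true)]),
  (968, [(5608, true), (1639, true)]),
  (5907, [(5608, true), (3663, true)]),
  (4840, [(5608, true), (216, true), (1637, true)]),
  (645, [(5608, true), (216, true)]),
  (3974, [(5608, true), (6022, true)]),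
  (4680, [(5608, true), (2886, true)]),
  (104, [(5608, true), (5374, true)])]

def steps29 : List (ℕ × List (ℕ × Bool)) := [(5244, [(5608, true), (5601, true), (37, true)]),
  (1168, [(5608, true), (5601, true)]),
  (2636, [(5608, true), (4317, true), (5190, true)]),
  (5923, [(5608, true), (4317, true)]),
  (2937, [(5608, true), (2986, true)]),
  (5155, [(5608, true), (3478, true)]),
  (1289, [(5608, true), (2661, true)]),
  (5229, [(5608, true), (665, true), (227, true)]),
  (3346, [(5608, true), (665, true)]),
  (3684, [(5608, true), (227, true)]),
  (1185, [(5608, true), (782, true)]),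
  (867, [(5608, true), (1002, true)]),
  (601, [(5608, true), (4195, true)]),
  (2218, [(5608, true), (2462, true)]),
  (4808, [(5608, true), (4854, true)]),
  (5142, [(5608, true), (2120, true)]),
  (62, [(5608, true)]),
  (4243, [(4906, true), (2873, true), (1404, true)]),
  (5464, [(4906, true), (2873, true), (3998, true)]),
  (2642, [(4906, true), (2873, true)]),
  (5265, [(4906, true), (5186, true), (4241, true)]),
  (5033, [(4906, true), (5186, true)]),
  (5962, [(4906, true), (3875, true), (4024, true)]),
  (4256, [(4906, true), (3875, true)]),
  (4759, [(4906, true), (16, true)]),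
  (1907, [(4906, true), (4410, true)]),
  (2324, [(4906, true), (4241, true)]),
  (710, [(4906, true), (5048, true)]),
  (2675, [(4906, true), (1345, true)]),
  (4375, [(4906, true), (1246, true)]),
  (5102, [(4906, true), (1265, true)]),
  (6122, [(4906, true), (762, true)]),
  (4574, [(4906, true), (1639, true)]),
  (3819, [(4906, true), (216, true)]),
  (1843, [(4906, true), (4795, true)]),
  (2003, [(4906, true), (2884, true)]),
  (1252, [(4906, true), (2215, true)]),
  (882, [(4906, true), (251, true)]),
  (4158, [(4906, true), (4167, true)]),
  (5285, [(4906, true), (1637, true)]),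
  (2549, [(4906, true), (4513, true)]),
  (4687, [(4906, true), (3245, true)]),
  (3945, [(4906, true), (5190, true)]),
  (4367, [(4906, true), (5792, true)]),
  (1193, [(4906, true), (2969, true)]),
  (4646, [(4906, true), (103, true)]),
  (771, [(4906, true), (1373, true)]),
  (5648, [(4906, true)]),
  (567, [(99, true), (4393, true), (4200, true)]),
  (4736, [(99, true), (4393, true)]),
  (248, [(99, true), (3875, true), (3197, true)]),
  (1915, [(99, true), (3875, true)]),
  (3508, [(99, true), (1404, true)]),
  (4784, [(99, true), (4410, true)]),
  (1941, [(99, true), (4024, true)]),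
  (3139, [(99, true), (1246, true)]),
  (367, [(99, true), (327, true), (37, true)]),
  (220, [(99, true), (327, true)]),
  (828, [(99, true), (4200, true)]),
  (4743, [(99, true), (762, true), (5190, true)]),
  (3649, [(99, true), (762, true)]),
  (4923, [(99, true), (4153, true)]),
  (4189, [(99, true), (1942, true), (3663, true)]),
  (4888, [(99, true), (1942, true)]),
  (4034, [(99, true), (2766, true)]),
  (2493, [(99, true), (4573, true), (665, true)]),
  (6073, [(99, true), (4573, true)]),
  (1937, [(99, true), (6022, true)]),
  (301, [(99, true), (2886, true)]),
  (3886, [(99, true), (1899, true)]),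
  (2206, [(99, true), (1627, true)]),
  (4058, [(99, true), (3998, true)]),
  (1655, [(99, true), (3958, true), (570, true)]),
  (2848, [(99, true), (3958, true)]),
  (3271, [(99, true), (5601, true)]),
  (5010, [(99, true), (3588, true)]),
  (976, [(99, true), (5792, true)]),
  (1379, [(99, true), (4713, true)]),
  (2692, [(99, true), (2847, true), (118, true)]),
  (174, [(99, true), (2847, true)]),
  (5136, [(99, true), (5632, true)]),
  (5289, [(99, true), (4388, true)]),
  (1200, [(99, true), (4108, true)]),
  (2618, [(99, true), (2462, true)]),
  (559, [(99, true), (2813, true)]),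
  (3971, [(99, true), (1021, true)]),
  (271, [(99, true), (5233, true)]),
  (3640, [(99, true)]),
  (2587, [(4074, true), (1242, true), (1345, true)]),
  (1530, [(4074, true), (1242, true)]),
  (395, [(4074, true), (2984, true)]),
  (5969, [(4074, true), (1345, true)]),
  (5821, [(4074, true), (4024, true), (2884, true)]),
  (5971, [(4074, true), (4024, true)]),
  (908, [(4074, true), (4200, true), (4320, true)]),
  (4485, [(4074, true), (4200, true)]),
  (98, [(4074, true), (762, true)]),
  (6090, [(4074, true), (440, true)]),
  (531, [(4074, true), (4573, true), (103, true)]),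
  (4905, [(4074, true), (4573, true)]),
  (1194, [(4074, true), (6022, true)]),
  (2905, [(4074, true), (2886, true), (1637, true)]),
  (5423, [(4074, true), (2886, true)]),
  (774, [(4074, true), (5374, true)]),
  (3495, [(4074, true), (2215, true)]),
  (1584, [(4074, true), (1899, true)]),
  (5276, [(4074, true), (3998, true)]),
  (5338, [(4074, true), (5601, true)]),
  (2455, [(4074, true), (4167, true)]),
  (3769, [(4074, true), (4317, true)]),
  (3995, [(4074, true), (4633, true)]),
  (3250, [(4074, true), (665, true)]),
  (4715, [(4074, true), (6124, true)]),
  (2158, [(4074, true), (1084, true)]),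
  (5913, [(4074, true), (28, true), (4558, true)]),
  (5723, [(4074, true), (28, true)]),
  (1502, [(4074, true), (2707, true)]),
  (3051, [(4074, true), (37, true)]),
  (308, [(4074, true), (480, true)]),
  (1923, [(4074, true), (6057, true)]),
  (3055, [(4074, true), (3468, true)]),
  (4814, [(4074, true), (1487, true)]),
  (4505, [(4074, true), (521, true)]),
  (222, [(4074, true), (5786, true)]),
  (2816, [(4074, true), (4558, true)]),
  (3951, [(4074, true), (4010, true)]),
  (3290, [(4074, true), (3583, true)]),
  (1592, [(4074, true)]),
  (3813, [(171, true), (3875, true)]),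
  (1736, [(171, true), (2088, true)]),
  (1231, [(171, true), (1404, true), (762, true)]),
  (4920, [(171, true), (1404, true)]),
  (3298, [(171, true), (4410, true)]),
  (1309, [(171, true), (4241, true), (3154, true)]),
  (6150, [(171, true), (4241, true), (2986, true)]),
  (4069, [(171, true), (4241, true)]),
  (144, [(171, true), (5048, true), (2131, true)]),
  (3096, [(171, true), (5048, true)]),
  (2329, [(171, true), (4024, true), (3663, true)]),
  (5333, [(171, true), (4024, true), (3451, true)]),
  (4237, [(171, true), (4024, true)]),
  (1358, [(171, true), (1265, true), (440, true)]),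
  (2247, [(171, true), (1265, true)]),
  (638, [(171, true), (4320, true)]),
  (872, [(171, true), (2766, true)]),
  (4343, [(171, true), (1639, true)]),
  (6074, [(171, true), (4573, true), (5190, true)]),
  (2890, [(171, true), (4573, true)]),
  (4186, [(171, true), (3663, true)]),
  (2285, [(171, true), (6022, true)])]

def steps30 : List (ℕ × List (ℕ × Bool)) := [(4725, [(171, true), (2886, true)]),
  (3288, [(171, true), (5374, true)]),
  (25, [(171, true), (1627, true), (558, true)]),
  (1609, [(171, true), (1627, true)]),
  (1813, [(171, true), (3958, true), (3468, true)]),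
  (2687, [(171, true), (3958, true)]),
  (1974, [(171, true), (5601, true)]),
  (1728, [(171, true), (3478, true)]),
  (4947, [(171, true), (5190, true)]),
  (2453, [(171, true), (521, true)]),
  (3775, [(171, true), (2060, true)]),
  (180, [(171, true), (4010, true)]),
  (2380, [(171, true), (5522, true)]),
  (5385, [(171, true), (4386, true)]),
  (76, [(171, true), (5427, true)]),
  (956, [(171, true)]),
  (111, [(958, true), (16, true), (3154, true)]),
  (4354, [(958, true), (16, true)]),
  (5489, [(958, true), (1404, true)]),
  (937, [(958, true), (2984, true)]),
  (4584, [(958, true), (1345, true)]),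
  (5755, [(958, true), (1246, true)]),
  (3900, [(958, true), (1265, true)]),
  (4118, [(958, true), (327, true), (440, true)]),
  (105, [(958, true), (327, true)]),
  (2916, [(958, true), (762, true)]),
  (1994, [(958, true), (4153, true)]),
  (1052, [(958, true), (1942, true)]),
  (228, [(958, true), (3154, true)]),
  (764, [(958, true), (2766, true)]),
  (4225, [(958, true), (4573, true)]),
  (1694, [(958, true), (216, true)]),
  (3679, [(958, true), (6022, true)]),
  (3509, [(958, true), (2886, true)]),
  (3395, [(958, true), (2215, true)]),
  (410, [(958, true), (251, true), (1733, true)]),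
  (2511, [(958, true), (251, true)]),
  (5450, [(958, true), (4317, true), (5632, true)]),
  (3153, [(958, true), (4317, true)]),
  (4365, [(958, true), (1187, true)]),
  (613, [(958, true), (3245, true)]),
  (2801, [(958, true), (227, true), (1487, true)]),
  (5812, [(958, true), (227, true)]),
  (3670, [(958, true), (28, true)]),
  (2317, [(958, true), (480, true)]),
  (4750, [(958, true), (3934, true)]),
  (2354, [(958, true), (4713, true)]),
  (3071, [(958, true), (782, true)]),
  (4135, [(958, true), (716, true)]),
  (4915, [(958, true), (2723, true)]),
  (163, [(958, true), (2573, true)]),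
  (856, [(958, true), (2240, true)]),
  (5949, [(958, true), (5543, true)]),
  (2780, [(958, true)]),
  (1623, [(1242, true), (4543, true), (4153, true)]),
  (3927, [(1242, true), (4543, true), (2766, true)]),
  (5727, [(1242, true), (4543, true)]),
  (2993, [(1242, true), (5048, true), (1265, true)]),
  (2669, [(1242, true), (5048, true)]),
  (2318, [(1242, true), (2984, true)]),
  (2254, [(1242, true), (1345, true)]),
  (1598, [(1242, true), (4200, true)]),
  (4651, [(1242, true), (4153, true)]),
  (5707, [(1242, true), (440, true), (3197, true)]),
  (3573, [(1242, true), (440, true)]),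
  (472, [(1242, true), (1942, true)]),
  (4215, [(1242, true), (3154, true), (3958, true)]),
  (4456, [(1242, true), (3154, true)]),
  (3000, [(1242, true), (4320, true)]),
  (1908, [(1242, true), (3663, true)]),
  (4637, [(1242, true), (216, true)]),
  (596, [(1242, true), (4795, true)]),
  (3204, [(1242, true), (2884, true)]),
  (1689, [(1242, true), (251, true)]),
  (2306, [(1242, true), (4167, true)]),
  (4741, [(1242, true), (665, true)]),
  (2224, [(1242, true), (1733, true)]),
  (2130, [(1242, true), (2201, true)]),
  (3376, [(1242, true), (2707, true)]),
  (3676, [(1242, true), (5632, true)]),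
  (625, [(1242, true), (521, true)]),
  (3571, [(1242, true), (1641, true)]),
  (4288, [(1242, true)]),
  (5841, [(1526, true), (2873, true), (216, true)]),
  (3273, [(1526, true), (2873, true)]),
  (246, [(1526, true), (5186, true), (1942, true)]),
  (3517, [(1526, true), (5186, true), (899, true)]),
  (419, [(1526, true), (5186, true)]),
  (4568, [(1526, true), (2088, true)]),
  (156, [(1526, true), (16, true)]),
  (4549, [(1526, true), (1404, true)]),
  (1529, [(1526, true), (4410, true)]),
  (4133, [(1526, true), (4241, true)]),
  (842, [(1526, true), (5048, true)]),
  (2185, [(1526, true), (1246, true)]),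
  (5697, [(1526, true), (327, true)]),
  (4378, [(1526, true), (4200, true), (3197, true)]),
  (4054, [(1526, true), (4200, true)]),
  (4038, [(1526, true), (762, true)]),
  (4881, [(1526, true), (4153, true)]),
  (3207, [(1526, true), (3154, true)]),
  (3828, [(1526, true), (3663, true)]),
  (2162, [(1526, true), (4795, true)]),
  (1605, [(1526, true), (5374, true)]),
  (670, [(1526, true), (2215, true)]),
  (4292, [(1526, true), (5601, true)]),
  (1337, [(1526, true), (3013, true)]),
  (2770, [(1526, true), (4251, true)]),
  (3228, [(1526, true), (5792, true)]),
  (5217, [(1526, true), (3934, true)]),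
  (4596, [(1526, true), (3468, true)]),
  (637, [(1526, true), (782, true)]),
  (1391, [(1526, true), (118, true)]),
  (6040, [(1526, true)]),
  (4233, [(1399, true), (2873, true), (1265, true)]),
  (3028, [(1399, true), (2873, true)]),
  (6013, [(1399, true), (2088, true)]),
  (4807, [(1399, true), (16, true)]),
  (293, [(1399, true), (4241, true), (1187, true)]),
  (1176, [(1399, true), (4241, true)]),
  (5946, [(1399, true), (1345, true)]),
  (1597, [(1399, true), (4024, true), (2033, true)]),
  (3876, [(1399, true), (4024, true)]),
  (2430, [(1399, true), (1265, true), (327, true)]),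
  (4510, [(1399, true), (1265, true)]),
  (5261, [(1399, true), (4153, true), (2202, true)]),
  (2512, [(1399, true), (4153, true)]),
  (4952, [(1399, true), (440, true), (227, true)]),
  (5495, [(1399, true), (440, true)]),
  (2357, [(1399, true), (1942, true)]),
  (374, [(1399, true), (899, true)]),
  (3106, [(1399, true), (1639, true), (1187, true)]),
  (4247, [(1399, true), (1639, true)]),
  (986, [(1399, true), (5374, true), (1637, true)]),
  (5967, [(1399, true), (5374, true)]),
  (1122, [(1399, true), (2215, true)]),
  (1105, [(1399, true), (4167, true)]),
  (5220, [(1399, true), (2986, true)]),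
  (5202, [(1399, true), (3588, true)]),
  (274, [(1399, true), (3013, true)]),
  (2276, [(1399, true), (28, true)]),
  (4147, [(1399, true), (2707, true)]),
  (5304, [(1399, true), (1020, true)]),
  (4077, [(1399, true), (4002, true)]),
  (3311, [(1399, true), (1927, true)]),
  (1752, [(1399, true), (3468, true)]),
  (1053, [(1399, true), (1487, true)]),
  (3169, [(1399, true), (1373, true), (5824, true)]),
  (2623, [(1399, true), (1373, true)]),
  (1747, [(1399, true), (4528, true)])]

def steps31 : List (ℕ × List (ℕ × Bool)) := [(3285, [(1399, true), (1016, true)]),
  (5280, [(1399, true), (1021, true)]),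
  (3172, [(1399, true), (5233, true)]),
  (5050, [(1399, true)]),
  (3928, [(343, true), (5186, true), (1246, true)]),
  (969, [(343, true), (5186, true)]),
  (2304, [(343, true), (5048, true)]),
  (948, [(343, true), (1246, true)]),
  (546, [(343, true), (1265, true), (3154, true)]),
  (6021, [(343, true), (1265, true)]),
  (648, [(343, true), (327, true), (216, true)]),
  (1268, [(343, true), (327, true)]),
  (4761, [(343, true), (762, true)]),
  (4037, [(343, true), (440, true)]),
  (3653, [(343, true), (1639, true), (3197, true)]),
  (3208, [(343, true), (1639, true)]),
  (1573, [(343, true), (216, true)]),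
  (5029, [(343, true), (4795, true)]),
  (4387, [(343, true), (5374, true), (1187, true)]),
  (5519, [(343, true), (5374, true)]),
  (5592, [(343, true), (1899, true), (3245, true)]),
  (3966, [(343, true), (1899, true)]),
  (4811, [(343, true), (1627, true), (521, true)]),
  (3157, [(343, true), (1627, true)]),
  (2405, [(343, true), (3998, true)]),
  (3258, [(343, true), (5601, true), (1487, true)]),
  (2369, [(343, true), (5601, true)]),
  (4490, [(343, true), (2986, true)]),
  (4916, [(343, true), (6124, true)]),
  (2080, [(343, true), (4513, true)]),
  (1719, [(343, true), (4251, true), (3042, true)]),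
  (3513, [(343, true), (4251, true)]),
  (1156, [(343, true), (227, true)]),
  (3191, [(343, true), (5792, true)]),
  (5477, [(343, true), (2033, true)]),
  (2109, [(343, true), (37, true)]),
  (2384, [(343, true), (5632, true)]),
  (1071, [(343, true), (3451, true)]),
  (1766, [(343, true), (930, true)]),
  (773, [(343, true), (716, true)]),
  (2266, [(343, true), (1958, true)]),
  (5084, [(343, true), (2060, true)]),
  (1693, [(343, true), (5543, true)]),
  (5124, [(343, true)]),
  (2568, [(2838, true), (4241, true), (1246, true)]),
  (5539, [(2838, true), (4241, true)]),
  (993, [(2838, true), (5048, true)]),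
  (3910, [(2838, true), (4024, true), (2986, true)]),
  (3324, [(2838, true), (4024, true)]),
  (2950, [(2838, true), (327, true)]),
  (257, [(2838, true), (440, true), (2215, true)]),
  (1553, [(2838, true), (440, true)]),
  (1910, [(2838, true), (1942, true)]),
  (221, [(2838, true), (1639, true), (6022, true)]),
  (2284, [(2838, true), (1639, true)]),
  (711, [(2838, true), (3663, true), (3478, true)]),
  (2193, [(2838, true), (3663, true), (480, true)]),
  (1095, [(2838, true), (3663, true)]),
  (3562, [(2838, true), (216, true)]),
  (209, [(2838, true), (6022, true)]),
  (2556, [(2838, true), (4795, true)]),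
  (2987, [(2838, true), (251, true)]),
  (4559, [(2838, true), (3958, true)]),
  (1676, [(2838, true), (1187, true), (2131, true)]),
  (3535, [(2838, true), (1187, true)]),
  (2064, [(2838, true), (2986, true)]),
  (6062, [(2838, true), (4633, true)]),
  (1968, [(2838, true), (6124, true)]),
  (2480, [(2838, true), (4513, true)]),
  (3343, [(2838, true), (3245, true)]),
  (3421, [(2838, true), (558, true)]),
  (5369, [(2838, true), (4251, true)]),
  (3662, [(2838, true), (5792, true), (666, true)]),
  (1505, [(2838, true), (5792, true)]),
  (6030, [(2838, true), (3934, true)]),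
  (1075, [(2838, true), (521, true)]),
  (3565, [(2838, true), (5824, true)]),
  (3504, [(2838, true), (570, true)]),
  (887, [(2838, true), (4528, true)]),
  (963, [(2838, true), (649, true)]),
  (1996, [(2838, true), (1816, true)]),
  (3559, [(2838, true)]),
  (4798, [(4423, true), (3875, true), (1345, true)]),
  (1398, [(4423, true), (3875, true)]),
  (1213, [(4423, true), (5048, true)]),
  (6137, [(4423, true), (4024, true)]),
  (924, [(4423, true), (327, true), (3998, true)]),
  (4746, [(4423, true), (327, true)]),
  (1432, [(4423, true), (762, true), (3197, true)]),
  (1653, [(4423, true), (762, true)]),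
  (4349, [(4423, true), (4153, true)]),
  (5299, [(4423, true), (4573, true), (2884, true)]),
  (2545, [(4423, true), (4573, true)]),
  (5900, [(4423, true), (6022, true)]),
  (575, [(4423, true), (2884, true)]),
  (3097, [(4423, true), (2215, true)]),
  (4384, [(4423, true), (1899, true)]),
  (4301, [(4423, true), (251, true)]),
  (5358, [(4423, true), (1627, true)]),
  (6047, [(4423, true), (5601, true)]),
  (2401, [(4423, true), (4167, true)]),
  (4567, [(4423, true), (2986, true)]),
  (4864, [(4423, true), (4633, true)]),
  (3459, [(4423, true), (3478, true)]),
  (4179, [(4423, true), (6124, true)]),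
  (4571, [(4423, true), (4513, true)]),
  (198, [(4423, true), (1084, true)]),
  (2930, [(4423, true), (28, true)]),
  (4830, [(4423, true), (2201, true), (6057, true)]),
  (5684, [(4423, true), (2201, true)]),
  (4435, [(4423, true), (2707, true)]),
  (4862, [(4423, true), (1671, true)]),
  (2927, [(4423, true), (782, true)]),
  (1434, [(4423, true), (930, true)]),
  (3065, [(4423, true), (5824, true)]),
  (3426, [(4423, true), (570, true)]),
  (5739, [(4423, true), (5522, true)]),
  (4082, [(4423, true), (2462, true)]),
  (1866, [(4423, true), (2120, true)]),
  (735, [(4423, true)]),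
  (2456, [(2873, true), (2088, true)]),
  (4442, [(2873, true), (16, true)]),
  (397, [(2873, true), (4410, true)]),
  (2972, [(2873, true), (4241, true)]),
  (2945, [(2873, true), (4024, true), (3478, true)]),
  (2438, [(2873, true), (4024, true)]),
  (2090, [(2873, true), (1265, true)]),
  (5860, [(2873, true), (762, true)]),
  (5623, [(2873, true), (4320, true)]),
  (400, [(2873, true), (5374, true)]),
  (4802, [(2873, true), (2215, true)]),
  (1015, [(2873, true), (251, true)]),
  (1431, [(2873, true), (3998, true)]),
  (4884, [(2873, true), (3958, true)]),
  (129, [(2873, true), (4167, true)]),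
  (2934, [(2873, true), (4317, true)]),
  (534, [(2873, true), (3478, true)]),
  (3171, [(2873, true), (2131, true)]),
  (469, [(2873, true), (1733, true)]),
  (2651, [(2873, true), (3245, true)]),
  (952, [(2873, true), (1084, true)]),
  (3975, [(2873, true), (3588, true)]),
  (189, [(2873, true), (1020, true)]),
  (4942, [(2873, true), (3468, true)]),
  (5630, [(2873, true), (2847, true)]),
  (3491, [(2873, true)]),
  (3163, [(4393, true), (4543, true), (1084, true)]),
  (5628, [(4393, true), (4543, true)]),
  (840, [(4393, true), (3875, true)]),
  (245, [(4393, true), (16, true)])]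

def steps32 : List (ℕ × List (ℕ × Bool)) := [(708, [(4393, true), (1404, true)]),
  (1468, [(4393, true), (4410, true)]),
  (2656, [(4393, true), (327, true), (3663, true)]),
  (5872, [(4393, true), (327, true)]),
  (5246, [(4393, true), (4200, true)]),
  (1339, [(4393, true), (440, true)]),
  (1416, [(4393, true), (3154, true)]),
  (3043, [(4393, true), (6022, true)]),
  (2834, [(4393, true), (2886, true)]),
  (382, [(4393, true), (2884, true)]),
  (2706, [(4393, true), (5374, true), (3013, true)]),
  (4234, [(4393, true), (5374, true)]),
  (3645, [(4393, true), (2215, true)]),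
  (4662, [(4393, true), (1627, true)]),
  (5184, [(4393, true), (3998, true)]),
  (493, [(4393, true), (3197, true)]),
  (4962, [(4393, true), (5601, true)]),
  (5868, [(4393, true), (2131, true)]),
  (5169, [(4393, true), (3245, true)]),
  (1938, [(4393, true), (227, true)]),
  (6084, [(4393, true), (2707, true)]),
  (2043, [(4393, true), (4388, true)]),
  (1331, [(4393, true), (2735, true)]),
  (4545, [(4393, true)]),
  (4939, [(5620, true), (3875, true), (4320, true)]),
  (191, [(5620, true), (3875, true), (6124, true)]),
  (5676, [(5620, true), (3875, true)]),
  (1350, [(5620, true), (2088, true), (440, true)]),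
  (1051, [(5620, true), (2088, true)]),
  (2449, [(5620, true), (16, true)]),
  (5802, [(5620, true), (1404, true)]),
  (1807, [(5620, true), (4241, true)]),
  (3597, [(5620, true), (2984, true), (1187, true)]),
  (651, [(5620, true), (2984, true)]),
  (1150, [(5620, true), (327, true), (3998, true)]),
  (1144, [(5620, true), (327, true), (3588, true)]),
  (3235, [(5620, true), (327, true)]),
  (1874, [(5620, true), (4200, true), (762, true)]),
  (990, [(5620, true), (4200, true)]),
  (4230, [(5620, true), (3154, true)]),
  (4659, [(5620, true), (899, true)]),
  (4655, [(5620, true), (1639, true), (5601, true)]),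
  (3102, [(5620, true), (1639, true)]),
  (547, [(5620, true), (4573, true)]),
  (5118, [(5620, true), (1627, true)]),
  (3267, [(5620, true), (5601, true)]),
  (2172, [(5620, true), (2986, true)]),
  (1989, [(5620, true), (227, true)]),
  (4249, [(5620, true), (2201, true)]),
  (5091, [(5620, true), (2033, true)]),
  (4060, [(5620, true), (2202, true)]),
  (3073, [(5620, true), (1961, true)]),
  (1576, [(5620, true), (1927, true)]),
  (5188, [(5620, true), (3468, true)]),
  (5528, [(5620, true), (2847, true)]),
  (6146, [(5620, true), (1373, true)]),
  (3449, [(5620, true), (1958, true)]),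
  (5367, [(5620, true), (4558, true)]),
  (3307, [(5620, true), (649, true)]),
  (5970, [(5620, true), (1013, true)]),
  (6017, [(5620, true), (6052, true)]),
  (4719, [(5620, true)]),
  (2379, [(5671, true), (2088, true)]),
  (2981, [(5671, true), (4410, true), (4320, true)]),
  (3046, [(5671, true), (4410, true)]),
  (123, [(5671, true), (5048, true)]),
  (3690, [(5671, true), (1345, true)]),
  (2672, [(5671, true), (4024, true), (762, true)]),
  (4894, [(5671, true), (4024, true)]),
  (2071, [(5671, true), (1246, true)]),
  (2917, [(5671, true), (4200, true)]),
  (4562, [(5671, true), (4153, true)]),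
  (1703, [(5671, true), (440, true)]),
  (3760, [(5671, true), (1942, true)]),
  (5532, [(5671, true), (4320, true)]),
  (4030, [(5671, true), (899, true)]),
  (643, [(5671, true), (1639, true)]),
  (277, [(5671, true), (3663, true)]),
  (3222, [(5671, true), (2215, true)]),
  (6127, [(5671, true), (1899, true)]),
  (4890, [(5671, true), (3958, true)]),
  (3943, [(5671, true), (5601, true)]),
  (844, [(5671, true), (1187, true)]),
  (3458, [(5671, true), (665, true)]),
  (1555, [(5671, true), (2131, true)]),
  (46, [(5671, true), (1084, true)]),
  (1304, [(5671, true), (5190, true)]),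
  (5942, [(5671, true), (4002, true)]),
  (5568, [(5671, true), (1961, true)]),
  (1259, [(5671, true), (1927, true)]),
  (4988, [(5671, true), (1671, true)]),
  (286, [(5671, true), (666, true)]),
  (5920, [(5671, true), (5632, true)]),
  (3794, [(5671, true), (2735, true)]),
  (3313, [(5671, true), (5786, true)]),
  (5536, [(5671, true), (391, true)]),
  (4496, [(5671, true), (4854, true)]),
  (1411, [(5671, true), (4664, true)]),
  (1825, [(5671, true), (3583, true)]),
  (3623, [(5671, true)]),
  (1097, [(5186, true), (5048, true)]),
  (3539, [(5186, true), (2984, true), (4200, true)]),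
  (5810, [(5186, true), (2984, true)]),
  (6007, [(5186, true), (1246, true)]),
  (3614, [(5186, true), (1265, true)]),
  (640, [(5186, true), (762, true), (6022, true)]),
  (5204, [(5186, true), (762, true)]),
  (283, [(5186, true), (4153, true)]),
  (4607, [(5186, true), (1942, true)]),
  (2982, [(5186, true), (3154, true)]),
  (3977, [(5186, true), (4320, true), (5601, true)]),
  (5059, [(5186, true), (4320, true)]),
  (4005, [(5186, true), (4795, true)]),
  (6056, [(5186, true), (2884, true)]),
  (5937, [(5186, true), (2215, true)]),
  (1406, [(5186, true), (5601, true)]),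
  (881, [(5186, true), (3478, true)]),
  (3126, [(5186, true), (4513, true)]),
  (4705, [(5186, true), (558, true), (4388, true)]),
  (4324, [(5186, true), (558, true)]),
  (1642, [(5186, true), (4251, true)]),
  (5546, [(5186, true), (227, true)]),
  (393, [(5186, true), (5792, true)]),
  (5153, [(5186, true), (37, true)]),
  (5487, [(5186, true), (4192, true)]),
  (3749, [(5186, true)]),
  (3226, [(4543, true), (3875, true)]),
  (2053, [(4543, true), (2088, true)]),
  (4922, [(4543, true), (16, true)]),
  (3414, [(4543, true), (1404, true)]),
  (5770, [(4543, true), (4410, true)]),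
  (943, [(4543, true), (2984, true)]),
  (5523, [(4543, true), (1345, true)]),
  (1611, [(4543, true), (4024, true)]),
  (6088, [(4543, true), (1265, true), (103, true)]),
  (1072, [(4543, true), (1265, true)]),
  (6069, [(4543, true), (440, true)]),
  (5625, [(4543, true), (1942, true)]),
  (5678, [(4543, true), (4320, true)]),
  (3018, [(4543, true), (3663, true)]),
  (1678, [(4543, true), (4795, true)]),
  (2140, [(4543, true), (2886, true)]),
  (1470, [(4543, true), (1627, true)]),
  (4673, [(4543, true), (1187, true)]),
  (5372, [(4543, true), (1637, true)]),
  (2242, [(4543, true), (3588, true)]),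
  (3279, [(4543, true), (558, true)]),
  (5018, [(4543, true), (28, true)]),
  (5095, [(4543, true), (37, true)]),
  (4970, [(4543, true), (3934, true)])]

def steps33 : List (ℕ × List (ℕ × Bool)) := [(1946, [(4543, true), (6057, true)]),
  (276, [(4543, true)]),
  (1951, [(3875, true), (2088, true)]),
  (4399, [(3875, true), (1404, true)]),
  (4050, [(3875, true), (5048, true), (5824, true)]),
  (2505, [(3875, true), (5048, true)]),
  (1875, [(3875, true), (2984, true)]),
  (759, [(3875, true), (1265, true), (2735, true)]),
  (3544, [(3875, true), (1265, true)]),
  (1050, [(3875, true), (327, true)]),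
  (3443, [(3875, true), (762, true)]),
  (426, [(3875, true), (440, true)]),
  (4013, [(3875, true), (899, true)]),
  (2596, [(3875, true), (2766, true)]),
  (4374, [(3875, true), (5374, true)]),
  (3511, [(3875, true), (2215, true)]),
  (433, [(3875, true), (1899, true)]),
  (3370, [(3875, true), (251, true)]),
  (2422, [(3875, true), (3998, true)]),
  (2571, [(3875, true), (3197, true)]),
  (4145, [(3875, true), (3958, true)]),
  (4270, [(3875, true), (4317, true)]),
  (3933, [(3875, true), (1187, true)]),
  (2637, [(3875, true), (665, true)]),
  (4674, [(3875, true), (6124, true), (2240, true)]),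
  (4063, [(3875, true), (6124, true)]),
  (2039, [(3875, true), (4513, true)]),
  (5281, [(3875, true), (558, true)]),
  (597, [(3875, true), (2707, true)]),
  (5119, [(3875, true), (2969, true)]),
  (2774, [(3875, true), (1961, true)]),
  (5518, [(3875, true), (6057, true)]),
  (5698, [(3875, true), (1487, true)]),
  (1357, [(3875, true), (4108, true)]),
  (6087, [(3875, true), (4195, true)]),
  (5373, [(3875, true), (4558, true)]),
  (1401, [(3875, true)]),
  (2232, [(2088, true), (16, true)]),
  (3430, [(2088, true), (4410, true)]),
  (584, [(2088, true), (4241, true)]),
  (6102, [(2088, true), (5048, true), (1961, true)]),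
  (2912, [(2088, true), (5048, true)]),
  (1512, [(2088, true), (2984, true)]),
  (1267, [(2088, true), (440, true)]),
  (4986, [(2088, true), (3154, true)]),
  (672, [(2088, true), (2766, true)]),
  (42, [(2088, true), (6022, true), (1884, true)]),
  (661, [(2088, true), (6022, true)]),
  (4966, [(2088, true), (4795, true)]),
  (2374, [(2088, true), (2886, true), (3958, true)]),
  (2326, [(2088, true), (2886, true)]),
  (2105, [(2088, true), (2215, true)]),
  (1375, [(2088, true), (5601, true), (2201, true)]),
  (2757, [(2088, true), (5601, true)]),
  (768, [(2088, true), (1187, true)]),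
  (354, [(2088, true), (4633, true)]),
  (1195, [(2088, true), (3478, true)]),
  (140, [(2088, true), (3245, true), (4386, true)]),
  (3989, [(2088, true), (3245, true)]),
  (4668, [(2088, true), (4002, true)]),
  (4841, [(2088, true), (1961, true)]),
  (1983, [(2088, true), (666, true)]),
  (2968, [(2088, true), (3451, true)]),
  (3622, [(2088, true), (4388, true)]),
  (1017, [(2088, true), (5786, true)]),
  (4692, [(2088, true), (2462, true)]),
  (3150, [(2088, true)]),
  (5557, [(16, true), (1404, true)]),
  (6098, [(16, true), (4024, true), (1627, true)]),
  (1839, [(16, true), (4024, true)]),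
  (2485, [(16, true), (1246, true)]),
  (2576, [(16, true), (1265, true)]),
  (1556, [(16, true), (762, true)]),
  (508, [(16, true), (4153, true)]),
  (5165, [(16, true), (2766, true)]),
  (3641, [(16, true), (216, true)]),
  (2138, [(16, true), (6022, true)]),
  (3960, [(16, true), (2886, true)]),
  (807, [(16, true), (3998, true)]),
  (4194, [(16, true), (5601, true)]),
  (5524, [(16, true), (4167, true)]),
  (4379, [(16, true), (1084, true)]),
  (1388, [(16, true), (3588, true)]),
  (2005, [(16, true), (3013, true)]),
  (4361, [(16, true), (4251, true)]),
  (1090, [(16, true), (2201, true)]),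
  (5833, [(16, true), (2202, true)]),
  (4, [(16, true), (666, true)]),
  (4804, [(16, true), (2735, true)]),
  (4585, [(16, true), (4108, true)]),
  (2127, [(16, true), (4195, true)]),
  (3712, [(16, true), (974, true)]),
  (994, [(16, true), (2573, true)]),
  (5060, [(16, true), (5303, true)]),
  (3265, [(16, true)]),
  (3815, [(1404, true), (4410, true)]),
  (1990, [(1404, true), (4241, true)]),
  (1659, [(1404, true), (5048, true)]),
  (3903, [(1404, true), (2984, true), (6022, true)]),
  (566, [(1404, true), (2984, true)]),
  (5660, [(1404, true), (762, true)]),
  (1269, [(1404, true), (4320, true)]),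
  (5683, [(1404, true), (899, true)]),
  (2169, [(1404, true), (216, true)]),
  (2319, [(1404, true), (6022, true)]),
  (4447, [(1404, true), (251, true)]),
  (1724, [(1404, true), (3998, true)]),
  (2585, [(1404, true), (4167, true)]),
  (1586, [(1404, true), (4317, true)]),
  (3607, [(1404, true), (1637, true)]),
  (4268, [(1404, true), (1084, true), (4386, true)]),
  (5230, [(1404, true), (1084, true)]),
  (5564, [(1404, true), (4251, true)]),
  (2643, [(1404, true), (4713, true)]),
  (3309, [(1404, true), (1961, true), (4380, true)]),
  (854, [(1404, true), (1961, true)]),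
  (3023, [(1404, true), (1927, true), (1373, true)]),
  (3969, [(1404, true), (1927, true)]),
  (4921, [(1404, true), (5632, true)]),
  (3249, [(1404, true), (782, true)]),
  (6091, [(1404, true), (930, true)]),
  (5582, [(1404, true), (716, true)]),
  (4397, [(1404, true), (4528, true)]),
  (516, [(1404, true)]),
  (2106, [(4410, true), (1345, true)]),
  (1998, [(4410, true), (327, true), (3197, true)]),
  (4671, [(4410, true), (327, true)]),
  (2871, [(4410, true), (4200, true)]),
  (4218, [(4410, true), (440, true)]),
  (2935, [(4410, true), (1942, true)]),
  (3428, [(4410, true), (899, true)]),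
  (3852, [(4410, true), (3663, true)]),
  (3878, [(4410, true), (251, true)]),
  (1041, [(4410, true), (1627, true)]),
  (5757, [(4410, true), (4317, true)]),
  (3655, [(4410, true), (2986, true)]),
  (1679, [(4410, true), (2661, true)]),
  (4683, [(4410, true), (3245, true)]),
  (3872, [(4410, true), (3588, true)]),
  (3636, [(4410, true), (558, true)]),
  (2942, [(4410, true), (3013, true)]),
  (5669, [(4410, true), (4251, true)]),
  (2861, [(4410, true), (1927, true)]),
  (2452, [(4410, true), (1671, true)]),
  (3816, [(4410, true), (3451, true)]),
  (464, [(4410, true), (4388, true)]),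
  (2929, [(4410, true), (1002, true)]),
  (3148, [(4410, true), (5228, true)]),
  (2536, [(4410, true), (4854, true)]),
  (792, [(4410, true), (4691, true)])]

def steps34 : List (ℕ × List (ℕ × Bool)) := [(3075, [(4410, true)]),
  (288, [(4241, true), (5048, true)]),
  (2491, [(4241, true), (2984, true), (570, true)]),
  (4816, [(4241, true), (2984, true)]),
  (5485, [(4241, true), (4024, true)]),
  (1601, [(4241, true), (4200, true), (4317, true)]),
  (321, [(4241, true), (4200, true)]),
  (560, [(4241, true), (762, true)]),
  (4429, [(4241, true), (440, true)]),
  (967, [(4241, true), (899, true)]),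
  (5914, [(4241, true), (2766, true)]),
  (4210, [(4241, true), (6022, true)]),
  (3136, [(4241, true), (4795, true)]),
  (2823, [(4241, true), (2886, true)]),
  (2863, [(4241, true), (2215, true), (5792, true)]),
  (2155, [(4241, true), (2215, true)]),
  (2047, [(4241, true), (1899, true)]),
  (1840, [(4241, true), (2986, true)]),
  (5458, [(4241, true), (6124, true)]),
  (1494, [(4241, true), (4513, true), (2240, true)]),
  (2728, [(4241, true), (4513, true)]),
  (5857, [(4241, true), (1084, true), (1487, true)]),
  (2263, [(4241, true), (1084, true)]),
  (3856, [(4241, true), (4251, true)]),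
  (6140, [(4241, true), (2201, true)]),
  (3396, [(4241, true), (5792, true), (103, true)]),
  (1585, [(4241, true), (5792, true)]),
  (715, [(4241, true), (2033, true)]),
  (3383, [(4241, true), (37, true)]),
  (5829, [(4241, true), (3934, true)]),
  (3039, [(4241, true), (666, true)]),
  (4974, [(4241, true), (1002, true)]),
  (5808, [(4241, true), (2060, true)]),
  (2234, [(4241, true)]),
  (946, [(5048, true), (1345, true)]),
  (223, [(5048, true), (4024, true)]),
  (4297, [(5048, true), (1246, true)]),
  (1215, [(5048, true), (3154, true)]),
  (2069, [(5048, true), (2766, true)]),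
  (3521, [(5048, true), (1639, true)]),
  (4902, [(5048, true), (3663, true)]),
  (4512, [(5048, true), (216, true)]),
  (6023, [(5048, true), (2886, true)]),
  (3257, [(5048, true), (2884, true)]),
  (420, [(5048, true), (2215, true)]),
  (430, [(5048, true), (3958, true)]),
  (3812, [(5048, true), (5601, true)]),
  (5094, [(5048, true), (4167, true)]),
  (3782, [(5048, true), (1187, true)]),
  (3963, [(5048, true), (1637, true)]),
  (2764, [(5048, true), (2986, true)]),
  (5531, [(5048, true), (4633, true)]),
  (1171, [(5048, true), (2661, true)]),
  (4003, [(5048, true), (3588, true)]),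
  (1475, [(5048, true), (37, true)]),
  (2906, [(5048, true), (3468, true)]),
  (2654, [(5048, true), (3390, true)]),
  (2742, [(5048, true), (5395, true)]),
  (4553, [(5048, true), (974, true)]),
  (3866, [(5048, true), (5786, true)]),
  (1971, [(5048, true), (2928, true)]),
  (9, [(5048, true)]),
  (3017, [(2984, true), (1345, true)]),
  (3040, [(2984, true), (1246, true)]),
  (5028, [(2984, true), (327, true)]),
  (3805, [(2984, true), (4320, true)]),
  (3524, [(2984, true), (899, true)]),
  (1032, [(2984, true), (4573, true)]),
  (2200, [(2984, true), (1627, true)]),
  (5438, [(2984, true), (4317, true)]),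
  (3558, [(2984, true), (2986, true)]),
  (4101, [(2984, true), (2661, true)]),
  (1151, [(2984, true), (665, true)]),
  (542, [(2984, true), (2131, true)]),
  (1253, [(2984, true), (4513, true)]),
  (3041, [(2984, true), (1733, true)]),
  (3025, [(2984, true), (1084, true)]),
  (307, [(2984, true), (3013, true)]),
  (85, [(2984, true), (4251, true), (930, true)]),
  (1753, [(2984, true), (4251, true)]),
  (4180, [(2984, true), (5792, true)]),
  (4232, [(2984, true), (2033, true)]),
  (555, [(2984, true), (480, true)]),
  (3674, [(2984, true), (4713, true)]),
  (1076, [(2984, true), (4192, true)]),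
  (2958, [(2984, true), (1671, true)]),
  (1469, [(2984, true), (5228, true)]),
  (2526, [(2984, true), (716, true)]),
  (362, [(2984, true), (1550, true)]),
  (268, [(2984, true)]),
  (4283, [(1345, true), (327, true)]),
  (2328, [(1345, true), (4200, true)]),
  (2339, [(1345, true), (1942, true)]),
  (4613, [(1345, true), (3663, true)]),
  (5717, [(1345, true), (2884, true)]),
  (4412, [(1345, true), (5374, true)]),
  (383, [(1345, true), (3998, true)]),
  (5252, [(1345, true), (2986, true)]),
  (5764, [(1345, true), (3478, true)]),
  (5533, [(1345, true), (2131, true), (4513, true)]),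
  (4181, [(1345, true), (2131, true)]),
  (3240, [(1345, true), (1733, true)]),
  (3947, [(1345, true), (4251, true)]),
  (1068, [(1345, true), (1020, true)]),
  (252, [(1345, true), (6057, true)]),
  (1190, [(1345, true), (1927, true)]),
  (2124, [(1345, true), (1671, true)]),
  (5809, [(1345, true), (3164, true)]),
  (2920, [(1345, true)]),
  (4441, [(4024, true), (1246, true)]),
  (2228, [(4024, true), (327, true)]),
  (5492, [(4024, true), (4320, true)]),
  (689, [(4024, true), (6022, true), (1084, true)]),
  (1701, [(4024, true), (6022, true)]),
  (3220, [(4024, true), (5601, true), (5786, true)]),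
  (423, [(4024, true), (5601, true)]),
  (5516, [(4024, true), (4317, true)]),
  (1997, [(4024, true), (4633, true)]),
  (5425, [(4024, true), (3478, true)]),
  (4029, [(4024, true), (665, true)]),
  (1895, [(4024, true), (5792, true)]),
  (3304, [(4024, true), (1961, true)]),
  (5607, [(4024, true), (6057, true)]),
  (2980, [(4024, true), (2847, true)]),
  (4555, [(4024, true), (2462, true)]),
  (3323, [(4024, true), (5303, true)]),
  (5491, [(4024, true)]),
  (3711, [(1246, true), (1265, true)]),
  (5115, [(1246, true), (4153, true)]),
  (2278, [(1246, true), (216, true)]),
  (394, [(1246, true), (4795, true)]),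
  (1356, [(1246, true), (2886, true)]),
  (4758, [(1246, true), (2215, true)]),
  (4569, [(1246, true), (4317, true)]),
  (4835, [(1246, true), (6124, true)]),
  (2409, [(1246, true), (2131, true)]),
  (2175, [(1246, true), (1733, true)]),
  (1142, [(1246, true), (28, true)]),
  (1146, [(1246, true), (5190, true)]),
  (34, [(1246, true), (480, true), (2847, true)]),
  (3962, [(1246, true), (480, true)]),
  (5639, [(1246, true), (4192, true)]),
  (843, [(1246, true), (3451, true)]),
  (5359, [(1246, true), (4183, true)]),
  (4436, [(1246, true)]),
  (2712, [(1265, true), (440, true)]),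
  (4590, [(1265, true), (4320, true)]),
  (77, [(1265, true), (2766, true)]),
  (1256, [(1265, true), (3663, true)]),
  (5455, [(1265, true), (216, true)])]

def steps35 : List (ℕ × List (ℕ × Bool)) := [(1366, [(1265, true), (3998, true), (6124, true)]),
  (2100, [(1265, true), (3998, true)]),
  (2523, [(1265, true), (3197, true)]),
  (5784, [(1265, true), (1187, true)]),
  (3321, [(1265, true), (665, true), (2723, true)]),
  (2095, [(1265, true), (665, true)]),
  (477, [(1265, true), (3245, true)]),
  (438, [(1265, true), (37, true)]),
  (64, [(1265, true), (2202, true)]),
  (1811, [(1265, true), (1927, true)]),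
  (3577, [(1265, true), (4192, true)]),
  (2312, [(1265, true), (1487, true)]),
  (188, [(1265, true), (5427, true)]),
  (966, [(1265, true)]),
  (3435, [(327, true), (3154, true)]),
  (576, [(327, true), (3663, true)]),
  (1877, [(327, true), (6022, true)]),
  (954, [(327, true), (4795, true)]),
  (4121, [(327, true), (5374, true)]),
  (2700, [(327, true), (251, true)]),
  (2212, [(327, true), (4317, true)]),
  (928, [(327, true), (665, true)]),
  (1792, [(327, true), (3588, true)]),
  (495, [(327, true), (1020, true)]),
  (866, [(327, true), (4713, true)]),
  (675, [(327, true), (521, true), (716, true)]),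
  (3925, [(327, true), (521, true)]),
  (1745, [(327, true), (4528, true)]),
  (3155, [(327, true), (4691, true)]),
  (5197, [(327, true)]),
  (254, [(4200, true), (762, true)]),
  (5093, [(4200, true), (3154, true)]),
  (1519, [(4200, true), (899, true)]),
  (1862, [(4200, true), (3663, true)]),
  (2392, [(4200, true), (2886, true)]),
  (4414, [(4200, true), (2884, true)]),
  (2833, [(4200, true), (1899, true)]),
  (3528, [(4200, true), (1187, true)]),
  (6060, [(4200, true), (665, true)]),
  (2117, [(4200, true), (4513, true)]),
  (4311, [(4200, true), (1084, true)]),
  (5399, [(4200, true), (4251, true)]),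
  (2631, [(4200, true), (2033, true)]),
  (3193, [(4200, true), (4713, true)]),
  (4113, [(4200, true), (782, true)]),
  (1612, [(4200, true), (3390, true), (391, true)]),
  (1960, [(4200, true), (3390, true)]),
  (1033, [(4200, true), (6052, true)]),
  (6002, [(4200, true)]),
  (3574, [(762, true), (4153, true)]),
  (5107, [(762, true), (440, true)]),
  (1498, [(762, true), (2766, true)]),
  (45, [(762, true), (3663, true)]),
  (18, [(762, true), (216, true), (5190, true)]),
  (5910, [(762, true), (216, true)]),
  (6139, [(762, true), (6022, true)]),
  (3212, [(762, true), (4167, true)]),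
  (4628, [(762, true), (4317, true)]),
  (3501, [(762, true), (2986, true)]),
  (652, [(762, true), (4513, true)]),
  (3087, [(762, true), (3245, true)]),
  (3015, [(762, true), (3934, true)]),
  (91, [(762, true), (4388, true)]),
  (2960, [(762, true), (1373, true)]),
  (2077, [(762, true), (118, true), (5950, true)]),
  (2956, [(762, true), (118, true)]),
  (302, [(762, true)]),
  (5593, [(4153, true), (4573, true)]),
  (1262, [(4153, true), (216, true)]),
  (5083, [(4153, true), (6022, true)]),
  (4229, [(4153, true), (251, true)]),
  (5839, [(4153, true), (1627, true)]),
  (2347, [(4153, true), (3998, true)]),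
  (2501, [(4153, true), (4317, true)]),
  (1756, [(4153, true), (1084, true)]),
  (1279, [(4153, true), (4251, true), (4002, true)]),
  (260, [(4153, true), (4251, true)]),
  (4615, [(4153, true), (2201, true)]),
  (4891, [(4153, true), (4002, true)]),
  (4136, [(4153, true), (6057, true)]),
  (4581, [(4153, true), (1927, true)]),
  (187, [(4153, true), (2240, true)]),
  (1860, [(4153, true), (5089, true)]),
  (3506, [(4153, true)]),
  (998, [(440, true), (1942, true)]),
  (4465, [(440, true), (899, true)]),
  (6105, [(440, true), (4795, true)]),
  (1181, [(440, true), (2884, true)]),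
  (5618, [(440, true), (1899, true)]),
  (4514, [(440, true), (1627, true), (1084, true)]),
  (292, [(440, true), (1627, true)]),
  (2506, [(440, true), (3958, true)]),
  (730, [(440, true), (4167, true)]),
  (253, [(440, true), (1637, true), (1696, true)]),
  (4004, [(440, true), (1637, true)]),
  (795, [(440, true), (665, true)]),
  (878, [(440, true), (6124, true)]),
  (681, [(440, true), (1084, true), (4388, true)]),
  (2231, [(440, true), (1084, true)]),
  (4728, [(440, true), (227, true)]),
  (2199, [(440, true)]),
  (1725, [(1942, true), (1639, true)]),
  (4103, [(1942, true), (4795, true)]),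
  (1709, [(1942, true), (2886, true)]),
  (2186, [(1942, true), (5374, true), (1961, true)]),
  (4954, [(1942, true), (5374, true)]),
  (3532, [(1942, true), (1899, true)]),
  (3183, [(1942, true), (3197, true)]),
  (5250, [(1942, true), (2986, true)]),
  (87, [(1942, true), (1084, true)]),
  (4602, [(1942, true), (558, true)]),
  (5383, [(1942, true), (28, true), (4713, true)]),
  (706, [(1942, true), (28, true)]),
  (5791, [(1942, true), (1671, true)]),
  (722, [(1942, true), (666, true)]),
  (1198, [(1942, true), (4664, true)]),
  (4904, [(1942, true), (4883, true)]),
  (3615, [(1942, true)]),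
  (5562, [(3154, true), (899, true)]),
  (1467, [(3154, true), (1639, true)]),
  (3706, [(3154, true), (2884, true)]),
  (5661, [(3154, true), (1627, true), (4065, true)]),
  (5796, [(3154, true), (1627, true)]),
  (2633, [(3154, true), (4317, true)]),
  (526, [(3154, true), (4633, true)]),
  (5336, [(3154, true), (2661, true)]),
  (561, [(3154, true), (665, true)]),
  (619, [(3154, true), (6124, true)]),
  (1658, [(3154, true), (2131, true)]),
  (1322, [(3154, true), (3245, true)]),
  (2026, [(3154, true), (4002, true)]),
  (2122, [(3154, true), (2847, true)]),
  (987, [(3154, true), (1002, true)]),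
  (2820, [(3154, true)]),
  (1716, [(4320, true), (2766, true)]),
  (86, [(4320, true), (4573, true)]),
  (5417, [(4320, true), (6022, true)]),
  (1517, [(4320, true), (5374, true)]),
  (1826, [(4320, true), (3197, true)]),
  (4813, [(4320, true), (5601, true)]),
  (2498, [(4320, true), (2986, true)]),
  (2102, [(4320, true), (4513, true)]),
  (6028, [(4320, true), (1733, true)]),
  (78, [(4320, true), (1084, true)]),
  (814, [(4320, true), (2707, true)]),
  (5567, [(4320, true), (4713, true)]),
  (1418, [(4320, true), (3468, true), (903, true)]),
  (1741, [(4320, true), (3468, true)]),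
  (5034, [(4320, true), (4195, true)]),
  (2363, [(4320, true)])]

def steps36 : List (ℕ × List (ℕ × Bool)) := [(2948, [(899, true), (3663, true)]),
  (1342, [(899, true), (6022, true)]),
  (4994, [(899, true), (5601, true)]),
  (2436, [(899, true), (4317, true)]),
  (808, [(899, true), (1637, true)]),
  (4925, [(899, true), (2661, true)]),
  (824, [(899, true), (665, true)]),
  (355, [(899, true), (6124, true)]),
  (5846, [(899, true), (3013, true)]),
  (5410, [(899, true), (2033, true)]),
  (4095, [(899, true), (2969, true)]),
  (2597, [(899, true), (1373, true)]),
  (3494, [(899, true), (391, true)]),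
  (2914, [(899, true), (4691, true)]),
  (1970, [(899, true)]),
  (484, [(2766, true), (2884, true)]),
  (3550, [(2766, true), (3958, true)]),
  (5750, [(2766, true), (4317, true)]),
  (1154, [(2766, true), (1637, true)]),
  (2342, [(2766, true), (4633, true)]),
  (2081, [(2766, true), (665, true)]),
  (5203, [(2766, true), (4513, true)]),
  (5938, [(2766, true), (4251, true)]),
  (905, [(2766, true), (2201, true)]),
  (4509, [(2766, true), (5190, true)]),
  (5663, [(2766, true), (3934, true)]),
  (1774, [(2766, true), (1961, true)]),
  (4216, [(2766, true), (2723, true)]),
  (1625, [(2766, true), (5303, true)]),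
  (3578, [(2766, true)]),
  (2352, [(1639, true), (3663, true)]),
  (6000, [(1639, true), (216, true)]),
  (2544, [(1639, true), (2884, true)]),
  (4064, [(1639, true), (2215, true)]),
  (3260, [(1639, true), (3998, true)]),
  (2785, [(1639, true), (3197, true)]),
  (5361, [(1639, true), (3958, true)]),
  (4638, [(1639, true), (4317, true), (1637, true)]),
  (3377, [(1639, true), (4317, true)]),
  (939, [(1639, true), (3478, true)]),
  (365, [(1639, true), (3588, true), (666, true)]),
  (1042, [(1639, true), (3588, true)]),
  (5554, [(1639, true), (4251, true)]),
  (4407, [(1639, true), (4192, true)]),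
  (1986, [(1639, true), (3468, true)]),
  (6042, [(1639, true), (2847, true), (3164, true)]),
  (525, [(1639, true), (2847, true)]),
  (2125, [(1639, true), (1373, true)]),
  (3664, [(1639, true), (2060, true)]),
  (1224, [(1639, true)]),
  (2020, [(4573, true), (3663, true)]),
  (3987, [(4573, true), (2884, true)]),
  (5573, [(4573, true), (5374, true), (4183, true)]),
  (4654, [(4573, true), (5374, true)]),
  (1481, [(4573, true), (2215, true)]),
  (2029, [(4573, true), (251, true)]),
  (2822, [(4573, true), (1627, true)]),
  (120, [(4573, true), (3958, true)]),
  (5051, [(4573, true), (5601, true)]),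
  (270, [(4573, true), (1187, true)]),
  (1465, [(4573, true), (1637, true)]),
  (4599, [(4573, true), (4633, true)]),
  (3239, [(4573, true), (2661, true)]),
  (182, [(4573, true), (3013, true)]),
  (6055, [(4573, true), (4251, true)]),
  (1499, [(4573, true), (4192, true)]),
  (3863, [(4573, true), (1671, true)]),
  (2408, [(4573, true), (2735, true)]),
  (2876, [(4573, true), (4558, true)]),
  (4730, [(4573, true)]),
  (1423, [(3663, true), (6022, true)]),
  (3004, [(3663, true), (2886, true)]),
  (2245, [(3663, true), (5374, true), (28, true)]),
  (1372, [(3663, true), (5374, true)]),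
  (5603, [(3663, true), (3958, true)]),
  (133, [(3663, true), (4317, true), (391, true)]),
  (2667, [(3663, true), (4317, true)]),
  (496, [(3663, true), (1187, true)]),
  (437, [(3663, true), (4633, true)]),
  (3331, [(3663, true), (6124, true)]),
  (1817, [(3663, true), (2131, true)]),
  (3104, [(3663, true), (2707, true)]),
  (4968, [(3663, true), (2033, true)]),
  (5000, [(3663, true), (480, true)]),
  (3659, [(3663, true), (1961, true), (1002, true)]),
  (4162, [(3663, true), (1961, true)]),
  (2955, [(3663, true), (1927, true)]),
  (2997, [(3663, true), (2847, true)]),
  (5283, [(3663, true), (118, true)]),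
  (1338, [(3663, true), (3042, true)]),
  (757, [(3663, true), (4386, true)]),
  (5239, [(3663, true)]),
  (5069, [(216, true), (6022, true)]),
  (2939, [(216, true), (2886, true)]),
  (2924, [(216, true), (251, true)]),
  (3485, [(216, true), (3958, true), (1958, true)]),
  (1278, [(216, true), (3958, true)]),
  (4426, [(216, true), (4317, true)]),
  (4236, [(216, true), (4633, true)]),
  (1864, [(216, true), (2661, true)]),
  (5466, [(216, true), (3588, true), (4251, true)]),
  (971, [(216, true), (3588, true)]),
  (2900, [(216, true), (3013, true), (37, true)]),
  (5956, [(216, true), (3013, true)]),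
  (3867, [(216, true), (28, true)]),
  (3701, [(216, true), (2201, true)]),
  (953, [(216, true), (2707, true)]),
  (2644, [(216, true), (1020, true)]),
  (2338, [(216, true), (1961, true)]),
  (3797, [(216, true), (1927, true), (1002, true)]),
  (4541, [(216, true), (1927, true)]),
  (1485, [(216, true), (666, true)]),
  (3505, [(216, true), (1641, true)]),
  (5042, [(216, true), (1884, true)]),
  (1755, [(216, true), (2240, true)]),
  (5953, [(216, true)]),
  (2395, [(6022, true), (4795, true)]),
  (5905, [(6022, true), (2884, true)]),
  (2160, [(6022, true), (3958, true)]),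
  (3835, [(6022, true), (4317, true), (6124, true)]),
  (4425, [(6022, true), (4317, true)]),
  (806, [(6022, true), (2661, true)]),
  (3367, [(6022, true), (6124, true)]),
  (1054, [(6022, true), (3588, true)]),
  (617, [(6022, true), (2201, true)]),
  (983, [(6022, true), (37, true)]),
  (539, [(6022, true), (2202, true), (4195, true)]),
  (3441, [(6022, true), (2202, true)]),
  (4950, [(6022, true), (930, true)]),
  (1821, [(6022, true), (649, true)]),
  (341, [(6022, true), (1550, true)]),
  (1285, [(6022, true)]),
  (403, [(4795, true), (2886, true)]),
  (803, [(4795, true), (2215, true)]),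
  (2028, [(4795, true), (1899, true)]),
  (917, [(4795, true), (5601, true)]),
  (4398, [(4795, true), (4167, true)]),
  (2738, [(4795, true), (2661, true)]),
  (2032, [(4795, true), (3245, true)]),
  (3985, [(4795, true), (28, true)]),
  (4614, [(4795, true), (2201, true)]),
  (5434, [(4795, true), (5792, true)]),
  (3117, [(4795, true), (480, true)]),
  (3507, [(4795, true), (1671, true)]),
  (1841, [(4795, true), (666, true)]),
  (5070, [(4795, true), (4388, true)]),
  (2992, [(4795, true), (103, true)]),
  (5164, [(4795, true), (1884, true)]),
  (2503, [(4795, true), (4386, true)]),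
  (995, [(4795, true), (1248, true)])]

def steps37 : List (ℕ × List (ℕ × Bool)) := [(4173, [(4795, true), (2423, true)]),
  (2353, [(4795, true)]),
  (3068, [(2886, true), (2215, true)]),
  (2652, [(2886, true), (4317, true)]),
  (1292, [(2886, true), (4633, true)]),
  (4406, [(2886, true), (3478, true)]),
  (2301, [(2886, true), (6124, true), (3042, true)]),
  (2481, [(2886, true), (6124, true)]),
  (2330, [(2886, true), (4513, true), (4251, true)]),
  (4536, [(2886, true), (4513, true)]),
  (4493, [(2886, true), (5190, true)]),
  (488, [(2886, true), (2707, true)]),
  (1045, [(2886, true), (4002, true)]),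
  (1113, [(2886, true), (3934, true)]),
  (4115, [(2886, true), (1671, true), (4195, true)]),
  (1789, [(2886, true), (1671, true)]),
  (5789, [(2886, true), (5395, true)]),
  (3538, [(2886, true), (4854, true)]),
  (2977, [(2886, true), (1021, true)]),
  (3853, [(2886, true)]),
  (4794, [(2884, true), (251, true)]),
  (4953, [(2884, true), (3998, true)]),
  (1244, [(2884, true), (3197, true)]),
  (3455, [(2884, true), (4633, true)]),
  (5890, [(2884, true), (6124, true)]),
  (3673, [(2884, true), (4513, true)]),
  (4608, [(2884, true), (1084, true)]),
  (3289, [(2884, true), (3588, true)]),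
  (1770, [(2884, true), (37, true)]),
  (1833, [(2884, true), (2202, true)]),
  (5319, [(2884, true), (3468, true)]),
  (3302, [(2884, true), (4388, true)]),
  (1587, [(2884, true), (103, true)]),
  (1249, [(2884, true), (3042, true)]),
  (136, [(2884, true), (2240, true)]),
  (3184, [(2884, true), (36, true)]),
  (4102, [(2884, true), (1578, true)]),
  (2889, [(2884, true)]),
  (1999, [(5374, true), (1627, true)]),
  (5349, [(5374, true), (3478, true)]),
  (1479, [(5374, true), (4513, true)]),
  (3761, [(5374, true), (1733, true)]),
  (5461, [(5374, true), (3245, true)]),
  (1830, [(5374, true), (2033, true)]),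
  (5541, [(5374, true), (2202, true)]),
  (5783, [(5374, true), (3451, true)]),
  (4591, [(5374, true), (2462, true)]),
  (1039, [(5374, true)]),
  (3752, [(2215, true), (1899, true)]),
  (909, [(2215, true), (251, true)]),
  (3027, [(2215, true), (1627, true)]),
  (1374, [(2215, true), (2131, true)]),
  (947, [(2215, true), (3588, true)]),
  (5714, [(2215, true), (4251, true)]),
  (44, [(2215, true), (5792, true)]),
  (704, [(2215, true), (1020, true)]),
  (3442, [(2215, true), (2969, true), (1455, true)]),
  (4748, [(2215, true), (2969, true)]),
  (5478, [(2215, true)]),
  (2178, [(1899, true), (665, true)]),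
  (5288, [(1899, true), (2131, true)]),
  (5135, [(1899, true), (4513, true)]),
  (4597, [(1899, true), (3013, true)]),
  (4780, [(1899, true), (480, true)]),
  (4775, [(1899, true), (666, true)]),
  (3743, [(1899, true), (1373, true), (930, true)]),
  (4143, [(1899, true), (1373, true)]),
  (5257, [(1899, true), (1002, true)]),
  (4752, [(1899, true), (1628, true)]),
  (3846, [(1899, true)]),
  (1495, [(251, true), (3197, true)]),
  (2412, [(251, true), (1637, true)]),
  (2676, [(251, true), (4633, true)]),
  (4869, [(251, true), (1084, true)]),
  (79, [(251, true), (5190, true)]),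
  (3296, [(251, true), (37, true), (1927, true)]),
  (499, [(251, true), (37, true)]),
  (3231, [(251, true), (1020, true), (2813, true)]),
  (5741, [(251, true), (1020, true)]),
  (4544, [(251, true), (1671, true)]),
  (4502, [(251, true), (1487, true)]),
  (4572, [(251, true), (1816, true)]),
  (5578, [(251, true)]),
  (4551, [(1627, true), (3998, true)]),
  (4078, [(1627, true), (4633, true)]),
  (1535, [(1627, true), (6124, true)]),
  (5798, [(1627, true), (1084, true)]),
  (5692, [(1627, true), (3588, true)]),
  (3453, [(1627, true), (480, true)]),
  (5777, [(1627, true)]),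
  (3152, [(3998, true), (1084, true)]),
  (1803, [(3998, true), (2201, true)]),
  (4347, [(3998, true), (5792, true)]),
  (2691, [(3998, true), (2847, true)]),
  (5740, [(3998, true), (2735, true), (5395, true)]),
  (379, [(3998, true), (2735, true)]),
  (1202, [(3998, true), (5824, true)]),
  (3923, [(3998, true), (3246, true)]),
  (297, [(3998, true)]),
  (1654, [(3197, true), (3958, true)]),
  (3233, [(3197, true), (1187, true)]),
  (2066, [(3197, true), (2131, true)]),
  (2465, [(3197, true), (4513, true)]),
  (4702, [(3197, true), (1084, true)]),
  (4768, [(3197, true), (28, true)]),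
  (4235, [(3197, true), (6057, true), (1927, true)]),
  (543, [(3197, true), (6057, true)]),
  (3860, [(3197, true), (4192, true)]),
  (2367, [(3197, true), (1373, true)]),
  (3045, [(3197, true), (4010, true)]),
  (5120, [(3197, true)]),
  (1236, [(3958, true), (1187, true)]),
  (289, [(3958, true), (4633, true)]),
  (1353, [(3958, true), (3478, true)]),
  (1797, [(3958, true), (665, true)]),
  (3831, [(3958, true), (4513, true)]),
  (2714, [(3958, true), (1733, true)]),
  (5715, [(3958, true), (1084, true)]),
  (5412, [(3958, true), (4251, true)]),
  (4057, [(3958, true), (227, true)]),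
  (1673, [(3958, true), (5190, true)]),
  (4652, [(3958, true), (2707, true)]),
  (287, [(3958, true), (480, true)]),
  (3906, [(3958, true), (2969, true)]),
  (4631, [(3958, true), (4002, true)]),
  (3848, [(3958, true), (4713, true)]),
  (4151, [(3958, true), (1487, true)]),
  (805, [(3958, true), (103, true)]),
  (569, [(3958, true), (5786, true)]),
  (5150, [(3958, true), (36, true)]),
  (5356, [(3958, true), (1021, true)]),
  (3275, [(3958, true)]),
  (335, [(5601, true), (1187, true)]),
  (1554, [(5601, true), (6124, true)]),
  (376, [(5601, true), (2131, true)]),
  (6149, [(5601, true), (3245, true)]),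
  (5047, [(5601, true), (558, true)]),
  (347, [(5601, true), (974, true)]),
  (5474, [(5601, true), (5427, true)]),
  (2111, [(5601, true)]),
  (3913, [(4167, true), (1733, true)]),
  (5441, [(4167, true), (558, true)]),
  (4797, [(4167, true), (37, true)]),
  (310, [(4167, true), (480, true)]),
  (4331, [(4167, true), (3934, true)]),
  (3158, [(4167, true), (1961, true)]),
  (1082, [(4167, true), (6057, true)]),
  (186, [(4167, true), (4192, true)]),
  (5551, [(4167, true), (2735, true)]),
  (1060, [(4167, true), (2723, true)])]

def steps38 : List (ℕ × List (ℕ × Bool)) := [(81, [(4167, true)]),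
  (5604, [(4317, true), (2661, true)]),
  (4600, [(4317, true), (5792, true)]),
  (3389, [(4317, true), (1020, true)]),
  (1056, [(4317, true), (4713, true)]),
  (949, [(4317, true), (3451, true)]),
  (1036, [(4317, true), (4388, true)]),
  (172, [(4317, true), (4558, true)]),
  (1731, [(4317, true), (1248, true)]),
  (196, [(4317, true), (1550, true)]),
  (5213, [(4317, true)]),
  (3689, [(1187, true), (1637, true)]),
  (1854, [(1187, true), (6124, true)]),
  (4851, [(1187, true), (227, true), (4558, true)]),
  (3803, [(1187, true), (227, true)]),
  (3549, [(1187, true), (1020, true)]),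
  (3011, [(1187, true), (3934, true)]),
  (2531, [(1187, true), (5228, true)]),
  (1040, [(1187, true), (5543, true)]),
  (2730, [(1187, true)]),
  (385, [(1637, true), (4633, true)]),
  (5403, [(1637, true), (3588, true)]),
  (5408, [(1637, true), (2202, true)]),
  (5538, [(1637, true), (1961, true)]),
  (5849, [(1637, true), (6057, true)]),
  (4694, [(1637, true), (930, true)]),
  (3795, [(1637, true), (2240, true)]),
  (92, [(1637, true)]),
  (4995, [(2986, true), (1733, true)]),
  (787, [(2986, true), (558, true), (4010, true)]),
  (3413, [(2986, true), (558, true)]),
  (5940, [(2986, true), (4251, true)]),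
  (3893, [(2986, true), (2201, true)]),
  (5909, [(2986, true), (5190, true)]),
  (5099, [(2986, true), (5792, true)]),
  (6154, [(2986, true), (2969, true)]),
  (1751, [(2986, true), (5233, true)]),
  (663, [(2986, true)]),
  (5001, [(4633, true), (1733, true)]),
  (4643, [(4633, true), (4251, true)]),
  (973, [(4633, true), (1020, true)]),
  (6059, [(4633, true), (1961, true)]),
  (1061, [(4633, true), (118, true)]),
  (2265, [(4633, true), (3042, true)]),
  (858, [(4633, true), (2813, true)]),
  (5238, [(4633, true)]),
  (1984, [(3478, true), (665, true)]),
  (686, [(3478, true), (1733, true)]),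
  (4678, [(3478, true), (5792, true), (726, true)]),
  (3722, [(3478, true), (5792, true)]),
  (2810, [(3478, true), (2202, true)]),
  (894, [(3478, true), (4192, true)]),
  (4105, [(3478, true), (1671, true)]),
  (4955, [(3478, true), (5395, true)]),
  (2336, [(3478, true), (4386, true)]),
  (4681, [(3478, true)]),
  (2966, [(2661, true), (6124, true)]),
  (1750, [(2661, true), (3245, true)]),
  (2010, [(2661, true), (227, true)]),
  (4048, [(2661, true), (2969, true)]),
  (194, [(2661, true), (1927, true)]),
  (5432, [(2661, true), (1641, true)]),
  (5641, [(2661, true), (1884, true)]),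
  (4096, [(2661, true), (4183, true)]),
  (581, [(2661, true)]),
  (2590, [(665, true), (1733, true)]),
  (1622, [(665, true), (3245, true)]),
  (4472, [(665, true), (1084, true)]),
  (3179, [(665, true), (4251, true)]),
  (1933, [(665, true), (28, true)]),
  (1010, [(665, true), (2928, true)]),
  (2343, [(665, true)]),
  (5984, [(6124, true), (2131, true)]),
  (920, [(6124, true), (28, true), (1927, true)]),
  (4422, [(6124, true), (28, true)]),
  (1546, [(6124, true), (1927, true)]),
  (3850, [(6124, true), (2847, true)]),
  (2400, [(6124, true), (1487, true)]),
  (2872, [(6124, true), (103, true)]),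
  (3312, [(6124, true), (4558, true)]),
  (4960, [(6124, true), (1816, true)]),
  (4742, [(6124, true)]),
  (3740, [(2131, true), (227, true)]),
  (5760, [(2131, true), (2707, true)]),
  (2014, [(2131, true), (2033, true)]),
  (5737, [(2131, true), (4713, true)]),
  (3373, [(2131, true), (1671, true)]),
  (1030, [(2131, true), (2847, true)]),
  (3263, [(2131, true), (1373, true)]),
  (125, [(2131, true), (3390, true)]),
  (2145, [(2131, true), (570, true)]),
  (5731, [(2131, true), (5228, true)]),
  (3887, [(2131, true), (5522, true)]),
  (5930, [(2131, true), (4242, true)]),
  (2067, [(2131, true)]),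
  (936, [(4513, true), (3934, true)]),
  (4500, [(4513, true), (1961, true), (2735, true)]),
  (4557, [(4513, true), (1961, true)]),
  (3611, [(4513, true), (1927, true), (4924, true)]),
  (3254, [(4513, true), (1927, true)]),
  (269, [(4513, true), (3468, true)]),
  (3142, [(4513, true), (521, true)]),
  (3364, [(4513, true), (5395, true)]),
  (1836, [(4513, true), (2060, true)]),
  (574, [(4513, true), (2120, true)]),
  (2166, [(4513, true)]),
  (3387, [(1733, true), (2201, true)]),
  (3745, [(1733, true), (37, true)]),
  (54, [(1733, true), (4002, true)]),
  (1763, [(1733, true), (2202, true)]),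
  (2628, [(1733, true), (1961, true)]),
  (3014, [(1733, true), (1487, true)]),
  (2393, [(1733, true), (103, true)]),
  (1177, [(1733, true), (5824, true)]),
  (3029, [(1733, true), (974, true)]),
  (4318, [(1733, true), (649, true)]),
  (466, [(1733, true), (3822, true)]),
  (4171, [(1733, true)]),
  (1682, [(3245, true), (558, true), (1373, true)]),
  (5157, [(3245, true), (558, true)]),
  (5100, [(3245, true), (4251, true)]),
  (5468, [(3245, true), (28, true), (1002, true)]),
  (4497, [(3245, true), (28, true)]),
  (2414, [(3245, true), (5190, true)]),
  (3217, [(3245, true), (1927, true)]),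
  (3883, [(3245, true), (4192, true)]),
  (4334, [(3245, true), (3451, true)]),
  (4254, [(3245, true), (3390, true)]),
  (102, [(3245, true), (570, true)]),
  (5687, [(3245, true), (5786, true)]),
  (2974, [(3245, true)]),
  (4339, [(1084, true), (4251, true), (4195, true)]),
  (411, [(1084, true), (4251, true)]),
  (5515, [(1084, true), (28, true)]),
  (5617, [(1084, true), (2201, true)]),
  (4648, [(1084, true), (4002, true)]),
  (5013, [(1084, true), (2847, true)]),
  (3093, [(1084, true), (5824, true)]),
  (3548, [(1084, true), (716, true)]),
  (3591, [(1084, true)]),
  (3983, [(3588, true), (6057, true)]),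
  (839, [(3588, true), (1487, true)]),
  (4451, [(3588, true), (2813, true)]),
  (1125, [(3588, true)]),
  (3980, [(558, true), (1961, true)]),
  (5264, [(558, true), (6057, true)]),
  (3823, [(558, true), (1671, true)]),
  (6061, [(558, true), (3451, true)]),
  (1909, [(558, true), (5543, true)]),
  (5943, [(558, true)])]

def steps39 : List (ℕ × List (ℕ × Bool)) := [(1209, [(3013, true), (4251, true)]),
  (5779, [(3013, true), (2201, true)]),
  (3181, [(3013, true), (2202, true)]),
  (1024, [(3013, true), (1961, true)]),
  (5419, [(3013, true), (4192, true)]),
  (5787, [(3013, true), (1016, true)]),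
  (3801, [(3013, true)]),
  (5830, [(4251, true), (3934, true)]),
  (540, [(4251, true), (2202, true)]),
  (2575, [(4251, true), (6057, true)]),
  (1266, [(4251, true), (974, true)]),
  (3444, [(4251, true), (2060, true)]),
  (5173, [(4251, true), (1021, true)]),
  (5428, [(4251, true)]),
  (2690, [(227, true), (5190, true)]),
  (1768, [(227, true), (1927, true)]),
  (545, [(227, true), (4192, true)]),
  (2803, [(227, true), (666, true)]),
  (3646, [(227, true), (1816, true)]),
  (3223, [(227, true), (36, true)]),
  (5766, [(227, true)]),
  (5826, [(28, true), (5632, true)]),
  (5302, [(28, true), (4108, true)]),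
  (2579, [(28, true), (930, true)]),
  (2515, [(28, true), (5228, true)]),
  (2441, [(28, true), (4558, true)]),
  (1349, [(28, true), (5233, true)]),
  (1207, [(28, true)]),
  (3568, [(2201, true), (4002, true)]),
  (5290, [(2201, true), (521, true)]),
  (1451, [(2201, true), (4108, true), (1958, true)]),
  (3261, [(2201, true), (4108, true)]),
  (5242, [(2201, true), (3583, true)]),
  (641, [(2201, true)]),
  (3393, [(5190, true), (2969, true)]),
  (2220, [(5190, true), (782, true), (2060, true)]),
  (4170, [(5190, true), (782, true)]),
  (1109, [(5190, true), (2120, true)]),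
  (454, [(5190, true), (1248, true)]),
  (500, [(5190, true)]),
  (5627, [(5792, true), (37, true)]),
  (3732, [(5792, true)]),
  (2183, [(2707, true), (2033, true)]),
  (2375, [(2707, true), (103, true)]),
  (5293, [(2707, true), (2735, true)]),
  (392, [(2707, true), (4108, true)]),
  (1988, [(2707, true), (5769, true)]),
  (1043, [(2707, true)]),
  (5917, [(2033, true), (1020, true)]),
  (1588, [(2033, true), (1961, true)]),
  (734, [(2033, true), (4192, true)]),
  (6145, [(2033, true), (4386, true)]),
  (1167, [(2033, true), (3246, true)]),
  (3744, [(2033, true)]),
  (718, [(37, true), (2202, true)]),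
  (2050, [(37, true), (2847, true)]),
  (1290, [(37, true), (1013, true)]),
  (416, [(37, true), (13, true)]),
  (2351, [(37, true)]),
  (4193, [(480, true), (6057, true)]),
  (5022, [(480, true), (666, true), (1016, true)]),
  (2179, [(480, true), (666, true)]),
  (2246, [(480, true), (5632, true)]),
  (4366, [(480, true), (2735, true)]),
  (5610, [(480, true), (716, true)]),
  (1296, [(480, true)]),
  (1522, [(1020, true), (2969, true)]),
  (1777, [(1020, true), (2202, true)]),
  (815, [(1020, true), (6057, true)]),
  (5735, [(1020, true), (1373, true)]),
  (2267, [(1020, true), (5786, true)]),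
  (3165, [(1020, true)]),
  (4140, [(2969, true), (666, true)]),
  (1780, [(2969, true), (5824, true)]),
  (5591, [(2969, true)]),
  (2829, [(4002, true), (2735, true)]),
  (6004, [(4002, true), (1884, true)]),
  (1461, [(4002, true), (3822, true)]),
  (3625, [(4002, true)]),
  (2988, [(3934, true), (5632, true), (1455, true)]),
  (1408, [(3934, true), (5632, true)]),
  (5393, [(3934, true), (570, true)]),
  (5451, [(3934, true)]),
  (2195, [(4713, true), (1927, true)]),
  (4943, [(4713, true), (4380, true)]),
  (2595, [(4713, true), (4242, true)]),
  (1758, [(4713, true)]),
  (2978, [(2202, true), (2847, true)]),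
  (4125, [(2202, true), (1373, true)]),
  (2671, [(2202, true), (2735, true), (2723, true)]),
  (2022, [(2202, true), (2735, true)]),
  (2705, [(2202, true), (4924, true)]),
  (4917, [(2202, true), (1013, true)]),
  (5375, [(2202, true)]),
  (5887, [(1961, true), (5522, true)]),
  (2793, [(1961, true), (2928, true)]),
  (2344, [(1961, true)]),
  (5980, [(6057, true), (1487, true)]),
  (3930, [(6057, true), (5395, true)]),
  (577, [(6057, true), (4380, true)]),
  (1613, [(6057, true), (1013, true)]),
  (3825, [(6057, true), (36, true)]),
  (3705, [(6057, true), (551, true)]),
  (820, [(6057, true)]),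
  (1614, [(1927, true), (2573, true)]),
  (1205, [(1927, true), (5233, true)]),
  (1542, [(1927, true)]),
  (5382, [(4192, true), (3451, true)]),
  (6045, [(4192, true), (930, true)]),
  (5997, [(4192, true), (4924, true)]),
  (3581, [(4192, true), (4664, true)]),
  (5262, [(4192, true), (1248, true)]),
  (646, [(4192, true), (1878, true)]),
  (5575, [(4192, true)]),
  (3286, [(1671, true), (666, true)]),
  (4132, [(1671, true), (1373, true), (4010, true)]),
  (1089, [(1671, true), (1373, true)]),
  (2624, [(1671, true), (2735, true)]),
  (4918, [(1671, true), (4380, true)]),
  (404, [(1671, true), (4664, true)]),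
  (4846, [(1671, true)]),
  (562, [(666, true), (2120, true)]),
  (3146, [(666, true)]),
  (5680, [(3468, true)]),
  (1913, [(2847, true), (4528, true)]),
  (184, [(2847, true)]),
  (3115, [(5632, true)]),
  (2985, [(1487, true), (4195, true)]),
  (4392, [(1487, true), (3173, true)]),
  (1858, [(1487, true)]),
  (5776, [(3451, true), (570, true)]),
  (1698, [(3451, true), (13, true)]),
  (2583, [(3451, true)]),
  (1059, [(4388, true), (391, true)]),
  (922, [(4388, true)]),
  (2415, [(103, true), (1958, true)]),
  (1947, [(103, true)]),
  (3855, [(1373, true), (716, true)]),
  (2627, [(1373, true), (1248, true)]),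
  (3518, [(1373, true), (5233, true)]),
  (320, [(1373, true)]),
  (359, [(521, true), (782, true)]),
  (5851, [(521, true), (5228, true)]),
  (4305, [(521, true), (6052, true)]),
  (3774, [(521, true)]),
  (4035, [(2735, true), (2060, true)]),
  (5418, [(2735, true), (36, true)]),
  (5016, [(2735, true), (2928, true)]),
  (1863, [(2735, true)]),
  (880, [(782, true), (974, true)])]

def steps40 : List (ℕ × List (ℕ × Bool)) := [(2588, [(782, true), (3583, true)]),
  (2273, [(782, true)]),
  (4134, [(4108, true), (1021, true)]),
  (4773, [(4108, true)]),
  (3790, [(118, true), (4664, true)]),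
  (5493, [(118, true)]),
  (2229, [(930, true), (4924, true)]),
  (674, [(930, true), (5303, true)]),
  (2292, [(930, true)]),
  (1883, [(3390, true), (1550, true)]),
  (1273, [(3390, true)]),
  (2907, [(1641, true), (1013, true)]),
  (1403, [(1641, true)]),
  (1732, [(5395, true), (4380, true)]),
  (1127, [(5395, true), (4242, true)]),
  (2037, [(5395, true)]),
  (5021, [(1002, true), (570, true)]),
  (4926, [(1002, true), (4242, true)]),
  (2316, [(1002, true)]),
  (5435, [(4195, true), (5824, true)]),
  (70, [(4195, true), (3822, true)]),
  (754, [(4195, true)]),
  (489, [(5824, true), (5303, true)]),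
  (1313, [(5824, true)]),
  (2663, [(570, true), (4691, true)]),
  (1003, [(570, true)]),
  (2237, [(974, true), (2825, true)]),
  (4718, [(974, true), (5055, true)]),
  (3576, [(974, true), (2059, true)]),
  (4226, [(974, true)]),
  (951, [(5786, true)]),
  (4739, [(5228, true), (3199, true)]),
  (4817, [(5228, true), (5964, true)]),
  (4873, [(5228, true), (1628, true)]),
  (2147, [(5228, true)]),
  (2855, [(716, true)]),
  (5386, [(1884, true), (3042, true)]),
  (5291, [(1884, true), (5522, true)]),
  (1299, [(1884, true), (2462, true)]),
  (3394, [(1884, true)]),
  (2664, [(3042, true), (2573, true)]),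
  (3821, [(3042, true), (1816, true)]),
  (5751, [(3042, true)]),
  (6048, [(4558, true)]),
  (5134, [(2060, true)]),
  (2947, [(4380, true), (4528, true)]),
  (3982, [(4380, true), (649, true)]),
  (3892, [(4380, true)]),
  (47, [(4924, true), (4854, true)]),
  (5878, [(4924, true), (2120, true)]),
  (26, [(4924, true)]),
  (4593, [(4528, true), (5233, true)]),
  (2268, [(4528, true)]),
  (2630, [(5522, true)]),
  (3119, [(649, true)]),
  (1973, [(2462, true), (1021, true)]),
  (5651, [(2462, true)]),
  (2957, [(4854, true)]),
  (5801, [(2573, true)]),
  (5547, [(2120, true), (2928, true)]),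
  (1560, [(2120, true)]),
  (1066, [(1816, true), (1550, true)]),
  (2104, [(1816, true)]),
  (3525, [(2240, true), (1013, true)]),
  (2018, [(2240, true)]),
  (3281, [(4386, true), (4664, true)]),
  (17, [(4386, true)]),
  (170, [(4664, true)]),
  (2748, [(1013, true)]),
  (6065, [(5303, true), (4691, true)]),
  (1647, [(5303, true), (551, true)]),
  (5108, [(5303, true)]),
  (2701, [(4691, true), (2423, true)]),
  (2205, [(4691, true)]),
  (1930, [(1248, true), (2825, true)]),
  (5005, [(1248, true), (4883, true)]),
  (2658, [(1248, true), (4245, true)]),
  (4307, [(1248, true)]),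
  (5445, [(36, true), (5089, true)]),
  (3054, [(36, true), (3199, true)]),
  (3112, [(36, true), (3968, true)]),
  (2566, [(36, true)]),
  (2356, [(4242, true), (5543, true)]),
  (4404, [(4242, true)]),
  (3392, [(3822, true), (3583, true)]),
  (3116, [(3822, true)]),
  (3648, [(551, true)]),
  (2754, [(5543, true)]),
  (5162, [(3583, true)]),
  (4676, [(2423, true)]),
  (4092, [(5427, true)]),
  (3739, [(6052, true)]),
  (1489, [(1878, true)]),
  (2290, [(1578, true)]),
  (3733, [(5226, true), (683, true)]),
  (1335, [(5226, true)]),
  (5011, [(3196, true), (4245, true)]),
  (3236, [(3196, true)]),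
  (1275, [(4065, true)]),
  (4139, [(2825, true)]),
  (4998, [(5055, true), (5964, true)]),
  (1466, [(5055, true), (3514, true)]),
  (4415, [(5055, true)]),
  (2724, [(5089, true), (4883, true)]),
  (4788, [(5089, true)]),
  (5224, [(4883, true)]),
  (797, [(1503, true)]),
  (5756, [(3199, true)]),
  (5268, [(5964, true), (789, true)]),
  (5616, [(5964, true)]),
  (4522, [(1455, true)]),
  (3778, [(3101, true)]),
  (4265, [(5950, true), (3232, true)]),
  (2845, [(5950, true)]),
  (2582, [(3949, true)]),
  (2961, [(1696, true), (6043, true)]),
  (553, [(1696, true)]),
  (4747, [(2681, true)]),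
  (5576, [(587, true)]),
  (2411, [(5473, true)]),
  (5275, [(728, true)]),
  (3672, [(960, true)]),
  (6106, [(4941, true)]),
  (5928, [(5752, true)]),
  (3143, [(3619, true)]),
  (510, [(1957, true)]),
  (3214, [(4245, true), (3968, true)]),
  (753, [(4245, true)]),
  (1104, [(2437, true)]),
  (4401, [(1628, true)]),
  (425, [(3512, true)]),
  (309, [(2567, true)]),
  (3216, [(799, true)]),
  (3066, [(5769, true)]),
  (3151, [(3634, true)]),
  (4893, [(5888, true)]),
  (3692, [(5103, true)]),
  (4427, [(1618, true)]),
  (2359, [(378, true)]),
  (3871, [(5991, true)]),
  (2784, [(1318, true)]),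
  (4498, [(779, true)]),
  (1165, [(2460, true)]),
  (3009, [(4098, true)]),
  (5318, [(3483, true)]),
  (3471, [(1247, true)]),
  (2875, [(3359, true)]),
  (1380, [(5615, true)]),
  (49, [(5030, true)]),
  (3652, [(6035, true)])]

def steps41 : List (ℕ × List (ℕ × Bool)) := [(739, [(4527, true)]),
  (1115, [])]

/-- every point in turn -/
def steps : List (ℕ × List (ℕ × Bool)) :=
  [steps0, steps1, steps2, steps3, steps4, steps5, steps6, steps7, steps8, steps9, steps10, steps11, steps12, steps13, steps14, steps15, steps16, steps17, steps18, steps19, steps20, steps21, steps22, steps23, steps24, steps25, steps26, steps27, steps28, steps29, steps30, steps31, steps32, steps33, steps34, steps35, steps36, steps37, steps38, steps39, steps40, steps41].flatten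

end Cfsg.Agent.RigidGraph.J3
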