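import Cfsg.Agent.Lib.RigidGraph.J3.Cert
import Cfsg.Agent.Lib.RigidGraph.J3.Prop
import Cfsg.Agent.Lib.RigidGraph.Chunked

/-! Rigidity on the base. -/

set_option autoImplicit false
set_option maxRecDepth 100000
set_option Elab.async false

namespace Cfsg.Agent.RigidGraph.J3

theorem prop_ok : propOK graph 6156 ([0, 3, 63, 4751].foldl ins 0) steps = true := by decide +kernel

end Cfsg.Agent.RigidGraph.J3
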