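import Cfsg.Agent.Lib.RigidGraph.J3.ChecksGap
import Cfsg.Agent.Lib.RigidGraph.J3.Cover
import Cfsg.Agent.Lib.RigidGraph.J3.GraphRows0
import Cfsg.Agent.Lib.RigidGraph.J3.GraphRows1
import Cfsg.Agent.Lib.RigidGraph.J3.GraphRows2
import Cfsg.Agent.Lib.RigidGraph.J3.Even0_0
import Cfsg.Agent.Lib.RigidGraph.J3.Even0_1
import Cfsg.Agent.Lib.RigidGraph.J3.Even0_2
import Cfsg.Agent.Lib.RigidGraph.J3.Even1_0
import Cfsg.Agent.Lib.RigidGraph.J3.Even1_1
import Cfsg.Agent.Lib.RigidGraph.J3.Even1_2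
import Cfsg.Agent.Lib.RigidGraph.J3.Orientation
import Cfsg.Agent.Lib.RigidGraph.J3.Rigid
import Cfsg.Agent.Lib.RigidGraph.J3.Copied
import Cfsg.Agent.Lib.RigidGraph.J3.Perm0
import Cfsg.Agent.Lib.RigidGraph.J3.Perm1
import Cfsg.Agent.Lib.RigidGraph.J3.Perm2
import Cfsg.Agent.Lib.RigidGraph.J3.Perm3
import Cfsg.Agent.Lib.RigidGraph.J3.Perm4
import Cfsg.Agent.Lib.RigidGraph.J3.Perm5
import Cfsg.Agent.Lib.RigidGraph.J3.Perm6
import Cfsg.Agent.Lib.RigidGraph.J3.Mul0
import Cfsg.Agent.Lib.RigidGraph.J3.Mul1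
import Cfsg.Agent.Lib.RigidGraph.J3.Mul2
import Cfsg.Agent.Lib.RigidGraph.J3.Mul3
import Cfsg.Agent.Lib.RigidGraph.J3.Mul4
import Cfsg.Agent.Lib.RigidGraph.J3.Mul5
import Cfsg.Agent.Lib.RigidGraph.J3.Mul6
import Cfsg.Prelude.Def_Sporadic

/-! The group on 6156 points: simple of order 50232960. -/

set_option autoImplicit false
set_option maxRecDepth 100000

namespace Cfsg.Agent.RigidGraph.J3

attribute [local irreducible] rowsB rowsN rowsO nodes prog levels cover graph copy0 copy1 copyO roots0 roots1 outer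
  outerRoot steps

theorem graph_ok : graphOK 6156 graph = true := by
  refine graphOK_of_rows ?_
  intro x hx
  rcases (show x < 2052 ∨ (2052 ≤ x ∧ x < 4104) ∨ 4104 ≤ x by omega) with h | h | h
  · exact rangeB_spec graph0_ok (Nat.zero_le x) (show x < 0 + 2052 by omega)
  · exact rangeB_spec graph1_ok h.1 (show x < 2052 + 2052 by omega)
  · exact rangeB_spec graph2_ok h (show x < 4104 + 2052 by omega)

theorem mul_all : ∀ j < 137, (Nat.blt ((prog.getD j (0, 0)).1 / 2) (j + 2) && Nat.blt ((prog.getD j (0, 0)).2 / 2) (j + 2) &&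
    mulOK 6156 (nodes.getD (j + 2) (0, 0)) (getN nodes (prog.getD j (0, 0)).1) (getN nodes (prog.getD j (0, 0)).2)) = true := by
  intro j hj
  rcases (show (0 ≤ j ∧ j < 20) ∨ (20 ≤ j ∧ j < 40) ∨ (40 ≤ j ∧ j < 60) ∨ (60 ≤ j ∧ j < 80) ∨ (80 ≤ j ∧ j < 100) ∨ (100 ≤ j ∧ j < 120) ∨ (120 ≤ j ∧ j < 137) by omega) with h | h | h | h | h | h | h
  · exact List.all_eq_true.1 mul0_ok j (List.mem_range'_1.2 (by omega))
  · exact List.all_eq_true.1 mul1_ok j (List.mem_range'_1.2 (by omega))
  · exact List.all_eq_true.1 mul2_ok j (List.mem_range'_1.2 (by omega))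
  · exact List.all_eq_true.1 mul3_ok j (List.mem_range'_1.2 (by omega))
  · exact List.all_eq_true.1 mul4_ok j (List.mem_range'_1.2 (by omega))
  · exact List.all_eq_true.1 mul5_ok j (List.mem_range'_1.2 (by omega))
  · exact List.all_eq_true.1 mul6_ok j (List.mem_range'_1.2 (by omega))

theorem lengths : nodes.length = 139 ∧ prog.length = 137 := by
  unfold nodes prog
  exact ⟨rfl, rfl⟩

theorem perm_all : nodes.all (permOK 6156) = true := by
  unfold nodes
  simp only [List.all_append, perm0_ok, perm1_ok, perm2_ok, perm3_ok, perm4_ok, perm5_ok, perm6_ok, Bool.and_true]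

theorem slp_ok : slpOK 6156 nodes prog = true := by
  rw [slpOK, perm_all, lengths.1, lengths.2, Bool.and_eq_true, Bool.and_eq_true]
  exact ⟨⟨rfl, rfl⟩, allB_of_forall mul_all⟩

theorem node_lt : 0 < nodes.length ∧ 1 < nodes.length := by
  rw [lengths.1]; exact ⟨by norm_num, by norm_num⟩

theorem gen_perm : permOK 6156 (nodes.getD 0 (0, 0)) = true ∧ permOK 6156 (nodes.getD 1 (0, 0)) = true :=
  ⟨node_ok slp_ok node_lt.1, node_ok slp_ok node_lt.2⟩

/-- The group. -/
noncomputable def j3Group : Subgroup (Equiv.Perm (Fin 6156)) := grp 6156 nodes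

theorem gen0_aut : permOf 6156 (nodes.getD 0 (0, 0)) ∈ autG 6156 graph := by
  refine autT_mem graph_ok gen_perm.1 copy0_ok ?_
  intro x hx
  rcases (show x < 2052 ∨ (2052 ≤ x ∧ x < 4104) ∨ 4104 ≤ x by omega) with h | h | h
  · exact rangeB_spec aut0_0_ok (Nat.zero_le x) (show x < 0 + 2052 by omega)
  · exact rangeB_spec aut0_1_ok h.1 (show x < 2052 + 2052 by omega)
  · exact rangeB_spec aut0_2_ok h (show x < 4104 + 2052 by omega)

theorem gen1_aut : permOf 6156 (nodes.getD 1 (0, 0)) ∈ autG 6156 graph := by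
  refine autT_mem graph_ok gen_perm.2 copy1_ok ?_
  intro x hx
  rcases (show x < 2052 ∨ (2052 ≤ x ∧ x < 4104) ∨ 4104 ≤ x by omega) with h | h | h
  · exact rangeB_spec aut1_0_ok (Nat.zero_le x) (show x < 0 + 2052 by omega)
  · exact rangeB_spec aut1_1_ok h.1 (show x < 2052 + 2052 by omega)
  · exact rangeB_spec aut1_2_ok h (show x < 4104 + 2052 by omega)

theorem outer_aut : permOf 6156 outer ∈ autG 6156 graph := by
  refine autT_mem graph_ok outer_perm copyO_ok ?_
  intro x hx
  rcases (show x < 2052 ∨ (2052 ≤ x ∧ x < 4104) ∨ 4104 ≤ x by omega) with h | h | h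
  · exact rangeB_spec autO_0_ok (Nat.zero_le x) (show x < 0 + 2052 by omega)
  · exact rangeB_spec autO_1_ok h.1 (show x < 2052 + 2052 by omega)
  · exact rangeB_spec autO_2_ok h (show x < 4104 + 2052 by omega)

theorem row_bound : ∀ x < 6156, ∀ j < 85, slot (rowsO.get x) j < 6156 := (rowsDistinct_spec rows_ok).1

theorem gen0_even : permOf 6156 (nodes.getD 0 (0, 0)) ∈ evenLoc (row 6156 85 rowsO row_bound) := by
  refine evenOK_mem rows_ok row_bound gen_perm.1 (R := roots0) (evenOK_of_T rows_ok copy0_ok ?_)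
  intro x hx
  rcases (show x < 2052 ∨ (2052 ≤ x ∧ x < 4104) ∨ 4104 ≤ x by omega) with h | h | h
  · exact rangeB_spec even0_0_ok (Nat.zero_le x) (show x < 0 + 2052 by omega)
  · exact rangeB_spec even0_1_ok h.1 (show x < 2052 + 2052 by omega)
  · exact rangeB_spec even0_2_ok h (show x < 4104 + 2052 by omega)

theorem gen1_even : permOf 6156 (nodes.getD 1 (0, 0)) ∈ evenLoc (row 6156 85 rowsO row_bound) := by
  refine evenOK_mem rows_ok row_bound gen_perm.2 (R := roots1) (evenOK_of_T rows_ok copy1_ok ?_)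
  intro x hx
  rcases (show x < 2052 ∨ (2052 ≤ x ∧ x < 4104) ∨ 4104 ≤ x by omega) with h | h | h
  · exact rangeB_spec even1_0_ok (Nat.zero_le x) (show x < 0 + 2052 by omega)
  · exact rangeB_spec even1_1_ok h.1 (show x < 2052 + 2052 by omega)
  · exact rangeB_spec even1_2_ok h (show x < 4104 + 2052 by omega)

theorem outer_odd : permOf 6156 outer ∉ evenLoc (row 6156 85 rowsO row_bound) :=
  oddOK_not_mem rows_ok row_bound (by norm_num) outer_perm odd_ok

theorem levels_shape : gapLevels.map (·.1.t) = [0, 3, 63, 4751] ∧ gapLevels.map (·.1.k) = [6156, 120, 34, 2] ∧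
    gapLevels.map (·.2) = [6156, 120, 68, 2] := by
  unfold gapLevels levels
  exact ⟨rfl, rfl, rfl⟩

theorem card_autG_le : Nat.card ↥(autG 6156 graph) ≤ 100465920 := by
  have h := (gap_card graph_ok slp_ok gapLevels [] gap_ok (by simp)).1
  rw [List.nil_append, fixList_nil, inf_top_eq, levels_shape.1, levels_shape.2.2,
    fix_eq_bot_prop (by decide) prop_ok, Subgroup.card_bot] at h
  exact h.trans (by norm_num)

theorem le_card_j3Group : 50232960 ≤ Nat.card ↥j3Group := by
  have h := (gap_card graph_ok slp_ok gapLevels [] gap_ok (by simp)).2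
  rw [fixList_nil, inf_top_eq, levels_shape.2.1] at h
  exact le_trans (by norm_num) h

theorem j3Group_lt : j3Group < autG 6156 graph := by
  have hle : j3Group ≤ autG 6156 graph ⊓ evenLoc (row 6156 85 rowsO row_bound) := by
    rw [j3Group, grp, Subgroup.closure_le, Set.insert_subset_iff, Set.singleton_subset_iff]
    exact ⟨⟨gen0_aut, gen0_even⟩, ⟨gen1_aut, gen1_even⟩⟩
  refine lt_of_le_of_ne (hle.trans inf_le_left) fun e => outer_odd ?_
  exact (hle (e ▸ outer_aut)).2

theorem card_j3Group : Nat.card ↥j3Group = 50232960 := by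
  obtain ⟨q, hq⟩ := Subgroup.card_dvd_of_le j3Group_lt.le
  have hne : q ≠ 1 := fun e => j3Group_lt.ne (Subgroup.eq_of_le_of_card_ge j3Group_lt.le (by rw [hq, e, mul_one]))
  have h1 := card_autG_le
  have h2 := le_card_j3Group
  have hpos : 0 < Nat.card ↥(autG 6156 graph) := Nat.card_pos
  rcases q with _ | _ | q
  · omega
  · exact absurd rfl hne
  · rw [hq] at h1
    nlinarith

theorem levels_cons : ∃ L Ls, gapLevels = (L, 6156) :: Ls ∧ L.k = 6156 := by
  unfold gapLevels levels
  exact ⟨_, _, rfl, rfl⟩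

instance pretransitive_j3Group : MulAction.IsPretransitive ↥j3Group (Fin 6156) := by
  obtain ⟨L, Ls, e, hk⟩ := levels_cons
  exact pretransitive_gap slp_ok (e ▸ gap_ok) hk

theorem isJ3_j3Group : Cfsg.IsJ3 ↥j3Group := by
  haveI : MulAction.IsPretransitive ↥(grp 6156 nodes) (Fin 6156) := pretransitive_j3Group
  refine ⟨isSimpleGroup_grp slp_ok (by norm_num) cover_ok (q := 19) (e := 1) (by norm_num) (by norm_num) ?_ ord_ok,
    card_j3Group⟩
  rw [show Nat.card ↥(grp 6156 nodes) = 50232960 from card_j3Group]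
  norm_num

theorem card_stab_j3Group : Nat.card (MulAction.stabilizer ↥j3Group (0 : Fin 6156)) = 8160 := by
  haveI : MulAction.IsPretransitive ↥(grp 6156 nodes) (Fin 6156) := pretransitive_j3Group
  have h : 6156 * Nat.card (MulAction.stabilizer ↥(grp 6156 nodes) (0 : Fin 6156)) = 50232960 :=
    (card_stab (0 : Fin 6156)).trans card_j3Group
  exact Nat.eq_of_mul_eq_mul_left (by norm_num : 0 < 6156) (h.trans (by norm_num))

end Cfsg.Agent.RigidGraph.J3
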