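import Cfsg.Agent.Lib.RigidGraph.J3.Cert
import Cfsg.Agent.Lib.RigidGraph.Gap

/-! Kernel checks for the certificate on 6156 points: program, graph, chain. -/

set_option autoImplicit false
set_option maxRecDepth 100000
set_option Elab.async false

namespace Cfsg.Agent.RigidGraph.J3

/-- the levels with the sizes of their classes -/
def gapLevels : List (Level × ℕ) := levels.zip [6156, 120, 68, 2]

theorem gap_ok : gapOK 6156 graph nodes [] gapLevels = true := by decide +kernel

theorem ord_ok : ordOK 6156 nodes (19 ^ 1) (19 ^ 1) = true := by decide +kernel

end Cfsg.Agent.RigidGraph.J3
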