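import Cfsg.Agent.Lib.RigidGraph.J3.LineDefs
import Cfsg.Agent.Lib.RigidGraph.J3.MatData

/-! The words are right, and the given matrices are those of the definitions. -/

set_option autoImplicit false
set_option maxRecDepth 100000
set_option Elab.async false

namespace Cfsg.Agent.RigidGraph.J3

open Cfsg.Agent.RigidGraph.He (K4)

theorem slpA_ok : slpMOK wordMatA wordProgA 43 1488 = true := by decide +kernel

theorem slpB_ok : slpMOK wordMatB wordProgB 2 1121 = true := by decide +kernel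

theorem endA_ok : ((wordTargetA.all fun i => Nat.blt i 1531) &&
    Nat.beq wordTargetA.length 2 && allB (fun t => Nat.beq (colN (wordMatA.get (wordTargetA.getD 0 0)) t) (cols0.getD t 0) &&
      Nat.beq (colN (wordMatA.get (wordTargetA.getD 1 0)) t) (cols1.getD t 0)) 9) = true := by decide +kernel

theorem endB_ok : ((wordTargetB.all fun i => Nat.blt i 1123) &&
    Nat.beq wordTargetB.length 43 && allB (fun t => Nat.beq (colN (wordMatB.get 0) t) (cols0.getD t 0) &&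
      Nat.beq (colN (wordMatB.get 1) t) (cols1.getD t 0)) 9 &&
    allB (fun i => allB (fun t => Nat.beq (colN (wordMatB.get (wordTargetB.getD i 0)) t) (colN (wordMatA.get i) t)) 9) 43) =
      true := by decide +kernel

theorem genA_mat : ∀ p : Cfsg.Spor.F9 × Cfsg.Spor.F9 × Cfsg.Spor.F9,
    matP (colsOf (wordMatA.get (genPos p.1))) (ptIdx p.2.1) (ptIdx p.2.2) = Cfsg.Spor.j3A K4 K4.w p.1 p.2.1 p.2.2 := by decide +kernel

theorem genE_mat : ∀ p : Cfsg.Spor.F9 × Cfsg.Spor.F9 × Cfsg.Spor.F9,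
    matP (colsOf (wordMatA.get (genPos p.1 + 1))) (ptIdx p.2.1) (ptIdx p.2.2) = Cfsg.Spor.j3E K4 K4.w p.1 p.2.1 p.2.2 := by decide +kernel

theorem genD_mat : ∀ p : Cfsg.Spor.F9 × Cfsg.Spor.F9 × Cfsg.Spor.F9,
    matP (colsOf (wordMatA.get (genPos p.1 + 2))) (ptIdx p.2.1) (ptIdx p.2.2) = Cfsg.Spor.j3D K4 K4.w p.1 p.2.1 p.2.2 := by decide +kernel

theorem genB_mat : ∀ p : Cfsg.Spor.F9 × Cfsg.Spor.F9 × Cfsg.Spor.F9, p.1 ≠ 0 →
    matP (colsOf (wordMatA.get (genPos p.1 + 3))) (ptIdx p.2.1) (ptIdx p.2.2) = Cfsg.Spor.j3B K4 p.1 p.2.1 p.2.2 := by decide +kernel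

theorem genC_mat : ∀ p : Cfsg.Spor.F9 × Cfsg.Spor.F9 × Cfsg.Spor.F9, p.1 ≠ 0 →
    matP (colsOf (wordMatA.get (genPos p.1 + 4))) (ptIdx p.2.1) (ptIdx p.2.2) = Cfsg.Spor.j3C K4 p.1 p.2.1 p.2.2 := by decide +kernel

theorem gen_cover : ∀ i : Fin 43, ∃ Z : Cfsg.Spor.F9, i.1 = genPos Z ∨ i.1 = genPos Z + 1 ∨ i.1 = genPos Z + 2 ∨
    (Z ≠ 0 ∧ (i.1 = genPos Z + 3 ∨ i.1 = genPos Z + 4)) := by decide +kernel

end Cfsg.Agent.RigidGraph.J3
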