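import Cfsg.Agent.Lib.RigidGraph.J3.Triple
import Cfsg.Agent.Lib.RigidGraph.J3.WordChecks

/-! The group generated by the matrices of the definitions, over any field with four elements. -/

set_option autoImplicit false
set_option maxRecDepth 100000

namespace Cfsg.Agent.RigidGraph.J3

open Cfsg.Agent.RigidGraph.He (K4)

attribute [local irreducible] wordMatA wordMatB wordProgA wordProgB cols0 cols1 subBasis coord0 coord1

/-- The matrix of a packed word. -/
def matW (w : ℕ) : Matrix (Fin 9) (Fin 9) K4 := matP (colsOf w)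

theorem colsOf_getD (w : ℕ) {t : ℕ} (ht : t < 9) : (colsOf w).getD t 0 = colN w t := by
  interval_cases t <;> rfl

theorem matP_eq_matW {cols : List ℕ} {w : ℕ} (h : ∀ t < 9, colN w t = cols.getD t 0) : matW w = matP cols := by
  ext r t
  show toV 9 ((colsOf w).getD t 0) r = toV 9 (cols.getD t 0) r
  rw [colsOf_getD w t.2, h t t.2]

theorem matW_mul {A B C : ℕ} (h : ∀ t < 9, appP (colsOf A) (colN B t) = colN C t) :
    matW C = matW A * matW B := by
  ext r t
  have e := congrFun (toV_appP (cols := colsOf A) rfl (colN B t)) r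
  rw [h t t.2] at e
  show toV 9 ((colsOf C).getD t 0) r = _
  rw [colsOf_getD C t.2, e, Matrix.mulVec, dotProduct, Matrix.mul_apply]
  refine Finset.sum_congr rfl fun s _ => ?_
  show _ = _ * toV 9 ((colsOf B).getD t 0) s
  rw [colsOf_getD B t.2]
  rfl

theorem slpMOK_mem {T P : Trie} {k₀ m : ℕ} (h : slpMOK T P k₀ m = true)
    (S : Submonoid (Matrix (Fin 9) (Fin 9) K4)) (h0 : ∀ i < k₀, matW (T.get i) ∈ S) :
    ∀ j < k₀ + m, matW (T.get j) ∈ S := by
  intro j
  induction j using Nat.strong_induction_on with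
  | _ j ih =>
    intro hj
    by_cases hk : j < k₀
    · exact h0 j hk
    have hh := allB_spec h (show j - k₀ < m by omega)
    simp only [Bool.and_eq_true, Nat.blt_eq] at hh
    obtain ⟨⟨ha, hb⟩, hp⟩ := hh
    have e : Nat.add k₀ (j - k₀) = j := by show k₀ + (j - k₀) = j; omega
    rw [e] at ha hb hp
    rw [matW_mul fun t ht => Nat.eq_of_beq_eq_true (allB_spec hp ht)]
    exact S.mul_mem (ih _ ha (ha.trans hj)) (ih _ hb (hb.trans hj))

/-- The entries of an element of the special unitary group, multiplicatively. -/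
def umatHom : SU9 →* Matrix (Fin 9) (Fin 9) K4 where
  toFun := umat
  map_one' := umat_one
  map_mul' := umat_mul

/-- The matrices of the triple cover. -/
noncomputable def tripleImage : Submonoid (Matrix (Fin 9) (Fin 9) K4) := tripleCover.toSubmonoid.map umatHom

theorem given_mem_tripleImage : ∀ i < 43, matW (wordMatA.get i) ∈ tripleImage := by
  intro i hi
  have h := endB_ok
  simp only [Bool.and_eq_true, Nat.beq_eq, List.all_eq_true, Nat.blt_eq] at h
  obtain ⟨⟨⟨hlt, hlen⟩, hbase⟩, hend⟩ := h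
  have h0 : ∀ j < 2, matW (wordMatB.get j) ∈ tripleImage := by
    intro j hj
    interval_cases j
    · rw [matP_eq_matW fun t ht => (by simpa using allB_spec hbase ht : _ ∧ _).1]
      exact ⟨matX, Subgroup.subset_closure (Set.mem_insert _ _), matX_mat⟩
    · rw [matP_eq_matW fun t ht => (by simpa using allB_spec hbase ht : _ ∧ _).2]
      exact ⟨matY, Subgroup.subset_closure (Set.mem_insert_of_mem _ rfl), matY_mat⟩
  have hj : wordTargetB.getD i 0 < 1123 := by
    rw [List.getD_eq_getElem _ _ (hlen.symm ▸ hi)]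
    exact hlt _ (List.getElem_mem _)
  have hm := slpMOK_mem slpB_ok tripleImage h0 _ hj
  rwa [show matW (wordMatA.get i) = matW (wordMatB.get (wordTargetB.getD i 0)) from (by
    ext r t
    show toV 9 ((colsOf _).getD t 0) r = toV 9 ((colsOf _).getD t 0) r
    rw [colsOf_getD _ t.2, colsOf_getD _ t.2,
      Nat.eq_of_beq_eq_true (allB_spec (allB_spec hend hi) t.2)])]

theorem gens_mem_closure {S : Submonoid (Matrix (Fin 9) (Fin 9) K4)}
    (h : ∀ i < 43, matW (wordMatA.get i) ∈ S) : matP cols0 ∈ S ∧ matP cols1 ∈ S := by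
  have h' := endA_ok
  simp only [Bool.and_eq_true, Nat.beq_eq, List.all_eq_true, Nat.blt_eq] at h'
  obtain ⟨⟨hlt, hlen⟩, hend⟩ := h'
  have key : ∀ i < 2, matW (wordMatA.get (wordTargetA.getD i 0)) ∈ S := fun i hi => by
    refine slpMOK_mem slpA_ok S h _ ?_
    rw [List.getD_eq_getElem _ _ (hlen.symm ▸ hi)]
    exact hlt _ (List.getElem_mem _)
  constructor
  · rw [← matP_eq_matW fun t ht => (by simpa using allB_spec hend ht : _ ∧ _).1]
    exact key 0 (by norm_num)
  · rw [← matP_eq_matW fun t ht => (by simpa using allB_spec hend ht : _ ∧ _).2]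
    exact key 1 (by norm_num)

/-! ### Any field with four elements -/

variable {F : Type} [Field F] [Fintype F] {ω : F}

/-- Where the model's elements go. -/
def toFour (ω : F) : K4 → F
  | .o => 0
  | .l => 1
  | .w => ω
  | .v => ω + 1

theorem two_eq_zero (hF : Fintype.card F = 4) : (2 : F) = 0 := by
  have h : ((4 : ℕ) : F) = 0 := by rw [← hF]; exact Nat.cast_card_eq_zero F
  have h2 : (2 : F) * 2 = 0 := by rw [← h]; norm_num
  exact mul_self_eq_zero.1 h2

/-- The field with four elements maps to any other. -/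
def fourHom (hF : Fintype.card F = 4) (hω : ω ^ 2 + ω + 1 = 0) : K4 →+* F where
  toFun := toFour ω
  map_one' := rfl
  map_zero' := rfl
  map_mul' a b := by
    have h2 := two_eq_zero hF
    cases a <;> cases b <;> show toFour ω _ = toFour ω _ * toFour ω _
    all_goals first
      | (simp only [show ∀ x y : K4, x * y = K4.mul x y from fun _ _ => rfl, K4.mul, toFour]; ring_nf; done)
      | (show toFour ω (K4.mul _ _) = _; simp only [K4.mul, toFour]; linear_combination hω)
      | (show toFour ω (K4.mul _ _) = _; simp only [K4.mul, toFour]; linear_combination hω + (-1 - ω) * h2)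
      | (show toFour ω (K4.mul _ _) = _; simp only [K4.mul, toFour]; linear_combination -hω)
      | (show toFour ω (K4.mul _ _) = _; simp only [K4.mul, toFour]; linear_combination -hω + (1 + ω) * h2)
      | (show toFour ω (K4.mul _ _) = _; simp only [K4.mul, toFour]; linear_combination -hω + ω * h2)
      | (show toFour ω (K4.mul _ _) = _; simp only [K4.mul, toFour]; linear_combination -hω + h2)
  map_add' a b := by
    have h2 := two_eq_zero hF
    cases a <;> cases b <;> show toFour ω (K4.add _ _) = toFour ω _ + toFour ω _ <;>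
      simp only [K4.add, toFour]
    all_goals first
      | ring_nf; done
      | linear_combination -h2
      | linear_combination -ω * h2
      | linear_combination -(ω + 1) * h2
      | linear_combination (-ω - 1) * h2

theorem fourHom_bijective (hF : Fintype.card F = 4) (hω : ω ^ 2 + ω + 1 = 0) :
    Function.Bijective (fourHom hF hω) := by
  rw [Fintype.bijective_iff_injective_and_card]
  exact ⟨RingHom.injective _, by rw [K4.card_K4, hF]⟩

/-- The index sets of size nine. -/
noncomputable def ptEquiv : Cfsg.Spor.F9 ≃ Fin 9 := Equiv.ofBijective ptIdx (by decide)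

theorem ptEquiv_apply (z : Cfsg.Spor.F9) : ptEquiv z = ptIdx z := rfl

/-- The change of model on matrices. -/
noncomputable def modelMap (φ : K4 →+* F) : Matrix (Fin 9) (Fin 9) K4 →* Matrix Cfsg.Spor.F9 Cfsg.Spor.F9 F where
  toFun A := (A.map φ).submatrix ptEquiv ptEquiv
  map_one' := by rw [Matrix.map_one φ φ.map_zero φ.map_one, Matrix.submatrix_one_equiv]
  map_mul' A B := by rw [Matrix.map_mul, Matrix.submatrix_mul_equiv]

theorem modelMap_apply (φ : K4 →+* F) (A : Matrix (Fin 9) (Fin 9) K4) (w z : Cfsg.Spor.F9) :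
    modelMap φ A w z = φ (A (ptIdx w) (ptIdx z)) := rfl

theorem map_omegaPow (φ : K4 →+* F) (hw : φ K4.w = ω) (n : ZMod 3) :
    φ (Cfsg.Spor.omegaPow K4 K4.w n) = Cfsg.Spor.omegaPow F ω n := by
  rw [Cfsg.Spor.omegaPow, Cfsg.Spor.omegaPow, map_pow, hw]

theorem model_gens (φ : K4 →+* F) (hw : φ K4.w = ω) (Z : Cfsg.Spor.F9) :
    modelMap φ (matW (wordMatA.get (genPos Z))) = Cfsg.Spor.j3A F ω Z ∧
    modelMap φ (matW (wordMatA.get (genPos Z + 1))) = Cfsg.Spor.j3E F ω Z ∧
    modelMap φ (matW (wordMatA.get (genPos Z + 2))) = Cfsg.Spor.j3D F ω Z ∧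
    (Z ≠ 0 → modelMap φ (matW (wordMatA.get (genPos Z + 3))) = Cfsg.Spor.j3B F Z ∧
      modelMap φ (matW (wordMatA.get (genPos Z + 4))) = Cfsg.Spor.j3C F Z) := by
  refine ⟨?_, ?_, ?_, fun hZ => ⟨?_, ?_⟩⟩ <;> ext w z <;> rw [modelMap_apply, matW]
  · rw [genA_mat (Z, w, z), Cfsg.Spor.j3A, Cfsg.Spor.j3A, Matrix.diagonal_apply, Matrix.diagonal_apply,
      apply_ite φ, map_omegaPow φ hw, map_zero]
  · rw [genE_mat (Z, w, z), Cfsg.Spor.j3E, Cfsg.Spor.j3E, Matrix.diagonal_apply, Matrix.diagonal_apply,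
      apply_ite φ, map_omegaPow φ hw, map_zero]
  · rw [genD_mat (Z, w, z), Cfsg.Spor.j3D, Cfsg.Spor.j3D, Matrix.of_apply, Matrix.of_apply, apply_ite φ, map_zero]
    simp only [Cfsg.Spor.j3Lam, apply_ite φ, map_one, map_pow, hw]
  · rw [genB_mat (Z, w, z) hZ, Cfsg.Spor.j3B, Cfsg.Spor.j3B, Matrix.of_apply, Matrix.of_apply, apply_ite φ, map_zero,
      map_one]
  · rw [genC_mat (Z, w, z) hZ, Cfsg.Spor.j3C, Cfsg.Spor.j3C, Matrix.of_apply, Matrix.of_apply]
    simp only [apply_ite φ, map_zero, map_one]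

theorem genPos_lt : ∀ Z : Cfsg.Spor.F9, genPos Z + 2 < 43 ∧ (Z ≠ 0 → genPos Z + 4 < 43) := by decide

theorem gen_model (φ : K4 →+* F) (hw : φ K4.w = ω) {M : Matrix Cfsg.Spor.F9 Cfsg.Spor.F9 F}
    (hM : M ∈ Cfsg.Spor.j3Gens F ω) : ∃ i < 43, modelMap φ (matW (wordMatA.get i)) = M := by
  rcases hM with (((⟨Z, rfl⟩ | ⟨Z, rfl⟩) | ⟨Z, rfl⟩) | ⟨Z, hZ, rfl⟩) | ⟨Z, hZ, rfl⟩
  · exact ⟨_, by have := (genPos_lt Z).1; omega, (model_gens φ hw Z).1⟩
  · exact ⟨_, by have := (genPos_lt Z).1; omega, (model_gens φ hw Z).2.1⟩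
  · exact ⟨_, (genPos_lt Z).1, (model_gens φ hw Z).2.2.1⟩
  · exact ⟨_, by have := (genPos_lt Z).2 hZ; omega, ((model_gens φ hw Z).2.2.2 hZ).1⟩
  · exact ⟨_, (genPos_lt Z).2 hZ, ((model_gens φ hw Z).2.2.2 hZ).2⟩

theorem model_gen (φ : K4 →+* F) (hw : φ K4.w = ω) {i : ℕ} (hi : i < 43) :
    modelMap φ (matW (wordMatA.get i)) ∈ Cfsg.Spor.j3Gens F ω := by
  obtain ⟨Z, h⟩ := gen_cover ⟨i, hi⟩
  obtain ⟨hA, hE, hD, hBC⟩ := model_gens φ hw Z
  rcases h with h | h | h | ⟨hZ, h | h⟩ <;> rw [show i = _ from h]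
  · exact .inl (.inl (.inl (.inl ⟨Z, hA.symm⟩)))
  · exact .inl (.inl (.inl (.inr ⟨Z, hE.symm⟩)))
  · exact .inl (.inl (.inr ⟨Z, hD.symm⟩))
  · exact .inl (.inr ⟨Z, hZ, (hBC hZ).1⟩)
  · exact .inr ⟨Z, hZ, (hBC hZ).2⟩

/-- The triple cover inside the general linear group of the definitions. -/
noncomputable def coverGL (φ : K4 →+* F) : ↥tripleCover →* GL Cfsg.Spor.F9 F :=
  MonoidHom.toHomUnits (M := Matrix Cfsg.Spor.F9 Cfsg.Spor.F9 F) ((modelMap φ).comp (umatHom.comp tripleCover.subtype))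

theorem coverGL_coe (φ : K4 →+* F) (A : ↥tripleCover) :
    ((coverGL φ A : GL Cfsg.Spor.F9 F) : Matrix Cfsg.Spor.F9 Cfsg.Spor.F9 F) = modelMap φ (umat A.1) := rfl

theorem coverGL_injective (φ : K4 →+* F) : Function.Injective (coverGL φ) := fun A B h => by
  refine Subtype.ext (umat_injective ?_)
  ext r t
  have h0 : ((coverGL φ A : GL Cfsg.Spor.F9 F) : Matrix Cfsg.Spor.F9 Cfsg.Spor.F9 F) = (coverGL φ B : GL Cfsg.Spor.F9 F) := by rw [h]
  have e := congrFun (congrFun h0 (ptEquiv.symm r)) (ptEquiv.symm t)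
  rw [coverGL_coe, coverGL_coe, modelMap_apply, modelMap_apply, ← ptEquiv_apply, ← ptEquiv_apply,
    Equiv.apply_symm_apply, Equiv.apply_symm_apply] at e
  exact φ.injective e

theorem coverGL_range (φ : K4 →+* F) (hw : φ K4.w = ω) : (coverGL φ).range = Cfsg.Spor.threeJ3 F ω := by
  refine le_antisymm ?_ ?_
  · rintro _ ⟨⟨A, hA⟩, rfl⟩
    let S : Submonoid (Matrix (Fin 9) (Fin 9) K4) :=
      ((Cfsg.Spor.threeJ3 F ω).toSubmonoid.map (Units.coeHom _)).comap (modelMap φ)
    have hS : ∀ i < 43, matW (wordMatA.get i) ∈ S := fun i hi => by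
      obtain ⟨A, hA, e⟩ := given_mem_tripleImage i hi
      refine ⟨coverGL φ ⟨A, hA⟩, Subgroup.subset_closure ?_, ?_⟩
      · show modelMap φ (umat A) ∈ Cfsg.Spor.j3Gens F ω
        rw [show umat A = matW (wordMatA.get i) from e]
        exact model_gen φ hw hi
      · show modelMap φ (umat A) = _
        rw [show umat A = matW (wordMatA.get i) from e]
    obtain ⟨hx, hy⟩ := gens_mem_closure hS
    suffices h : tripleCover ≤ ((Cfsg.Spor.threeJ3 F ω).comap (coverGL φ)).map tripleCover.subtype by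
      obtain ⟨B, hB, e⟩ := h hA
      rwa [show (⟨A, hA⟩ : ↥tripleCover) = B from Subtype.ext e.symm]
    have key : ∀ B : ↥tripleCover, umat B.1 ∈ S → coverGL φ B ∈ Cfsg.Spor.threeJ3 F ω := fun B hB => by
      obtain ⟨g, hg, e⟩ := hB
      rwa [show coverGL φ B = g from Units.ext e.symm]
    have mX : matX ∈ tripleCover := Subgroup.subset_closure (Set.mem_insert _ _)
    have mY : matY ∈ tripleCover := Subgroup.subset_closure (Set.mem_insert_of_mem _ rfl)
    exact (Subgroup.closure_le _).2 (Set.insert_subset_iff.2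
      ⟨⟨⟨matX, mX⟩, key ⟨matX, mX⟩ (by rw [show umat matX = matP cols0 from matX_mat]; exact hx), rfl⟩,
        Set.singleton_subset_iff.2
          ⟨⟨matY, mY⟩, key ⟨matY, mY⟩ (by rw [show umat matY = matP cols1 from matY_mat]; exact hy), rfl⟩⟩)
  · rw [Cfsg.Spor.threeJ3, Subgroup.closure_le]
    intro g hg
    obtain ⟨i, hi, e⟩ := gen_model φ hw hg
    obtain ⟨A, hA, e'⟩ := given_mem_tripleImage i hi
    refine ⟨⟨A, hA⟩, Units.ext ?_⟩
    rw [coverGL_coe, ← e]
    exact congrArg _ e'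

theorem toFour_w (hF : Fintype.card F = 4) (hω : ω ^ 2 + ω + 1 = 0) : fourHom hF hω K4.w = ω := rfl

/-- The model is the group of the definitions. -/
noncomputable def modelEquiv (hF : Fintype.card F = 4) (hω : ω ^ 2 + ω + 1 = 0) :
    ↥tripleCover ≃* ↥(Cfsg.Spor.threeJ3 F ω) :=
  (MonoidHom.ofInjective (coverGL_injective (fourHom hF hω))).trans
    (MulEquiv.subgroupCongr (coverGL_range _ (toFour_w hF hω)))

theorem card_tripleCover : Nat.card ↥tripleCover = 150698880 := by
  rw [Subgroup.card_eq_card_quotient_mul_card_subgroup (Subgroup.center ↥tripleCover), card_center,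
    show Nat.card (↥tripleCover ⧸ Subgroup.center ↥tripleCover) = 50232960 from isJ3_quot.2]

theorem threeJ3_facts (hF : Fintype.card F = 4) (hω : ω ^ 2 + ω + 1 = 0) :
    Nat.card ↥(Subgroup.center ↥(Cfsg.Spor.threeJ3 F ω)) = 3 ∧ Nat.card ↥(Cfsg.Spor.threeJ3 F ω) = 150698880 ∧
      Nat.card (Cfsg.Spor.J3 F ω) = 50232960 ∧ IsSimpleGroup (Cfsg.Spor.J3 F ω) := by
  set e := modelEquiv hF hω
  have hz : (Subgroup.center ↥tripleCover).map e.toMonoidHom = Subgroup.center ↥(Cfsg.Spor.threeJ3 F ω) := by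
    ext x
    rw [Subgroup.mem_map_equiv, Subgroup.mem_center_iff, Subgroup.mem_center_iff]
    refine ⟨fun h g => e.symm.injective (by rw [map_mul, map_mul]; exact h _), fun h g => ?_⟩
    have := congrArg e.symm (h (e g))
    rwa [map_mul, map_mul, e.symm_apply_apply] at this
  let q : (↥tripleCover ⧸ Subgroup.center ↥tripleCover) ≃* Cfsg.Spor.J3 F ω := QuotientGroup.congr _ _ e hz
  obtain ⟨hs, hc⟩ := isJ3_quot
  haveI := hs
  refine ⟨?_, ?_, ?_, q.symm.isSimpleGroup⟩
  · rw [← hz, Subgroup.card_map_of_injective e.injective, card_center]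
  · rw [← Nat.card_congr e.toEquiv, card_tripleCover]
  · rw [← Nat.card_congr q.toEquiv, hc]

end Cfsg.Agent.RigidGraph.J3
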