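import Cfsg.Agent.Lib.RigidGraph.J3.MatDefs
import Cfsg.Agent.Lib.RigidGraph.J3.WordData
import Cfsg.Prelude.Def_Spor_J3

/-! Checks on words in the matrices of degree 9, and on orbits of lines. -/

set_option autoImplicit false

namespace Cfsg.Agent.RigidGraph.J3

open Cfsg.Agent.RigidGraph.He (K4)

/-- A column of a packed matrix. -/
def colN (w t : ℕ) : ℕ := Nat.land (Nat.shiftRight w (Nat.mul 18 t)) (2 ^ 18 - 1)

/-- All the columns. -/
def colsOf (w : ℕ) : List ℕ :=
  [colN w 0, colN w 1, colN w 2, colN w 3, colN w 4, colN w 5, colN w 6, colN w 7, colN w 8]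

/-- Every later matrix is the product of two earlier ones. -/
noncomputable def slpMOK (T P : Trie) (k₀ m : ℕ) : Bool :=
  allB (fun j =>
    Nat.blt (Nat.land (P.get j) 65535) (Nat.add k₀ j) && Nat.blt (Nat.shiftRight (P.get j) 16) (Nat.add k₀ j) &&
      allB (fun t => Nat.beq
        (appP (colsOf (T.get (Nat.land (P.get j) 65535))) (colN (T.get (Nat.shiftRight (P.get j) 16)) t))
        (colN (T.get (Nat.add k₀ j)) t)) 9) m

/-- The position of a point of the index set of size nine. -/
def ptIdx (z : Cfsg.Spor.F9) : Fin 9 :=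
  ⟨3 * z.1.val + z.2.val, by have := z.1.val_lt; have := z.2.val_lt; omega⟩

/-- The position of the diagonal generator of a point among the 43 given ones. -/
def genPos (Z : Cfsg.Spor.F9) : ℕ := bif Nat.beq (ptIdx Z).1 0 then 0 else 5 * (ptIdx Z).1 - 2

/-- Entry `i` of a list of codes. -/
noncomputable def codeAt (L : Trie) (i : ℕ) : ℕ :=
  Nat.land (Nat.shiftRight (L.get (Nat.div i 32)) (Nat.mul 32 (Nat.mod i 32))) (2 ^ 32 - 1)

/-- A vector is a listed line. -/
noncomputable def listedOK (L pos : Trie) (k u : ℕ) : Bool :=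
  Nat.blt 0 (slotT pos u) && Nat.ble (slotT pos u) k &&
    (Nat.beq u (smulP 9 1 (codeAt L (slotT pos u - 1))) || Nat.beq u (smulP 9 2 (codeAt L (slotT pos u - 1))) ||
      Nat.beq u (smulP 9 3 (codeAt L (slotT pos u - 1))))

/-- A listed code comes from an earlier one, and its images are listed. -/
noncomputable def lineOK (L pos par : Trie) (k s : ℕ) (g₀ g₁ : List ℕ) (i : ℕ) : Bool :=
  let v := codeAt L i
  let p := codeAt par i
  let j := Nat.land p 65535
  let c := Nat.shiftRight p 17
  Nat.blt 0 v && allB (fun d => Nat.blt (smulP 9 (d + 1) v) (2 ^ 18) && Nat.beq (slotT pos (smulP 9 (d + 1) v)) (i + 1)) 3 &&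
    (bif Nat.beq i 0 then Nat.beq v s else
      Nat.blt j i && Nat.blt 0 c && Nat.blt c 4 &&
        Nat.beq v (smulP 9 c (appP (bif bit p 16 then g₁ else g₀) (codeAt L j)))) &&
    listedOK L pos k (appP g₀ v) && listedOK L pos k (appP g₁ v)

/-- The parities of the masks of length nine. -/
def parity9 : ℕ :=
  (List.range 512).foldl (fun r m =>
    bif (List.range 9).foldl (fun b t => Bool.xor b (bit m t)) false then ins r m else r) 0

/-- Every isotropic vector is listed: the vectors with high plane `a`. -/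
noncomputable def scanOK (L pos : Trie) (k a : ℕ) : Bool :=
  allB (fun b => bit parity9 (Nat.lor a b) || Nat.beq (Nat.lor a b) 0 ||
    listedOK L pos k (Nat.lor b (Nat.shiftLeft a 9))) 512

end Cfsg.Agent.RigidGraph.J3
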