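import Cfsg.Agent.Lib.RigidGraph.J3.LineDefs
import Cfsg.Agent.Lib.RigidGraph.J3.MatData
import Cfsg.Agent.Lib.RigidGraph.J3.LinesIsoData

/-! Part of an orbit on lines. -/

set_option autoImplicit false
set_option maxRecDepth 100000
set_option Elab.async false

namespace Cfsg.Agent.RigidGraph.J3

open Cfsg.Agent.RigidGraph.He (K4)

theorem lineIso0_ok : rangeB (lineOK lineIso linePosIso lineParIso 43605 3 cols0 cols1) 0 5451 = true := by decide +kernel

end Cfsg.Agent.RigidGraph.J3
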