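import Cfsg.Agent.Lib.RigidGraph.J3.Generated
import Cfsg.Agent.Lib.RigidGraph.J3.LinesUnit0
import Cfsg.Agent.Lib.RigidGraph.J3.LinesUnit1
import Cfsg.Agent.Lib.RigidGraph.J3.LinesUnit2
import Cfsg.Agent.Lib.RigidGraph.J3.LinesUnit3
import Cfsg.Agent.Lib.RigidGraph.J3.LinesIso0
import Cfsg.Agent.Lib.RigidGraph.J3.LinesIso1
import Cfsg.Agent.Lib.RigidGraph.J3.LinesIso2
import Cfsg.Agent.Lib.RigidGraph.J3.LinesIso3
import Cfsg.Agent.Lib.RigidGraph.J3.LinesIso4
import Cfsg.Agent.Lib.RigidGraph.J3.LinesIso5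
import Cfsg.Agent.Lib.RigidGraph.J3.LinesIso6
import Cfsg.Agent.Lib.RigidGraph.J3.LinesIso7
import Cfsg.Agent.Lib.RigidGraph.J3.Scan0
import Cfsg.Agent.Lib.RigidGraph.J3.Scan1
import Cfsg.Agent.Lib.RigidGraph.J3.Scan2
import Cfsg.Agent.Lib.RigidGraph.J3.Scan3

/-! The orbit of a coordinate line, and the isotropic lines, under the triple cover in degree 9. -/

set_option autoImplicit false
set_option maxRecDepth 100000

namespace Cfsg.Agent.RigidGraph.J3

open Matrix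
open Cfsg.Agent.RigidGraph.He (K4)

attribute [local irreducible] wordMatA wordMatB wordProgA wordProgB cols0 cols1 lineUnit linePosUnit lineParUnit
  lineIso linePosIso lineParIso parity9

theorem ofBits_inj : ∀ a b c d : Bool, ofBits a b = ofBits c d → a = c ∧ b = d := by decide

theorem toV_inj {u v : ℕ} (hu : u < 2 ^ 18) (hv : v < 2 ^ 18) (h : toV 9 u = toV 9 v) : u = v := by
  refine Nat.eq_of_testBit_eq fun i => ?_
  rw [← bit_eq_testBit, ← bit_eq_testBit]
  by_cases hi : i < 9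
  · exact (ofBits_inj _ _ _ _ (congrFun h ⟨i, hi⟩)).1
  by_cases hi' : i < 18
  · have := (ofBits_inj _ _ _ _ (congrFun h ⟨i - 9, by omega⟩)).2
    rwa [show 9 + (i - 9) = i by omega] at this
  have hp : 2 ^ 18 ≤ 2 ^ i := Nat.pow_le_pow_right (by norm_num) (by omega)
  rw [bit_eq_testBit, bit_eq_testBit, Nat.testBit_lt_two_pow (hu.trans_le hp),
    Nat.testBit_lt_two_pow (hv.trans_le hp)]

theorem exists_code (x : Fin 9 → K4) : ∃ u < 2 ^ 18, toV 9 u = x := by
  have hinj : Function.Injective fun u : Fin (2 ^ 18) => toV 9 u.1 := fun a b e => Fin.ext (toV_inj a.2 b.2 e)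
  have hb := (Fintype.bijective_iff_injective_and_card _).2 ⟨hinj, by
    rw [Fintype.card_fin, Fintype.card_fun, K4.card_K4, Fintype.card_fin]; norm_num⟩
  obtain ⟨u, hu⟩ := hb.2 x
  exact ⟨u, u.2, hu⟩

theorem ofDigit_ne {d : ℕ} (h1 : 0 < d) (h4 : d < 4) : K4.ofDigit d ≠ 0 := by
  interval_cases d <;> decide

/-- The facts checked about one list of lines. -/
structure Orbit (L pos par : Trie) (k s : ℕ) : Prop where
  line : ∀ i < k, lineOK L pos par k s cols0 cols1 i = true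

variable {L pos par : Trie} {k s : ℕ}

theorem Orbit.bound (h : Orbit L pos par k s) {i : ℕ} (hi : i < k) :
    codeAt L i ≠ 0 ∧ ∀ d, 1 ≤ d → d < 4 →
      smulP 9 d (codeAt L i) < 2 ^ 18 ∧ slotT pos (smulP 9 d (codeAt L i)) = i + 1 := by
  have hh := h.line i hi
  simp only [lineOK, Bool.and_eq_true, Nat.blt_eq] at hh
  obtain ⟨⟨⟨⟨h0, hd⟩, -⟩, -⟩, -⟩ := hh
  refine ⟨by omega, fun d h1 h4 => ?_⟩
  have := allB_spec hd (show d - 1 < 3 by omega)
  simp only [Bool.and_eq_true, Nat.blt_eq, Nat.beq_eq, show d - 1 + 1 = d by omega] at this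
  exact this

theorem Orbit.code_lt (h : Orbit L pos par k s) {i : ℕ} (hi : i < k) :
    codeAt L i < 2 ^ 18 ∧ slotT pos (codeAt L i) = i + 1 := (h.bound hi).2 1 le_rfl (by norm_num)

theorem Orbit.distinct (h : Orbit L pos par k s) {i j : ℕ} (hi : i < k) (hj : j < k) {c : K4} (hc : c ≠ 0)
    (e : toV 9 (codeAt L i) = c • toV 9 (codeAt L j)) : i = j := by
  obtain ⟨d, h1, h4, rfl⟩ : ∃ d, 1 ≤ d ∧ d < 4 ∧ K4.ofDigit d = c := by
    revert hc; cases c <;> intro hc
    · exact absurd rfl hc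
    · exact ⟨1, le_rfl, by norm_num, rfl⟩
    · exact ⟨2, by norm_num, by norm_num, rfl⟩
    · exact ⟨3, by norm_num, by norm_num, rfl⟩
  rw [← toV_smulP 9 _ d h4] at e
  obtain ⟨hb, hp⟩ := (h.bound hj).2 d h1 h4
  have := toV_inj (h.code_lt hi).1 hb e
  rw [← this, (h.code_lt hi).2] at hp
  omega

theorem listed_spec {u : ℕ} (h : listedOK L pos k u = true) :
    ∃ j < k, ∃ c : K4, c ≠ 0 ∧ toV 9 u = c • toV 9 (codeAt L j) := by
  simp only [listedOK, Bool.and_eq_true, Bool.or_eq_true, Nat.blt_eq, Nat.ble_eq, Nat.beq_eq] at h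
  obtain ⟨⟨h0, hk⟩, (e | e) | e⟩ := h
  all_goals refine ⟨_, (show slotT pos u - 1 < k by omega), ?_⟩
  · exact ⟨K4.ofDigit 1, by decide, by rw [← toV_smulP 9 _ 1 (by norm_num), ← e]⟩
  · exact ⟨K4.ofDigit 2, by decide, by rw [← toV_smulP 9 _ 2 (by norm_num), ← e]⟩
  · exact ⟨K4.ofDigit 3, by decide, by rw [← toV_smulP 9 _ 3 (by norm_num), ← e]⟩

theorem Orbit.closed (h : Orbit L pos par k s) {A : Matrix (Fin 9) (Fin 9) K4} (hA : A ∈ tripleImage) :
    ∀ i < k, ∃ j < k, ∃ c : K4, c ≠ 0 ∧ A *ᵥ toV 9 (codeAt L i) = c • toV 9 (codeAt L j) := by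
  obtain ⟨B, hB, rfl⟩ := hA
  haveI : Finite SU9 := Finite.of_injective umat umat_injective
  rw [SetLike.mem_coe, tripleCover, Subgroup.closure_toSubmonoid_of_finite] at hB
  induction hB using Submonoid.closure_induction with
  | mem y hy =>
    intro i hi
    have hh := h.line i hi
    simp only [lineOK, Bool.and_eq_true] at hh
    rcases hy with rfl | rfl
    · show ∃ j < k, ∃ c : K4, c ≠ 0 ∧ umat matX *ᵥ _ = _
      rw [matX_mat, ← toV_appP lens_ok.1]
      exact listed_spec hh.1.2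
    · show ∃ j < k, ∃ c : K4, c ≠ 0 ∧ umat matY *ᵥ _ = _
      rw [matY_mat, ← toV_appP lens_ok.2]
      exact listed_spec hh.2
  | one => exact fun i hi => ⟨i, hi, 1, by decide, by rw [map_one, Matrix.one_mulVec, one_smul]⟩
  | mul a b _ _ ha hb =>
    intro i hi
    obtain ⟨j, hj, c, hc, e⟩ := hb i hi
    obtain ⟨l, hl, d, hd, e'⟩ := ha j hj
    exact ⟨l, hl, c * d, mul_ne_zero hc hd, by rw [map_mul, ← Matrix.mulVec_mulVec, e, Matrix.mulVec_smul, e', smul_smul]⟩

theorem Orbit.reached (h : Orbit L pos par k s) :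
    ∀ i < k, ∃ A ∈ tripleImage, ∃ c : K4, c ≠ 0 ∧ toV 9 (codeAt L i) = c • (A *ᵥ toV 9 s) := by
  intro i
  induction i using Nat.strong_induction_on with
  | _ i ih =>
    intro hi
    have hh := h.line i hi
    simp only [lineOK, Bool.and_eq_true] at hh
    obtain ⟨⟨⟨-, hstep⟩, -⟩, -⟩ := hh
    cases hz : Nat.beq i 0 with
    | true =>
      rw [hz, cond_true, Nat.beq_eq] at hstep
      exact ⟨1, one_mem _, 1, by decide, by rw [hstep, Matrix.one_mulVec, one_smul]⟩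
    | false =>
      rw [hz, cond_false] at hstep
      simp only [Bool.and_eq_true, Nat.blt_eq, Nat.beq_eq] at hstep
      obtain ⟨⟨⟨hj, hc0⟩, hc4⟩, he⟩ := hstep
      obtain ⟨A, hA, d, hd, e⟩ := ih _ hj (hj.trans hi)
      rw [he, toV_smulP 9 _ _ hc4]
      have hgen : matP cols0 ∈ tripleImage ∧ matP cols1 ∈ tripleImage :=
        ⟨⟨matX, Subgroup.subset_closure (Set.mem_insert _ _), matX_mat⟩,
          ⟨matY, Subgroup.subset_closure (Set.mem_insert_of_mem _ rfl), matY_mat⟩⟩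
      cases bit (codeAt par i) 16 with
      | true =>
        rw [cond_true, toV_appP lens_ok.2, e, Matrix.mulVec_smul, smul_smul, Matrix.mulVec_mulVec]
        exact ⟨_, mul_mem hgen.2 hA, _, mul_ne_zero (ofDigit_ne hc0 hc4) hd, rfl⟩
      | false =>
        rw [cond_false, toV_appP lens_ok.1, e, Matrix.mulVec_smul, smul_smul, Matrix.mulVec_mulVec]
        exact ⟨_, mul_mem hgen.1 hA, _, mul_ne_zero (ofDigit_ne hc0 hc4) hd, rfl⟩

theorem unitOrbit : Orbit lineUnit linePosUnit lineParUnit 23256 1 := ⟨fun i hi => by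
  rcases (show i < 5814 ∨ (5814 ≤ i ∧ i < 11628) ∨ (11628 ≤ i ∧ i < 17442) ∨ 17442 ≤ i by omega) with h | h | h | h
  · exact rangeB_spec lineUnit0_ok (Nat.zero_le i) (show i < 0 + 5814 by omega)
  · exact rangeB_spec lineUnit1_ok h.1 (show i < 5814 + 5814 by omega)
  · exact rangeB_spec lineUnit2_ok h.1 (show i < 11628 + 5814 by omega)
  · exact rangeB_spec lineUnit3_ok h (show i < 17442 + 5814 by omega)⟩

theorem isoOrbit : Orbit lineIso linePosIso lineParIso 43605 3 := ⟨fun i hi => by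
  rcases (show i < 5451 ∨ (5451 ≤ i ∧ i < 10902) ∨ (10902 ≤ i ∧ i < 16353) ∨ (16353 ≤ i ∧ i < 21804) ∨
    (21804 ≤ i ∧ i < 27255) ∨ (27255 ≤ i ∧ i < 32706) ∨ (32706 ≤ i ∧ i < 38157) ∨ 38157 ≤ i by omega)
    with h | h | h | h | h | h | h | h
  · exact rangeB_spec lineIso0_ok (Nat.zero_le i) (show i < 0 + 5451 by omega)
  · exact rangeB_spec lineIso1_ok h.1 (show i < 5451 + 5451 by omega)
  · exact rangeB_spec lineIso2_ok h.1 (show i < 10902 + 5451 by omega)
  · exact rangeB_spec lineIso3_ok h.1 (show i < 16353 + 5451 by omega)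
  · exact rangeB_spec lineIso4_ok h.1 (show i < 21804 + 5451 by omega)
  · exact rangeB_spec lineIso5_ok h.1 (show i < 27255 + 5451 by omega)
  · exact rangeB_spec lineIso6_ok h.1 (show i < 32706 + 5451 by omega)
  · exact rangeB_spec lineIso7_ok h (show i < 38157 + 5448 by omega)⟩

theorem parity_ok : allB (fun m => decide
    ((∑ t : Fin 9, if bit m t then (1 : K4) else 0) = if bit parity9 m then 1 else 0)) 512 = true := by decide +kernel

theorem cube_bits : ∀ a b : Bool, ofBits a b ^ 3 = if (b || a) then (1 : K4) else 0 := by decide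

theorem iso_listed {x : Fin 9 → K4} (hx : x ≠ 0) (h3 : ∑ t, x t ^ 3 = 0) :
    ∃ j < 43605, ∃ c : K4, c ≠ 0 ∧ x = c • toV 9 (codeAt lineIso j) := by
  obtain ⟨u, hu, rfl⟩ := exists_code x
  set a := Nat.shiftRight u 9
  set b := Nat.land u 511
  have ha : a < 512 := by show u >>> 9 < 512; rw [Nat.shiftRight_eq_div_pow]; omega
  have hb : b < 512 := by show u &&& 511 < 512; exact Nat.and_lt_two_pow u (n := 9) (by norm_num)
  have hbits : ∀ t : Fin 9, bit b t = bit u t ∧ bit a t = bit u (9 + t) := fun t => ⟨by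
      rw [show b = Nat.land u (2 ^ 9 - 1) from rfl, bit_mask]; simp, bit_shr u 9 t⟩
  have hab : Nat.lor b (Nat.shiftLeft a 9) = u := by
    refine Nat.eq_of_testBit_eq fun i => ?_
    show (b ||| a <<< 9).testBit i = _
    rw [Nat.testBit_or, Nat.testBit_shiftLeft, show b.testBit i = (decide (i < 9) && u.testBit i) from by
      rw [← bit_eq_testBit, ← bit_eq_testBit, show b = Nat.land u (2 ^ 9 - 1) from rfl, bit_mask],
      show a.testBit (i - 9) = u.testBit (9 + (i - 9)) from Nat.testBit_shiftRight ..]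
    by_cases hi : i < 9
    · simp [hi, show ¬ 9 ≤ i by omega]
    · simp [hi, show 9 ≤ i by omega]
  have hor : ∀ t : Fin 9, bit (Nat.lor a b) t = (bit u (9 + t) || bit u t) := fun t => by
    rw [bit_eq_testBit, show Nat.lor a b = a ||| b from rfl, Nat.testBit_or, ← bit_eq_testBit, ← bit_eq_testBit,
      (hbits t).1, (hbits t).2]
  have hsum : (∑ t : Fin 9, if bit (Nat.lor a b) t then (1 : K4) else 0) = 0 := by
    refine Eq.trans (Finset.sum_congr rfl fun t _ => ?_) h3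
    rw [hor t, show toV 9 u t = ofBits (bit u t) (bit u (9 + t)) from rfl, cube_bits]
  have hlor : Nat.lor a b < 512 := Nat.or_lt_two_pow (n := 9) (by simpa using ha) (by simpa using hb)
  have hp : (∑ t : Fin 9, if bit (Nat.lor a b) t then (1 : K4) else 0) =
      if bit parity9 (Nat.lor a b) then 1 else 0 := of_decide_eq_true (allB_spec parity_ok hlor)
  have hscan : scanOK lineIso linePosIso 43605 a = true := by
    rcases (show a < 128 ∨ (128 ≤ a ∧ a < 256) ∨ (256 ≤ a ∧ a < 384) ∨ 384 ≤ a by omega) with h | h | h | h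
    · exact rangeB_spec scan0_ok (Nat.zero_le a) (show a < 0 + 128 by omega)
    · exact rangeB_spec scan1_ok h.1 (show a < 128 + 128 by omega)
    · exact rangeB_spec scan2_ok h.1 (show a < 256 + 128 by omega)
    · exact rangeB_spec scan3_ok h (show a < 384 + 128 by omega)
  have := allB_spec hscan hb
  simp only [Bool.or_eq_true, Nat.beq_eq] at this
  rcases this with (h | h) | h
  · rw [hsum, if_pos h] at hp
    exact absurd hp (by decide)
  · exfalso
    refine hx (funext fun t => ?_)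
    have := hor t
    rw [h, bit_zero, eq_comm, Bool.or_eq_false_iff] at this
    rw [show toV 9 u t = ofBits (bit u t) (bit u (9 + t)) from rfl, this.1, this.2]
    rfl
  · rw [hab] at h
    exact listed_spec h

variable {F : Type} [Field F] [Fintype F] {ω : F}

/-- The change of model on vectors. -/
def vecMap (φ : K4 →+* F) (x : Fin 9 → K4) : Cfsg.Spor.F9 → F := fun z => φ (x (ptIdx z))

theorem vecMap_smul (φ : K4 →+* F) (c : K4) (x : Fin 9 → K4) : vecMap φ (c • x) = φ c • vecMap φ x := by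
  funext z; simp [vecMap]

theorem vecMap_mulVec (φ : K4 →+* F) (A : Matrix (Fin 9) (Fin 9) K4) (x : Fin 9 → K4) :
    modelMap φ A *ᵥ vecMap φ x = vecMap φ (A *ᵥ x) := by
  funext w
  simp only [Matrix.mulVec, dotProduct, modelMap_apply, vecMap, map_sum, map_mul]
  exact Fintype.sum_equiv ptEquiv _ (fun t => φ (A (ptIdx w) t) * φ (x t)) fun z => rfl

theorem image_iff (φ : K4 →+* F) (hw : φ K4.w = ω) (M : Matrix Cfsg.Spor.F9 Cfsg.Spor.F9 F) :
    (∃ g ∈ Cfsg.Spor.threeJ3 F ω, (g : Matrix Cfsg.Spor.F9 Cfsg.Spor.F9 F) = M) ↔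
      ∃ A ∈ tripleImage, modelMap φ A = M := by
  constructor
  · rintro ⟨g, hg, rfl⟩
    rw [← coverGL_range φ hw] at hg
    obtain ⟨A, rfl⟩ := hg
    exact ⟨_, ⟨A, A.2, rfl⟩, (coverGL_coe φ A).symm⟩
  · rintro ⟨_, ⟨A, hA, rfl⟩, rfl⟩
    exact ⟨coverGL φ ⟨A, hA⟩, coverGL_range φ hw ▸ ⟨_, rfl⟩, coverGL_coe φ ⟨A, hA⟩⟩

theorem vec_unit : toV 9 1 = Pi.single (0 : Fin 9) (1 : K4) := unit_col 0

theorem vecMap_unit (φ : K4 →+* F) : vecMap φ (toV 9 1) = Pi.single (0 : Cfsg.Spor.F9) (1 : F) := by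
  funext z
  rw [vecMap, vec_unit]
  have hz : ptIdx z = 0 ↔ z = 0 := by revert z; decide
  by_cases h : z = 0
  · rw [hz.2 h, h, Pi.single_eq_same, Pi.single_eq_same, map_one]
  · rw [Pi.single_eq_of_ne (mt hz.1 h), Pi.single_eq_of_ne h, map_zero]

theorem unit_lines (hF : Fintype.card F = 4) (hω : ω ^ 2 + ω + 1 = 0) :
    {L : Submodule F (Cfsg.Spor.F9 → F) | ∃ g ∈ Cfsg.Spor.threeJ3 F ω,
      L = F ∙ ((g : Matrix Cfsg.Spor.F9 Cfsg.Spor.F9 F) *ᵥ (Pi.single (0 : Cfsg.Spor.F9) (1 : F) :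
        Cfsg.Spor.F9 → F))}.ncard = 23256 := by
  set φ := fourHom hF hω
  have hw : φ K4.w = ω := rfl
  have hb := fourHom_bijective hF hω
  let f : Fin 23256 → Submodule F (Cfsg.Spor.F9 → F) := fun i => F ∙ vecMap φ (toV 9 (codeAt lineUnit i))
  have hspan : ∀ {c : K4}, c ≠ 0 → ∀ x : Fin 9 → K4, F ∙ vecMap φ (c • x) = F ∙ vecMap φ x := fun {c} hc x => by
    rw [vecMap_smul, Submodule.span_singleton_smul_eq (IsUnit.mk0 _ (fun e => hc (φ.injective (e.trans φ.map_zero.symm))))]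
  have hinj : Function.Injective f := fun i j e => by
    have hm : vecMap φ (toV 9 (codeAt lineUnit i)) ∈ F ∙ vecMap φ (toV 9 (codeAt lineUnit j)) := by
      have hself := Submodule.mem_span_singleton_self (R := F) (vecMap φ (toV 9 (codeAt lineUnit i)))
      rwa [show F ∙ vecMap φ (toV 9 (codeAt lineUnit i)) = F ∙ vecMap φ (toV 9 (codeAt lineUnit j)) from e] at hself
    obtain ⟨a, ha⟩ := Submodule.mem_span_singleton.1 hm
    obtain ⟨c, rfl⟩ := hb.2 a
    rw [← vecMap_smul] at ha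
    have he : toV 9 (codeAt lineUnit i) = c • toV 9 (codeAt lineUnit j) := funext fun t => φ.injective (by
      have := (congrFun ha (ptEquiv.symm t)).symm
      rwa [vecMap, vecMap, ← ptEquiv_apply, Equiv.apply_symm_apply] at this)
    refine Fin.ext (unitOrbit.distinct i.2 j.2 (fun hc => (unitOrbit.bound i.2).1 ?_) he)
    rw [hc, zero_smul, ← toV_zero 9] at he
    exact toV_inj (unitOrbit.code_lt i.2).1 (by norm_num) he
  have hset : {L : Submodule F (Cfsg.Spor.F9 → F) | ∃ g ∈ Cfsg.Spor.threeJ3 F ω,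
      L = F ∙ ((g : Matrix Cfsg.Spor.F9 Cfsg.Spor.F9 F) *ᵥ (Pi.single (0 : Cfsg.Spor.F9) (1 : F) :
        Cfsg.Spor.F9 → F))} = Set.range f := by
    ext Lx
    constructor
    · rintro ⟨g, hg, rfl⟩
      obtain ⟨A, hA, e⟩ := (image_iff φ hw _).1 ⟨g, hg, rfl⟩
      obtain ⟨A0, hA0, c0, hc0, e0⟩ := unitOrbit.reached 0 (by norm_num)
      have hs : codeAt lineUnit 0 = 1 := by
        have h := unitOrbit.line 0 (by norm_num)
        simp only [lineOK, Bool.and_eq_true] at h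
        exact Nat.eq_of_beq_eq_true h.1.1.2
      obtain ⟨j, hj, c, hc, e'⟩ := unitOrbit.closed hA 0 (by norm_num)
      rw [hs] at e'
      refine ⟨⟨j, hj⟩, ?_⟩
      rw [← e, ← vecMap_unit φ, vecMap_mulVec, e']
      exact (hspan hc _).symm
    · rintro ⟨i, rfl⟩
      obtain ⟨A, hA, c, hc, e⟩ := unitOrbit.reached i i.2
      obtain ⟨g, hg, eg⟩ := (image_iff φ hw _).2 ⟨A, hA, rfl⟩
      refine ⟨g, hg, ?_⟩
      show F ∙ _ = _
      rw [e, hspan hc, eg, ← vecMap_unit φ, vecMap_mulVec]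
  rw [hset, Set.ncard_range_of_injective hinj, Nat.card_fin]

theorem iso_transitive (hF : Fintype.card F = 4) (hω : ω ^ 2 + ω + 1 = 0) :
    ∀ v w : Cfsg.Spor.F9 → F, v ≠ 0 → w ≠ 0 → ∑ z, (v z) ^ 3 = 0 → ∑ z, (w z) ^ 3 = 0 →
      ∃ g ∈ Cfsg.Spor.threeJ3 F ω, ∃ c : F, c ≠ 0 ∧ (g : Matrix Cfsg.Spor.F9 Cfsg.Spor.F9 F) *ᵥ v = c • w := by
  set φ := fourHom hF hω
  have hw : φ K4.w = ω := rfl
  have hb := fourHom_bijective hF hω
  intro v w hv hw0 hv3 hw3
  have pull : ∀ u : Cfsg.Spor.F9 → F, u ≠ 0 → ∑ z, (u z) ^ 3 = 0 →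
      ∃ A ∈ tripleImage, ∃ c : K4, c ≠ 0 ∧ u = vecMap φ (c • (A *ᵥ toV 9 3)) := fun u hu h3 => by
    choose x hx using fun t => hb.2 (u (ptEquiv.symm t))
    have hux : vecMap φ x = u := funext fun z => by
      rw [vecMap, hx, ← ptEquiv_apply, Equiv.symm_apply_apply]
    obtain ⟨j, hj, c, hc, e⟩ := iso_listed (x := x) (fun e => hu (by
        rw [← hux, e]; funext z; simp [vecMap])) (φ.injective (by
        rw [map_sum, map_zero, ← h3]
        exact (Fintype.sum_equiv ptEquiv _ _ fun z => by rw [← hux, vecMap, map_pow, ptEquiv_apply]).symm))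
    obtain ⟨A, hA, d, hd, e'⟩ := isoOrbit.reached j hj
    exact ⟨A, hA, c * d, mul_ne_zero hc hd, by rw [← hux, e, e', smul_smul]⟩
  obtain ⟨A, hA, a, ha, rfl⟩ := pull v hv hv3
  obtain ⟨B, hB, b, hb', rfl⟩ := pull w hw0 hw3
  obtain ⟨gA, hgA, eA⟩ := (image_iff φ hw _).2 ⟨A, hA, rfl⟩
  obtain ⟨gB, hgB, eB⟩ := (image_iff φ hw _).2 ⟨B, hB, rfl⟩
  have hne : ∀ {c : K4}, c ≠ 0 → φ c ≠ 0 := fun hc e => hc (φ.injective (e.trans φ.map_zero.symm))
  refine ⟨gB * gA⁻¹, mul_mem hgB (inv_mem hgA), φ a / φ b, div_ne_zero (hne ha) (hne hb'), ?_⟩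
  rw [vecMap_smul, vecMap_smul, smul_smul, div_mul_cancel₀ _ (hne hb'), Matrix.mulVec_smul, ← vecMap_mulVec φ A,
    ← eA, Matrix.mulVec_mulVec, ← Units.val_mul, inv_mul_cancel_right, eB, vecMap_mulVec]

end Cfsg.Agent.RigidGraph.J3
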