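import Cfsg.Agent.Lib.RigidGraph.J3.MatDefs
import Cfsg.Agent.Lib.RigidGraph.J3.Copies

/-! The remaining checks on the matrices. -/

set_option autoImplicit false
set_option maxRecDepth 100000
set_option Elab.async false

namespace Cfsg.Agent.RigidGraph.J3

open Cfsg.Agent.RigidGraph.He (K4)

theorem cons_ok : cons.all conOK = true := by decide +kernel

theorem comb_ok : combOK = true := by decide +kernel

theorem lens_ok : cols0.length = 9 ∧ cols1.length = 9 := by decide +kernel

theorem sep_ok : (allB (fun k => decide (dotP sepF (bvec (slotT copy0 0) k) = 0)) 4 &&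
    decide (dotP sepF (bvec 0 sepJ) ≠ 0) && Nat.blt sepJ 4) = true := by decide +kernel

theorem unit_vec : ∀ t r : Fin 9, toV 9 (Nat.shiftLeft 1 t.1) r = if r = t then 1 else 0 := by decide +kernel

theorem order0_ok : ∀ t : Fin 9, (appP cols0)^[19] (Nat.shiftLeft 1 t.1) = Nat.shiftLeft 1 t.1 := by decide +kernel

theorem order1_ok : ∀ t : Fin 9, (appP cols1)^[19] (Nat.shiftLeft 1 t.1) = Nat.shiftLeft 1 t.1 := by decide +kernel

theorem omega_ok : ∀ t : Fin 9, (fun v => appP cols0 (appP cols0 (appP cols1 v)))^[19] (Nat.shiftLeft 1 t.1) =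
    smulP 9 2 (Nat.shiftLeft 1 t.1) := by decide +kernel

theorem unitary0_ok : ∀ a b : Fin 9,
    (∑ t : Fin 9, matP cols0 t a * (matP cols0 t b * matP cols0 t b)) = if a = b then 1 else 0 := by decide +kernel

theorem unitary1_ok : ∀ a b : Fin 9,
    (∑ t : Fin 9, matP cols1 t a * (matP cols1 t b * matP cols1 t b)) = if a = b then 1 else 0 := by decide +kernel

end Cfsg.Agent.RigidGraph.J3
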