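import Cfsg.Agent.Lib.RigidGraph.J3.MatDefs
import Cfsg.Agent.Lib.RigidGraph.J3.Copies

/-! Generator 1 on the subspaces. -/

set_option autoImplicit false
set_option maxRecDepth 100000
set_option Elab.async false

namespace Cfsg.Agent.RigidGraph.J3

theorem move1_3_ok : rangeB (moveOK cols1 coord1 copy1) 4617 1539 = true := by decide +kernel

end Cfsg.Agent.RigidGraph.J3
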