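import Cfsg.Agent.Lib.RigidGraph.J3.Group
import Cfsg.Agent.Lib.RigidGraph.J3.MatSem
import Cfsg.Agent.Lib.RigidGraph.J3.MatChecks
import Cfsg.Agent.Lib.RigidGraph.J3.Move0_0
import Cfsg.Agent.Lib.RigidGraph.J3.Move0_1
import Cfsg.Agent.Lib.RigidGraph.J3.Move0_2
import Cfsg.Agent.Lib.RigidGraph.J3.Move0_3
import Cfsg.Agent.Lib.RigidGraph.J3.Move1_0
import Cfsg.Agent.Lib.RigidGraph.J3.Move1_1
import Cfsg.Agent.Lib.RigidGraph.J3.Move1_2
import Cfsg.Agent.Lib.RigidGraph.J3.Move1_3

/-!
A triple cover in the special unitary group of dimension 9 over four elements: two matrices permute 6156 subspaces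
of dimension 4 as the two generators permute the points, and only scalars fix all of them.
-/

set_option autoImplicit false
set_option maxRecDepth 100000

namespace Cfsg.Agent.RigidGraph.J3

open Matrix
open Cfsg.Agent.RigidGraph.He (K4)

attribute [local irreducible] rowsB rowsN rowsO nodes prog levels cover graph copy0 copy1 coord0 coord1 subBasis
  cols0 cols1 cons combs

/-- The special unitary group. -/
abbrev SU9 : Type := ↥(Cfsg.SU 9 K4 2)

/-- The underlying matrix. -/
def umat (A : SU9) : Matrix (Fin 9) (Fin 9) K4 := ((A : Matrix.SpecialLinearGroup (Fin 9) K4) : Matrix (Fin 9) (Fin 9) K4)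

theorem umat_mul (A B : SU9) : umat (A * B) = umat A * umat B := rfl

theorem umat_one : umat 1 = 1 := rfl

theorem umat_pow (A : SU9) : ∀ m : ℕ, umat (A ^ m) = umat A ^ m := by
  intro m
  induction m with
  | zero => rw [pow_zero, pow_zero, umat_one]
  | succ m ih => rw [pow_succ, pow_succ, umat_mul, ih]

theorem umat_injective : Function.Injective umat := fun _ _ h => Subtype.ext (Subtype.ext h)

theorem unit_col (t : Fin 9) : toV 9 (Nat.shiftLeft 1 t.1) = Pi.single t (1 : K4) := by
  funext r; rw [unit_vec t r, Pi.single_apply]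

theorem pow_eq_one {cols : List ℕ} (hl : cols.length = 9)
    (h : ∀ t : Fin 9, (appP cols)^[19] (Nat.shiftLeft 1 t.1) = Nat.shiftLeft 1 t.1) : matP cols ^ 19 = 1 :=
  Matrix.ext_of_mulVec_single fun t => by rw [← unit_col, ← toV_iter hl, h t, Matrix.one_mulVec]

theorem det_one {M : Matrix (Fin 9) (Fin 9) K4} (h : M ^ 19 = 1) : M.det = 1 := by
  have key : ∀ d : K4, d ^ 19 = 1 → d = 1 := by decide +kernel
  exact key _ (by rw [← Matrix.det_pow, h, Matrix.det_one])

/-- An element from its columns. -/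
def mkSU (cols : List ℕ) (h19 : matP cols ^ 19 = 1)
    (hu : ∀ a b : Fin 9, (∑ t : Fin 9, matP cols t a * (matP cols t b * matP cols t b)) = if a = b then 1 else 0) :
    SU9 :=
  ⟨⟨matP cols, det_one h19⟩, fun u v => preserves_of_unitary hu u v⟩

/-- The first matrix. -/
def matX : SU9 := mkSU cols0 (pow_eq_one lens_ok.1 order0_ok) unitary0_ok

/-- The second matrix. -/
def matY : SU9 := mkSU cols1 (pow_eq_one lens_ok.2 order1_ok) unitary1_ok

/-- The first permutation. -/
noncomputable def permX : Equiv.Perm (Fin 6156) := permOf 6156 (nodes.getD 0 (0, 0))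

/-- The second permutation. -/
noncomputable def permY : Equiv.Perm (Fin 6156) := permOf 6156 (nodes.getD 1 (0, 0))

/-- The subspace attached to a point. -/
noncomputable def sub4 (i : ℕ) : Submodule K4 (Fin 9 → K4) :=
  Submodule.span K4 (Set.range fun k : Fin 4 => toV 9 (bvec i k))

theorem bvec_mem (i : ℕ) {k : ℕ} (hk : k < 4) : toV 9 (bvec i k) ∈ sub4 i := Submodule.subset_span ⟨⟨k, hk⟩, rfl⟩

theorem move_gen {cols : List ℕ} {C T : Trie} {e : Elt} (hl : cols.length = 9) (he : permOK 6156 e = true)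
    (hT : copyOK 6156 e.1 T = true) (h : ∀ i < 6156, moveOK cols C T i = true) (i : Fin 6156) {u : Fin 9 → K4}
    (hu : u ∈ sub4 i) : matP cols *ᵥ u ∈ sub4 (permOf 6156 e i : Fin 6156) := by
  induction hu using Submodule.span_induction with
  | mem x hx =>
    obtain ⟨k, rfl⟩ := hx
    rw [← toV_appP hl, Nat.eq_of_beq_eq_true (allB_spec (h i i.2) k.2)]
    have e' : slotT T i = ((permOf 6156 e i : Fin 6156) : ℕ) := by
      rw [permOf_val he]; exact (Nat.eq_of_beq_eq_true (allB_spec hT i.2)).symm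
    rw [e']
    refine combP_mem 9 _ _ _ fun v hv => ?_
    simp only [List.mem_cons, List.not_mem_nil, or_false] at hv
    rcases hv with rfl | rfl | rfl | rfl <;> exact bvec_mem _ (by norm_num)
  | zero => rw [Matrix.mulVec_zero]; exact zero_mem _
  | add a b _ _ ha hb => rw [Matrix.mulVec_add]; exact add_mem ha hb
  | smul c a _ ha => rw [Matrix.mulVec_smul]; exact Submodule.smul_mem _ c ha

theorem four {f : ℕ → Bool} (a : rangeB f 0 1539 = true) (b : rangeB f 1539 1539 = true)
    (c : rangeB f 3078 1539 = true) (d : rangeB f 4617 1539 = true) : ∀ i < 6156, f i = true := fun i hi => by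
  rcases (show i < 1539 ∨ (1539 ≤ i ∧ i < 3078) ∨ (3078 ≤ i ∧ i < 4617) ∨ 4617 ≤ i by omega) with h | h | h | h
  · exact rangeB_spec a (Nat.zero_le i) (show i < 0 + 1539 by omega)
  · exact rangeB_spec b h.1 (show i < 1539 + 1539 by omega)
  · exact rangeB_spec c h.1 (show i < 3078 + 1539 by omega)
  · exact rangeB_spec d h (show i < 4617 + 1539 by omega)

theorem matX_mat : umat matX = matP cols0 := rfl

theorem matY_mat : umat matY = matP cols1 := rfl

/-- Pairs of a permutation and a matrix. -/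
noncomputable def jpairs : Subgroup (Equiv.Perm (Fin 6156) × SU9) := Subgroup.closure {(permX, matX), (permY, matY)}

theorem jpairs_move {x : Equiv.Perm (Fin 6156) × SU9} (hx : x ∈ jpairs) :
    ∀ i : Fin 6156, ∀ u ∈ sub4 i, umat x.2 *ᵥ u ∈ sub4 (x.1 i : Fin 6156) := by
  haveI : Finite SU9 := Finite.of_injective umat umat_injective
  rw [jpairs, ← Subgroup.mem_toSubmonoid, Subgroup.closure_toSubmonoid_of_finite] at hx
  induction hx using Submonoid.closure_induction with
  | mem y hy =>
    rcases hy with rfl | rfl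
    · intro i u hu
      simp only [matX_mat, permX]
      exact move_gen lens_ok.1 gen_perm.1 copy0_ok (four move0_0_ok move0_1_ok move0_2_ok move0_3_ok) i hu
    · intro i u hu
      simp only [matY_mat, permY]
      exact move_gen lens_ok.2 gen_perm.2 copy1_ok (four move1_0_ok move1_1_ok move1_2_ok move1_3_ok) i hu
  | one => intro i u hu; rw [Prod.snd_one, umat_one, Matrix.one_mulVec]; exact hu
  | mul a b _ _ ha hb =>
    intro i u hu
    rw [Prod.snd_mul, umat_mul, ← Matrix.mulVec_mulVec]
    exact ha _ _ (hb i u hu)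

/-- A functional vanishing on a subspace. -/
theorem dotP_vanish {f i : ℕ} (h : ∀ k < 4, dotP f (bvec i k) = 0) {u : Fin 9 → K4} (hu : u ∈ sub4 i) :
    ∑ t : Fin 9, toV 9 f t * u t = 0 := by
  induction hu using Submodule.span_induction with
  | mem x hx => obtain ⟨k, rfl⟩ := hx; exact h k k.2
  | zero => simp
  | add a b _ _ ha hb => simp only [Pi.add_apply, mul_add, Finset.sum_add_distrib, ha, hb, add_zero]
  | smul c a _ ha =>
    simp only [Pi.smul_apply, smul_eq_mul, mul_left_comm _ c, ← Finset.mul_sum, ha, mul_zero]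

/-- The pairing of a matrix with a tensor. -/
def pairing (M : Matrix (Fin 9) (Fin 9) K4) (v : Fin 81 → K4) : K4 :=
  ∑ a : Fin 9, ∑ c : Fin 9, M a c * v ⟨9 * a.1 + c.1, by omega⟩

theorem pairing_linear (M : Matrix (Fin 9) (Fin 9) K4) :
    ∃ S : Submodule K4 (Fin 81 → K4), ∀ v, v ∈ S ↔ pairing M v = 0 :=
  ⟨{ carrier := {v | pairing M v = 0}
     zero_mem' := by simp [pairing]
     add_mem' := fun {a b} ha hb => by
       simp only [Set.mem_setOf_eq, pairing, Pi.add_apply, mul_add, Finset.sum_add_distrib] at ha hb ⊢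
       rw [ha, hb, add_zero]
     smul_mem' := fun c a ha => by
       simp only [Set.mem_setOf_eq, pairing, Pi.smul_apply, smul_eq_mul, mul_left_comm _ c, ← Finset.mul_sum] at ha ⊢
       rw [ha, mul_zero] }, fun _ => Iff.rfl⟩

theorem pairing_single (M : Matrix (Fin 9) (Fin 9) K4) (a c : Fin 9) :
    pairing M (fun t => if t.1 = 9 * a.1 + c.1 then 1 else 0) = M a c := by
  simp only [pairing]
  rw [Finset.sum_eq_single a, Finset.sum_eq_single c]
  · rw [if_pos rfl, mul_one]
  · intro x _ hx
    rw [if_neg, mul_zero]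
    intro e; exact hx (Fin.ext (by omega))
  · intro h; exact absurd (Finset.mem_univ c) h
  · intro x _ hx
    refine Finset.sum_eq_zero fun y _ => ?_
    rw [if_neg, mul_zero]
    intro e; exact hx (Fin.ext (by omega))
  · intro h; exact absurd (Finset.mem_univ a) h

theorem bit_one_shl (s i : ℕ) : bit (Nat.shiftLeft 1 s) i = decide (i = s) := by
  rw [Bool.eq_iff_iff, bit_shiftLeft_one, decide_eq_true_eq]

theorem toV_target (a c : Fin 9) : toV 81 (target a.1 c.1) =
    fun t => (if t.1 = 9 * a.1 + c.1 then 1 else 0) + (if a = c ∧ t.1 = 0 ∧ 9 * a.1 + c.1 ≠ 0 then 1 else 0) := by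
  funext t
  have ha := a.2
  have hc := c.2
  have ht := t.2
  simp only [toV, target]
  by_cases hac : a = c
  · subst hac
    rw [show Nat.beq a.1 a.1 = true from by simp, cond_true]
    simp only [show ∀ x y i, bit (Nat.lor x y) i = (bit x i || bit y i) from fun x y i => by
      show bit (x ||| y) i = _
      rw [bit_eq_testBit, bit_eq_testBit, bit_eq_testBit, Nat.testBit_or]]
    rw [bit_one_shl, bit_one_shl, show (1 : ℕ) = Nat.shiftLeft 1 0 from rfl, bit_one_shl, bit_one_shl,
      decide_eq_false (show ¬ 81 + (t : ℕ) = 9 * a.1 + a.1 by omega), decide_eq_false (show ¬ 81 + (t : ℕ) = 0 by omega)]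
    by_cases h1 : (t : ℕ) = 9 * a.1 + a.1 <;> by_cases h2 : (t : ℕ) = 0
    · rw [decide_eq_true h1, decide_eq_true h2, if_pos h1, if_neg (by omega)]; rfl
    · rw [decide_eq_true h1, decide_eq_false h2, if_pos h1, if_neg (by omega)]; rfl
    · rw [decide_eq_false h1, decide_eq_true h2, if_neg h1, if_pos ⟨trivial, h2, by omega⟩]; rfl
    · rw [decide_eq_false h1, decide_eq_false h2, if_neg h1, if_neg (by omega)]; rfl
  · rw [show Nat.beq a.1 c.1 = false from by simp [← Bool.not_eq_true, Fin.val_inj, hac], cond_false,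
      bit_one_shl, bit_one_shl, decide_eq_false (show ¬ 81 + (t : ℕ) = 9 * a.1 + c.1 by omega),
      if_neg (show ¬ (a = c ∧ (t : ℕ) = 0 ∧ 9 * a.1 + c.1 ≠ 0) from fun h => hac h.1), add_zero]
    by_cases h1 : (t : ℕ) = 9 * a.1 + c.1
    · rw [decide_eq_true h1, if_pos h1]; rfl
    · rw [decide_eq_false h1, if_neg h1]; rfl

theorem scalar_of_fix {M : Matrix (Fin 9) (Fin 9) K4}
    (h : ∀ i : Fin 6156, ∀ u ∈ sub4 i, M *ᵥ u ∈ sub4 i) : M = M 0 0 • 1 := by
  obtain ⟨S, hS⟩ := pairing_linear M
  have hcons : ∀ v ∈ cons.map (fun q => q.2.2.2), toV 81 v ∈ S := by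
    intro v hv
    obtain ⟨⟨i, j, f, K⟩, hp, rfl⟩ := List.mem_map.1 hv
    have hok := List.all_eq_true.1 cons_ok _ hp
    simp only [conOK, Bool.and_eq_true, Nat.blt_eq, decide_eq_true_eq] at hok
    obtain ⟨⟨⟨hi, hj⟩, hperp⟩, hK⟩ := hok
    rw [hS]
    have hv0 := dotP_vanish (fun k hk => by simpa using allB_spec hperp hk)
      (h ⟨i, hi⟩ _ (bvec_mem i hj))
    simp only [pairing]
    rw [← hv0]
    refine Finset.sum_congr rfl fun a _ => ?_
    simp only [Matrix.mulVec, dotProduct, Finset.mul_sum]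
    exact Finset.sum_congr rfl fun c _ => by rw [hK a c]; ring
  have hc := comb_ok
  simp only [combOK, Bool.and_eq_true, List.all_eq_true, Nat.beq_eq] at hc
  obtain ⟨hall, hcov⟩ := hc
  ext a c
  rw [Matrix.smul_apply, Matrix.one_apply, smul_eq_mul, mul_ite, mul_one, mul_zero]
  by_cases h0 : a.1 = 0 ∧ c.1 = 0
  · rw [show a = 0 from Fin.ext h0.1, show c = 0 from Fin.ext h0.2, if_pos rfl]
  have hac := allB_spec (allB_spec hcov a.2) c.2
  simp only [Bool.or_eq_true, Bool.and_eq_true, Nat.beq_eq, List.any_eq_true] at hac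
  obtain ⟨⟨x, y, cs⟩, hp, rfl, rfl⟩ := hac.resolve_left h0
  have hz := combP_mem 81 S cs _ hcons
  rw [hall _ hp, hS, toV_target] at hz
  have hadd : ∀ u v : Fin 81 → K4, pairing M (fun t => u t + v t) = pairing M u + pairing M v := fun u v => by
    simp only [pairing, mul_add, Finset.sum_add_distrib]
  rw [hadd, pairing_single] at hz
  by_cases hx : a = c
  · rw [if_pos hx]
    have e : pairing M (fun t => if a = c ∧ (t : ℕ) = 0 ∧ 9 * a.1 + c.1 ≠ 0 then 1 else 0) = M 0 0 := by
      rw [← pairing_single M 0 0]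
      congr 1
      funext t
      have : 9 * a.1 + c.1 ≠ 0 := by omega
      by_cases ht : (t : ℕ) = 0
      · rw [if_pos ⟨hx, ht, this⟩, if_pos (show (t : ℕ) = 9 * ((0 : Fin 9) : ℕ) + ((0 : Fin 9) : ℕ) by simpa using ht)]
      · rw [if_neg (fun h => ht h.2.1), if_neg (fun h => ht (by simpa using h))]
    rw [e] at hz
    have key : ∀ p q : K4, p + q = 0 → p = q := by decide
    exact key _ _ hz
  · rw [if_neg hx]
    have e : pairing M (fun t => if a = c ∧ (t : ℕ) = 0 ∧ 9 * a.1 + c.1 ≠ 0 then 1 else 0) = 0 := by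
      simp [pairing, hx]
    rw [e, add_zero] at hz
    exact hz

/-- The matrices generated. -/
noncomputable def tripleCover : Subgroup SU9 := Subgroup.closure {matX, matY}

theorem jpairs_fst : jpairs.map (MonoidHom.fst (Equiv.Perm (Fin 6156)) SU9) = j3Group := by
  rw [jpairs, MonoidHom.map_closure, j3Group, grp, Set.image_pair]
  simp only [MonoidHom.coe_fst, permX, permY]

theorem jpairs_snd : jpairs.map (MonoidHom.snd (Equiv.Perm (Fin 6156)) SU9) = tripleCover := by
  rw [jpairs, MonoidHom.map_closure, tripleCover, Set.image_pair]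
  simp only [MonoidHom.coe_snd]

/-- The projection to the permutations. -/
noncomputable def toJ3 : ↥jpairs →* ↥j3Group :=
  (((MonoidHom.fst (Equiv.Perm (Fin 6156)) SU9).comp jpairs.subtype).codRestrict j3Group fun x =>
    jpairs_fst ▸ Subgroup.mem_map_of_mem _ x.2)

/-- The projection to the matrices. -/
noncomputable def toMat : ↥jpairs →* ↥tripleCover :=
  (((MonoidHom.snd (Equiv.Perm (Fin 6156)) SU9).comp jpairs.subtype).codRestrict tripleCover fun x =>
    jpairs_snd ▸ Subgroup.mem_map_of_mem _ x.2)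

theorem toJ3_surjective : Function.Surjective toJ3 := fun g => by
  have hg : (g : Equiv.Perm (Fin 6156)) ∈ jpairs.map (MonoidHom.fst (Equiv.Perm (Fin 6156)) SU9) := by
    rw [jpairs_fst]; exact g.2
  obtain ⟨x, hx, e⟩ := hg
  exact ⟨⟨x, hx⟩, Subtype.ext e⟩

theorem toMat_surjective : Function.Surjective toMat := fun A => by
  have hA : (A : SU9) ∈ jpairs.map (MonoidHom.snd (Equiv.Perm (Fin 6156)) SU9) := by
    rw [jpairs_snd]; exact A.2
  obtain ⟨x, hx, e⟩ := hA
  exact ⟨⟨x, hx⟩, Subtype.ext e⟩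

theorem toJ3_coe (x : ↥jpairs) : ((toJ3 x : ↥j3Group) : Equiv.Perm (Fin 6156)) = x.1.1 := rfl

theorem toMat_coe (x : ↥jpairs) : ((toMat x : ↥tripleCover) : SU9) = x.1.2 := rfl

theorem permX_mem : permX ∈ j3Group := by
  rw [j3Group, grp, permX]
  exact Subgroup.subset_closure (Set.mem_insert _ _)

theorem toMat_injective : Function.Injective toMat := by
  haveI : IsSimpleGroup ↥j3Group := isJ3_j3Group.1
  rcases ((MonoidHom.normal_ker toMat).map _ toJ3_surjective).eq_bot_or_eq_top
    with h | h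
  · rw [← MonoidHom.ker_eq_bot_iff, eq_bot_iff]
    intro x hx
    have h1 : toJ3 x = 1 := Subgroup.mem_bot.1 (h ▸ Subgroup.mem_map_of_mem toJ3 hx)
    rw [Subgroup.mem_bot]
    exact Subtype.ext (Prod.ext (congrArg Subtype.val h1) (congrArg Subtype.val (MonoidHom.mem_ker.1 hx)))
  · exfalso
    obtain ⟨x, hx, e⟩ := (h ▸ Subgroup.mem_top _ :
      (⟨permX, permX_mem⟩ : ↥j3Group) ∈ toMat.ker.map toJ3)
    have e1 : x.1.1 = permX := by rw [← toJ3_coe, e]
    have e2 : x.1.2 = 1 := by rw [← toMat_coe, MonoidHom.mem_ker.1 hx, OneMemClass.coe_one]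
    have hs := sep_ok
    simp only [Bool.and_eq_true, decide_eq_true_eq, Nat.blt_eq] at hs
    obtain ⟨⟨hperp, hne⟩, hj⟩ := hs
    have hm := jpairs_move x.2 ⟨0, by norm_num⟩ _ (bvec_mem 0 hj)
    rw [e1, e2, umat_one, Matrix.one_mulVec] at hm
    have hv : ((permX ⟨0, by norm_num⟩ : Fin 6156) : ℕ) = slotT copy0 0 := by
      rw [permX, permOf_val gen_perm.1]
      exact Nat.eq_of_beq_eq_true (allB_spec copy0_ok (show 0 < 6156 by norm_num))
    rw [hv] at hm
    exact hne (dotP_vanish (fun k hk => by simpa using allB_spec hperp hk) hm)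

/-- The map to the group of permutations. -/
noncomputable def coverHom : ↥tripleCover →* ↥j3Group :=
  toJ3.comp (MulEquiv.ofBijective toMat ⟨toMat_injective, toMat_surjective⟩).symm.toMonoidHom

theorem coverHom_surjective : Function.Surjective coverHom :=
  toJ3_surjective.comp (MulEquiv.ofBijective toMat ⟨toMat_injective, toMat_surjective⟩).symm.surjective

theorem ker_scalar {A : ↥tripleCover} (h : coverHom A = 1) : umat A.1 = umat A.1 0 0 • 1 := by
  set e := MulEquiv.ofBijective toMat ⟨toMat_injective, toMat_surjective⟩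
  have hA : toMat (e.symm A) = A := e.apply_symm_apply A
  have h1 : (e.symm A).1.1 = 1 := congrArg Subtype.val (show toJ3 (e.symm A) = 1 from h)
  refine scalar_of_fix fun i u hu => ?_
  have hm := jpairs_move (e.symm A).2 i u hu
  rw [h1, Equiv.Perm.one_apply, show (e.symm A).1.2 = A.1 from congrArg Subtype.val hA] at hm
  exact hm

theorem center_j3Group : Subgroup.center ↥j3Group = ⊥ := by
  haveI : IsSimpleGroup ↥j3Group := isJ3_j3Group.1
  refine (inferInstance : (Subgroup.center ↥j3Group).Normal).eq_bot_or_eq_top.resolve_right fun h => ?_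
  haveI : IsMulCommutative ↥j3Group := ⟨⟨fun a b => (Subgroup.mem_center_iff.1 (h ▸ Subgroup.mem_top b) a)⟩⟩
  letI : CommGroup ↥j3Group := { (inferInstance : Group ↥j3Group) with mul_comm := mul_comm' }
  have hp := IsSimpleGroup.prime_card (α := ↥j3Group)
  rw [card_j3Group] at hp
  norm_num at hp

theorem center_eq_ker : Subgroup.center ↥tripleCover = coverHom.ker := by
  refine le_antisymm (fun A hA => ?_) (fun A hA => ?_)
  · rw [MonoidHom.mem_ker, ← Subgroup.mem_bot, ← center_j3Group, Subgroup.mem_center_iff]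
    intro g
    obtain ⟨B, rfl⟩ := coverHom_surjective g
    rw [← map_mul, ← map_mul, Subgroup.mem_center_iff.1 hA B]
  · rw [Subgroup.mem_center_iff]
    intro B
    refine Subtype.ext (umat_injective ?_)
    show umat (B.1 * A.1) = umat (A.1 * B.1)
    rw [umat_mul, umat_mul, ker_scalar (MonoidHom.mem_ker.1 hA), Matrix.mul_smul, Matrix.smul_mul, mul_one, one_mul]

/-- The quotient is the simple group. -/
noncomputable def coverQuot : ↥tripleCover ⧸ Subgroup.center ↥tripleCover ≃* ↥j3Group :=
  (QuotientGroup.quotientMulEquivOfEq center_eq_ker).trans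
    (QuotientGroup.quotientKerEquivOfSurjective coverHom coverHom_surjective)

theorem isJ3_quot : Cfsg.IsJ3 (↥tripleCover ⧸ Subgroup.center ↥tripleCover) := by
  obtain ⟨hs, hc⟩ := isJ3_j3Group
  exact ⟨coverQuot.isSimpleGroup, (Nat.card_congr coverQuot.toEquiv).trans hc⟩

/-- The scalar of order 3. -/
def omegaWord : SU9 := (matX * matX * matY) ^ 19

theorem omegaWord_mat : umat omegaWord = K4.ofDigit 2 • 1 := by
  refine Matrix.ext_of_mulVec_single fun t => ?_
  rw [omegaWord, umat_pow, Matrix.smul_mulVec, Matrix.one_mulVec, umat_mul, umat_mul]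
  have h : ∀ m v, toV 9 ((fun v => appP cols0 (appP cols0 (appP cols1 v)))^[m] v) =
      (umat matX * umat matX * umat matY) ^ m *ᵥ toV 9 v := by
    intro m
    induction m with
    | zero => intro v; simp
    | succ m ih =>
      intro v
      rw [Function.iterate_succ_apply', toV_appP lens_ok.1, toV_appP lens_ok.1, toV_appP lens_ok.2, ih, pow_succ']
      simp only [Matrix.mulVec_mulVec, Matrix.mul_assoc]
      rfl
  rw [← unit_col, ← h 19, omega_ok t, toV_smulP 9 _ 2 (by norm_num)]

theorem card_center : Nat.card ↥(Subgroup.center ↥tripleCover) = 3 := by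
  haveI : Finite SU9 := Finite.of_injective umat umat_injective
  have hX : matX ∈ tripleCover := Subgroup.subset_closure (Set.mem_insert _ _)
  have hY : matY ∈ tripleCover := Subgroup.subset_closure (Set.mem_insert_of_mem _ rfl)
  set W : ↥tripleCover := ⟨omegaWord, pow_mem (mul_mem (mul_mem hX hX) hY) 19⟩ with hW
  have hWc : W ∈ Subgroup.center ↥tripleCover := by
    rw [Subgroup.mem_center_iff]
    intro B
    refine Subtype.ext (umat_injective ?_)
    show umat (B.1 * omegaWord) = umat (omegaWord * B.1)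
    rw [umat_mul, umat_mul, omegaWord_mat, Matrix.mul_smul, Matrix.smul_mul, mul_one, one_mul]
  have hpow : ∀ m : ℕ, umat ((W ^ m : ↥tripleCover) : SU9) = (K4.ofDigit 2) ^ m • 1 := fun m => by
    rw [SubmonoidClass.coe_pow, umat_pow, show (W : SU9) = omegaWord from rfl, omegaWord_mat, smul_pow, one_pow]
  have hinj : ∀ {c d : K4}, c • (1 : Matrix (Fin 9) (Fin 9) K4) = d • 1 → c = d := fun e => by
    simpa using congrFun (congrFun e 0) 0
  have h3 : orderOf W = 3 := by
    haveI : Fact (Nat.Prime 3) := ⟨Nat.prime_three⟩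
    refine orderOf_eq_prime (Subtype.ext (umat_injective ?_)) fun e => ?_
    · rw [hpow, show (K4.ofDigit 2) ^ 3 = (1 : K4) by decide, one_smul]; rfl
    · have h1 := hpow 1
      rw [pow_one, e, OneMemClass.coe_one, umat_one, pow_one] at h1
      exact absurd (hinj ((one_smul K4 (1 : Matrix (Fin 9) (Fin 9) K4)).trans h1)) (by decide)
  have hle : Nat.card ↥(Subgroup.center ↥tripleCover) ≤ 3 := by
    rw [center_eq_ker]
    have hmem : ∀ A : ↥coverHom.ker, umat A.1.1 0 0 ≠ 0 := fun A hz => by
      have h1 := ker_scalar (MonoidHom.mem_ker.1 A.2)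
      rw [hz, zero_smul] at h1
      have h2 : (umat A.1.1).det = 1 := A.1.1.1.2
      rw [h1, Matrix.det_zero] at h2
      exact zero_ne_one h2
    refine (Nat.card_le_card_of_injective (fun A : ↥coverHom.ker => (⟨umat A.1.1 0 0, hmem A⟩ : {c : K4 // c ≠ 0}))
      fun A B e => Subtype.ext (Subtype.ext (umat_injective ?_))).trans ?_
    · rw [ker_scalar (MonoidHom.mem_ker.1 A.2), ker_scalar (MonoidHom.mem_ker.1 B.2),
        show umat A.1.1 0 0 = umat B.1.1 0 0 from congrArg Subtype.val e]
    · rw [Nat.card_eq_fintype_card]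
      decide
  refine le_antisymm hle ?_
  rw [← h3, ← Nat.card_zpowers]
  exact Subgroup.card_le_of_le (Subgroup.zpowers_le.2 hWc)

end Cfsg.Agent.RigidGraph.J3
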